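import Cfsg.Agent.E7P.Kf.Wt
import Cfsg.Agent.S1097
import Cfsg.Agent.R2.T1.Inf.LForm
import Cfsg.Agent.R2.T1.Five.TwoE_m3
import Cfsg.Agent.R2.T1.Inf.Dia
import Cfsg.Agent.BpExc.LangFr
import Cfsg.Agent.S2154
import Cfsg.Agent.R2.PX.Del_m3
import Cfsg.Agent.ChevFast.E7
import Cfsg.Agent.R2.H9.E6.Num_m3
import Cfsg.Agent.H179.SLC.Coc_m3
import Cfsg.Agent.Lib.AbelianFrobenius
import Cfsg.Agent.R2.T1.P3.Q3
import Cfsg.Agent.ChevFast.E8
import Cfsg.Agent.R2.H28.SL2.ExtY_m3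
import Cfsg.Agent.FastGrp
import Cfsg.Agent.Prune
set_option linter.all false

section
prune_inst 0x7ffdadf83bbde1dfdfff7e77a6d3cffc79933fffa6dff9433fe021ef2b9f6b8049c56b858be010fe1e43e21410b87b53fb7eeeffe86bd47ffffd5e341ffbec0fa5e63508519488300e280ff603f0770a6f3ffff7fbffffffffffffffffffffbeffbdffbfffff

-- part: E7P/Kf/Par
section
set_option linter.all false
open scoped Cfsg.Agent.FastGrp

/-!
# S5932: parabolic subgroups, weighted representations and the optimal parabolic subgroup (helper48)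

* `Pl K l` : the parabolic subgroup of the real coweight `l`;
* `WRep c R` : matrix representations with weights `c`;
* `bruhat`, `nL_mem`;
* `WRep.kempf` : the optimal parabolic subgroup of an unstable set of vectors.
-/

set_option autoImplicit false
set_option maxRecDepth 100000

namespace Cfsg.Agent.E7P.Kf

open Cfsg Cfsg.Lie Matrix
open Cfsg.Agent.ChevalleyStructure Cfsg.Agent.ChevalleyStructure.StBasic Cfsg.Agent.H129.StCover
open Cfsg.Agent.ChevalleyStructure.SteinbergKer Cfsg.Agent.ChevalleyStructure.SteinbergBruhat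
open Cfsg.Agent.H943.E7V.Block (D1 rho)
open Cfsg.Agent.H944.E7Two (e7T)
open Cfsg.Agent.R2.T1

universe u
variable {K : Type u} [Field K]

theorem xs_mul (r : ℕ) (s t : K) : xs K r s * xs K r t = xs K r (s + t) := St.Rels.stGen_add' r s t

theorem xs_inv (r : ℕ) (t : K) : (xs K r t)⁻¹ = xs K r (-t) := St.Rels.stGen_inv r t

theorem xs_zero (r : ℕ) : xs K r 0 = 1 := St.Rels.stGen_zero r

/-- the characters of the torus -/
def ch (c : Fin 7 → ℤ) (a : Fin chevE7.rank → Kˣ) : Kˣ := ∏ i : Fin chevE7.rank, a i ^ c i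

theorem ch_add (c d : Fin 7 → ℤ) (a : Fin chevE7.rank → Kˣ) : ch (c + d) a = ch c a * ch d a := by
  unfold ch
  rw [← Finset.prod_mul_distrib]
  exact Finset.prod_congr rfl fun i _ => zpow_add _ _ _

theorem ch_zero (a : Fin chevE7.rank → Kˣ) : ch 0 a = 1 := by
  unfold ch
  exact Finset.prod_eq_one fun i _ => zpow_zero _

theorem ch_neg (c : Fin 7 → ℤ) (a : Fin chevE7.rank → Kˣ) : ch (-c) a = (ch c a)⁻¹ := by
  apply eq_inv_of_mul_eq_one_left
  rw [← ch_add, neg_add_cancel, ch_zero]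

theorem ch_inv (c : Fin 7 → ℤ) (a : Fin chevE7.rank → Kˣ) : ch c a⁻¹ = (ch c a)⁻¹ := by
  unfold ch
  rw [← Finset.prod_inv_distrib]
  exact Finset.prod_congr rfl fun i _ => inv_zpow _ _

theorem ch_zsmul (m : ℤ) (c : Fin 7 → ℤ) (a : Fin chevE7.rank → Kˣ) : ch (m • c) a = ch c a ^ m := by
  unfold ch
  rw [← Finset.prod_zpow]
  exact Finset.prod_congr rfl fun i _ => by rw [← _root_.zpow_mul, mul_comm]; rfl

theorem ch_sum {ι : Type*} (s : Finset ι) (c : ι → Fin 7 → ℤ) (a : Fin chevE7.rank → Kˣ) :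
    ch (∑ t ∈ s, c t) a = ∏ t ∈ s, ch (c t) a := by
  classical
  induction s using Finset.induction_on with
  | empty => rw [Finset.sum_empty, Finset.prod_empty, ch_zero]
  | insert x s hx ih => rw [Finset.sum_insert hx, Finset.prod_insert hx, ch_add, ih]

theorem ch_single (c : Fin 7 → ℤ) (i : Fin chevE7.rank) (x : Kˣ) : ch c (Pi.mulSingle i x) = x ^ c i := by
  unfold ch
  rw [Finset.prod_eq_single i]
  · rw [Pi.mulSingle_eq_same]
  · intro j _ hj
    rw [Pi.mulSingle_eq_of_ne hj, _root_.one_zpow]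
  · intro h; exact absurd (Finset.mem_univ _) h

theorem ch_sAct (c : Fin 7 → ℤ) (j : Fin chevE7.rank) (a : Fin chevE7.rank → Kˣ) :
    ch c (sAct chevE7 K j a) = ch (c - c j • rc (chevE7.simple j)) a := by
  rw [sub_eq_add_neg, ch_add, ch_neg, ch_zsmul]
  unfold ch
  have h1 : ∀ i : Fin chevE7.rank, sAct chevE7 K j a i ^ c i = a i ^ c i *
      (if i = j then (∏ m, a m ^ chevE7.cartan m (chevE7.simple j))⁻¹ ^ c j else 1) := by
    intro i
    show (if i = j then _ else _) ^ _ = _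
    split_ifs with h
    · subst h
      rw [mul_zpow]
    · rw [mul_one]
  rw [Finset.prod_congr rfl fun i _ => h1 i, Finset.prod_mul_distrib, Finset.prod_ite_eq', if_pos (Finset.mem_univ _),
    _root_.inv_zpow]
  rfl

theorem exists_zpow_ne [Infinite K] {n : ℤ} (hn : n ≠ 0) : ∃ x : Kˣ, x ^ n ≠ 1 := by
  by_contra hc
  push Not at hc
  have : NeZero n.natAbs := ⟨Int.natAbs_ne_zero.2 hn⟩
  have h1 : ∀ x : Kˣ, x ∈ rootsOfUnity n.natAbs K := by
    intro x
    rw [mem_rootsOfUnity]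
    rcases Int.natAbs_eq n with h | h
    · rw [← zpow_natCast, ← h, hc]
    · have h2 := hc x⁻¹
      rwa [h, _root_.inv_zpow, _root_.zpow_neg, inv_inv, zpow_natCast] at h2
  have h2 : Finite Kˣ := Finite.of_injective (fun x : Kˣ => (⟨x, h1 x⟩ : rootsOfUnity n.natAbs K))
    fun x y h => congrArg Subtype.val h
  have h3 : Finite K := Finite.of_surjective (fun o : Option Kˣ => o.elim 0 Units.val) fun x => by
    by_cases hx : x = 0
    · exact ⟨none, hx.symm⟩
    · exact ⟨some (Units.mk0 x hx), rfl⟩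
  exact not_finite K

theorem ch_sep [Infinite K] {c d : Fin 7 → ℤ} (h : ∀ a : Fin chevE7.rank → Kˣ, ch c a = ch d a) : c = d := by
  funext i
  by_contra hne
  obtain ⟨x, hx⟩ := exists_zpow_ne (K := K) (sub_ne_zero.2 hne)
  have h1 := h (Pi.mulSingle (show Fin chevE7.rank from i) x)
  rw [ch_single, ch_single] at h1
  apply hx
  rw [_root_.zpow_sub]
  exact mul_inv_eq_one.2 h1

variable (K) in
/-- the simple reflections in the group -/
def ns (i : Fin 7) : Gh K := stn chevE7 (chevE7.simple i) (1 : K)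

variable (K) in
/-- their products -/
def nL (l : List (Fin 7)) : Gh K := (l.map (ns K)).prod

theorem nL_nil : nL K [] = 1 := rfl

theorem nL_cons (i : Fin 7) (l : List (Fin 7)) : nL K (i :: l) = ns K i * nL K l := rfl

theorem nL_append (l l' : List (Fin 7)) : nL K (l ++ l') = nL K l * nL K l' := by
  unfold nL
  rw [List.map_append, List.prod_append]

theorem ns_eq (i : Fin 7) : ns K i = xs K (chevE7.simple i) 1 * xs K (125 - chevE7.simple i) (-1) *
    xs K (chevE7.simple i) 1 := by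
  have h := St.Rels.mk_stN (D := chevE7) (K := K) (chevE7.simple i) 1
  have h2 : chevE7.neg (chevE7.simple i) = 125 - chevE7.simple i := neg7 (simple_lt7 i i.2)
  rw [h2, inv_one] at h
  exact h

variable (K) in
/-- the parabolic subgroup of a real coweight -/
def Pl (l : E) : Subgroup (Gh K) :=
  Subgroup.closure {g | (∃ r < 126, ∃ t : K, 0 ≤ bf l (rv r) ∧ g = xs K r t) ∨ ∃ a, g = Phi K a}

theorem xs_mem_Pl {l : E} {r : ℕ} (hr : r < 126) (h : 0 ≤ bf l (rv r)) (t : K) : xs K r t ∈ Pl K l :=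
  Subgroup.subset_closure (Or.inl ⟨r, hr, t, h, rfl⟩)

theorem Phi_mem_Pl (l : E) (a : Fin chevE7.rank → Kˣ) : Phi K a ∈ Pl K l :=
  Subgroup.subset_closure (Or.inr ⟨a, rfl⟩)

theorem Pl_induction {l : E} {P : Gh K → Prop} (h1 : P 1) (hm : ∀ a b, a ∈ Pl K l → b ∈ Pl K l → P a → P b → P (a * b))
    (hx : ∀ r < 126, 0 ≤ bf l (rv r) → ∀ t, P (xs K r t)) (hp : ∀ a, P (Phi K a)) {g : Gh K} (hg : g ∈ Pl K l) :
    P g := by
  unfold Pl at hg
  induction hg using Subgroup.closure_induction'' with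
  | mem y hy =>
    rcases hy with ⟨r, hr, t, h, rfl⟩ | ⟨a, rfl⟩
    · exact hx r hr h t
    · exact hp a
  | inv_mem y hy =>
    rcases hy with ⟨r, hr, t, h, rfl⟩ | ⟨a, rfl⟩
    · rw [xs_inv]; exact hx r hr h _
    · rw [← map_inv]; exact hp _
  | one => exact h1
  | mul a b ha hb iha ihb => exact hm a b ha hb iha ihb

theorem Pl_le {l : E} {S : Subgroup (Gh K)} (hx : ∀ r < 126, 0 ≤ bf l (rv r) → ∀ t, xs K r t ∈ S)
    (hp : ∀ a, Phi K a ∈ S) : Pl K l ≤ S := fun _ hg =>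
  Pl_induction (P := fun g => g ∈ S) (one_mem _) (fun _ _ _ _ => mul_mem) hx hp hg

theorem Pl_mono {l m : E} (h : ∀ r < 126, 0 ≤ bf l (rv r) → 0 ≤ bf m (rv r)) : Pl K l ≤ Pl K m :=
  Pl_le (fun r hr h1 t => xs_mem_Pl hr (h r hr h1) t) (Phi_mem_Pl m)

theorem emb_mem_Pl {K' : Type u} [Field K'] (f : K →+* K') {l : E} {g : Gh K} (hg : g ∈ Pl K l) : emb f g ∈ Pl K' l := by
  refine Pl_induction (P := fun g => emb f g ∈ Pl K' l) ?_ ?_ ?_ ?_ hg
  · rw [map_one]; exact one_mem _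
  · intro a b _ _ ha hb
    rw [map_mul]; exact mul_mem ha hb
  · intro r hr h t
    rw [emb_xs]; exact xs_mem_Pl hr h _
  · intro a
    rw [emb_Phi]; exact Phi_mem_Pl _ _

/-! ### the Bruhat decomposition -/

theorem hth (r : ℕ) (t : K) (_ : r < chevE7.nroots) :
    ((StTheta.thetaGL e7T.inList K (chevE7.stGen K r t) : GL chevE7.Idx K) : Matrix chevE7.Idx chevE7.Idx K) =
      chevE7.x K r t := StTheta.theta_stGen e7T.inList r t

theorem good7 : RootCombGood.Good chevE7 := RootComb.good_of_mem e7T.inList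

theorem axs : (rd good7 K).Axioms := axioms_rd e7T.inList (StTheta.thetaGL e7T.inList K) hth good7

theorem Hb_le {h : Gh K} (hh : h ∈ Hb chevE7 K) : ∃ a, h = Phi K a := by
  have h1 : Hb chevE7 K ≤ (Phi K).range := by
    unfold Hb
    rw [Subgroup.closure_le]
    rintro _ ⟨i, t, hi, ht, rfl⟩
    exact ⟨Pi.mulSingle ⟨i, hi⟩ (Units.mk0 t ht), isPhi.single ⟨i, hi⟩ _⟩
  obtain ⟨a, ha⟩ := h1 hh
  exact ⟨a, ha.symm⟩

theorem B_le {l : E} (hl : Dom l) : (rd good7 K).B ≤ Pl K l := by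
  refine sup_le (iSup₂_le fun r hr => ?_) fun h hh => ?_
  · rintro _ ⟨t, rfl⟩
    exact xs_mem_Pl r.2 (hl.pos r.2 ((chk_pos r r.2).1.2 hr)) t
  · obtain ⟨a, rfl⟩ := Hb_le hh
    exact Phi_mem_Pl l a

/-- **the Bruhat decomposition** -/
theorem bruhat (g : Gh K) : ∃ (b b' : Gh K) (l : List (Fin 7)), (∀ m, Dom m → b ∈ Pl K m) ∧ (∀ m, Dom m → b' ∈ Pl K m) ∧
    g = b * nL K l * b' := by
  obtain ⟨b, hb, l, b', hb', h⟩ := axs.exists_bruhat
    (generates e7T.inList (StTheta.thetaGL e7T.inList K) hth good7) g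
  exact ⟨b, b', l, fun m hm => B_le hm hb, fun m hm => B_le hm hb', h⟩

theorem wL_rv (l : List (Fin 7)) (r : Fin chevE7.nroots) : wL l (rv r) = rv ((rd good7 K).wW l r) := by
  induction l with
  | nil => rfl
  | cons i l ih =>
    rw [wL_cons, ih, sr_rv i ((rd good7 K).wW l r).2]
    rfl

/-! ### weighted representations -/

section
variable {I : Type*} [Fintype I] [DecidableEq I]

/-- representations with weights -/
structure WRep (c : I → Fin 7 → ℤ) (R : Gh K →* Matrix I I K) : Prop where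
  tor : ∀ a, R (Phi K a) = diagonal fun i => ((ch (c i) a : Kˣ) : K)
  root : ∀ r < 126, ∀ (t : K) (i j : I), R (xs K r t) i j ≠ 0 → ∃ m : ℕ, c i = c j + m • rc r
  frob : ∀ (s : K →+* K) (g : Gh K), R (emb s g) = (R g).map s

/-- monomial elements -/
def Mon (c : I → Fin 7 → ℤ) (R : Gh K →* Matrix I I K) (n : Gh K) (w : E →ₗ[ℝ] E) : Prop :=
  ∀ i j, R n i j ≠ 0 → cv (c i) = w (cv (c j))

variable {c : I → Fin 7 → ℤ} {R : Gh K →* Matrix I I K}

theorem exists_mid {a b : Gh K} {i j : I} (h : R (a * b) i j ≠ 0) : ∃ k, R a i k ≠ 0 ∧ R b k j ≠ 0 := by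
  rw [map_mul, mul_apply] at h
  obtain ⟨k, -, hk⟩ := Finset.exists_ne_zero_of_sum_ne_zero h
  exact ⟨k, left_ne_zero_of_mul hk, right_ne_zero_of_mul hk⟩

theorem eq_of_one {i j : I} (h : R 1 i j ≠ 0) : i = j := by
  by_contra hne
  rw [map_one, one_apply_ne hne] at h
  exact h rfl

theorem Mon.mul {a b : Gh K} {w w' : E →ₗ[ℝ] E} (ha : Mon c R a w) (hb : Mon c R b w') : Mon c R (a * b) (w ∘ₗ w') := by
  intro i j h
  obtain ⟨k, h1, h2⟩ := exists_mid h
  rw [ha i k h1, hb k j h2]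
  rfl

theorem WRep.eq_of_Phi (h : WRep c R) {a : Fin chevE7.rank → Kˣ} {i j : I} (hij : R (Phi K a) i j ≠ 0) : i = j := by
  by_contra hne
  rw [h.tor, diagonal_apply_ne _ hne] at hij
  exact hij rfl

theorem WRep.mon_Phi (h : WRep c R) (a : Fin chevE7.rank → Kˣ) : Mon c R (Phi K a) LinearMap.id := by
  intro i j hij
  rw [h.eq_of_Phi hij]
  rfl

theorem WRep.mon_ns [Infinite K] (h : WRep c R) (k : Fin 7) : Mon c R (ns K k) (sr k) := by
  intro i j hij
  have h1 : c j = c i - c i k • rc (chevE7.simple k) := by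
    refine ch_sep (K := K) fun a => ?_
    have h2 : ns K k * Phi K a = Phi K (sAct chevE7 K k a) * ns K k := by
      exact mul_inv_eq_iff_eq_mul.1 (conj_n_phi e7T.inList isPhi k a)
    have h3 := congrFun (congrFun (congrArg R h2) i) j
    rw [map_mul, map_mul, h.tor, h.tor, mul_diagonal, diagonal_mul, mul_comm] at h3
    have h4 := mul_right_cancel₀ hij h3
    exact (Units.ext h4).trans (ch_sAct (c i) k a)
  rw [h1, ← sr_cv, sr_sr]

theorem WRep.mon_nL [Infinite K] (h : WRep c R) (l : List (Fin 7)) : Mon c R (nL K l) (wL l) := by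
  induction l with
  | nil =>
    intro i j hij
    rw [eq_of_one hij]
    rfl
  | cons k l ih => exact (h.mon_ns k).mul ih

/-- the parabolic subgroups act by triangular matrices -/
theorem WRep.tri (h : WRep c R) {l : E} {g : Gh K} (hg : g ∈ Pl K l) :
    ∀ i j, R g i j ≠ 0 → bf l (cv (c j)) ≤ bf l (cv (c i)) := by
  refine Pl_induction (P := fun g => ∀ i j, R g i j ≠ 0 → bf l (cv (c j)) ≤ bf l (cv (c i))) ?_ ?_ ?_ ?_ hg
  · intro i j hij
    rw [eq_of_one hij]
  · intro a b _ _ ha hb i j hij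
    obtain ⟨k, h1, h2⟩ := exists_mid hij
    exact (hb k j h2).trans (ha i k h1)
  · intro r hr h0 t i j hij
    obtain ⟨m, hm⟩ := h.root r hr t i j hij
    rw [hm, cv_add, cv_nsmul, map_add, map_smul, smul_eq_mul]
    have : 0 ≤ (m : ℝ) * bf l (cv (rc r)) := mul_nonneg (Nat.cast_nonneg m) h0
    linarith
  · intro a i j hij
    rw [h.eq_of_Phi hij]

end

/-- the 56-dimensional module -/
theorem wrep_V : WRep wc (rho K) where
  tor a := rho_Phi a
  root r hr t i j hij := by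
    rw [rho_xs hr] at hij
    by_cases h : i = j
    · exact ⟨0, by rw [h, zero_smul, add_zero]⟩
    · rw [if_neg h, zero_add] at hij
      have h1 : nz r i j ≠ 0 := by
        intro h0
        rw [h0] at hij
        simp at hij
      obtain ⟨e, he, -⟩ := nz_ne h1
      exact ⟨1, by rw [one_smul]; exact wc_add hr he⟩
  frob s g := rho_emb s g

theorem exists_ne {I : Type*} [Fintype I] [DecidableEq I] (R : Gh K →* Matrix I I K) (g : Gh K) (j : I) :
    ∃ i, R g i j ≠ 0 := by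
  have h : R (g⁻¹ * g) j j ≠ 0 := by
    rw [inv_mul_cancel, map_one, one_apply_eq]
    exact one_ne_zero
  obtain ⟨k, -, hk⟩ := exists_mid h
  exact ⟨k, hk⟩

theorem mon_unique {n : Gh K} {w w' : E →ₗ[ℝ] E} (h : Mon wc (rho K) n w) (h' : Mon wc (rho K) n w') : w = w' := by
  refine ext_wv fun s => ?_
  obtain ⟨i, hi⟩ := exists_ne (rho K) n s
  exact (h i s hi).symm.trans (h' i s hi)

theorem ns_mem_Pl {l : E} {i : Fin 7} (h : l i = 0) : ns K i ∈ Pl K l := by
  have hi := simple_lt7 i i.2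
  have h1 : bf l (rv (chevE7.simple i)) = 0 := (bf_al l i).trans h
  have h2 : bf l (rv (125 - chevE7.simple i)) = 0 := by rw [rv_neg hi, map_neg, h1, neg_zero]
  rw [ns_eq]
  exact mul_mem (mul_mem (xs_mem_Pl hi h1.ge _) (xs_mem_Pl (by omega) h2.ge _)) (xs_mem_Pl hi h1.ge _)

/-- **the stabiliser of a dominant vector** -/
theorem nL_mem [Infinite K] {β : E} (hβ : Dom β) : ∀ (k : ℕ) (l : List (Fin 7)), l.length ≤ k → wL l β = β →
    nL K l ∈ Pl K β := by
  have key : ∀ (l l' : List (Fin 7)) (i : Fin 7) (h : Gh K), h ∈ Hb chevE7 K → nL K l * ns K i = nL K l' * h →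
      ∀ x, wL l' x = wL l (sr i x) := by
    intro l l' i h hh e x
    obtain ⟨a, rfl⟩ := Hb_le hh
    have h1 := ((wrep_V (K := K)).mon_nL l).mul (wrep_V.mon_ns i)
    have h2 := ((wrep_V (K := K)).mon_nL l').mul (wrep_V.mon_Phi a)
    rw [e] at h1
    exact DFunLike.congr_fun (mon_unique h2 h1) x
  intro k
  induction k with
  | zero =>
    intro l hl _
    rw [List.length_eq_zero_iff.1 (Nat.le_zero.1 hl)]
    exact one_mem _
  | succ k ih =>
    intro l hl hw
    by_cases hneg : ∃ i : Fin 7, ¬ (rd good7 K).pos ((rd good7 K).wW l ((rd good7 K).sim i))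
    · obtain ⟨i, hi⟩ := hneg
      obtain ⟨l', hl', h, hh, e⟩ := axs.deletion l i hi
      have h0 : β i = 0 := by
        refine le_antisymm ?_ (hβ i)
        have h1 : bf β (al i) = bf β (rv ((rd good7 K).wW l ((rd good7 K).sim i))) := by
          rw [← wL_rv, ← wL_iso l, hw]
          rfl
        rw [← bf_al β i, h1]
        refine hβ.neg ?_
        by_contra h63
        exact hi ((chk_pos _ ((rd good7 K).wW l ((rd good7 K).sim i)).2).1.1 (not_lt.1 h63))
      have h2 : wL l' β = β := by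
        rw [key l l' i h hh e, sr_apply, h0, zero_smul, sub_zero, hw]
      have h3 : nL K l = nL K l' * h * (ns K i)⁻¹ := eq_mul_inv_of_mul_eq e
      obtain ⟨a, rfl⟩ := Hb_le hh
      rw [h3]
      have hl2 : List.length (α := Fin 7) l' + 1 = l.length := hl'
      exact mul_mem (mul_mem (ih l' (by omega) h2) (Phi_mem_Pl _ a)) (inv_mem (ns_mem_Pl h0))
    · push Not at hneg
      rcases List.eq_nil_or_concat l with rfl | ⟨l0, i, rfl⟩
      · exact one_mem _
      rw [List.concat_eq_append] at hl hw hneg ⊢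
      have hi : ¬ (rd good7 K).pos ((rd good7 K).wW l0 ((rd good7 K).sim i)) := by
        have h1 : (rd good7 K).pos ((rd good7 K).wW l0 ((rd good7 K).wW [i] ((rd good7 K).sim i))) := by
          exact (congrArg (rd good7 K).pos ((rd good7 K).wW_append l0 [i] ((rd good7 K).sim i))).mp (hneg i)
        have h2 : (rd good7 K).wW [i] ((rd good7 K).sim i) = (rd good7 K).neg ((rd good7 K).sim i) := axs.refl_sim i
        rw [h2] at h1
        exact (axs.pos_neg _).1 ((congrArg (rd good7 K).pos (axs.wW_neg l0 ((rd good7 K).sim i))).mp h1)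
      obtain ⟨l', hl', h, hh, e⟩ := axs.deletion l0 i hi
      have h2 : wL l' β = β := by
        rw [key l0 l' i h hh e]
        rw [wL_append] at hw
        exact hw
      have h3 : nL K (l0 ++ [i]) = nL K l' * h := by
        rw [nL_append, nL_cons, nL_nil, mul_one]
        exact e
      obtain ⟨a, rfl⟩ := Hb_le hh
      rw [h3]
      rw [List.length_append] at hl
      have hl2 : List.length (α := Fin 7) l' + 1 = l0.length := hl'
      have hl3 : l0.length + 1 ≤ k + 1 := hl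
      exact mul_mem (ih l' (by omega) h2) (Phi_mem_Pl _ a)

/-! ### the optimal parabolic subgroup -/

section
variable {I : Type*} [Fintype I] [DecidableEq I]

/-- the weights which occur in the translate of `X` -/
def St (c : I → Fin 7 → ℤ) (R : Gh K →* Matrix I I K) (X : Set (I → K)) (g : Gh K) : Set E :=
  {y | ∃ i, y = cv (c i) ∧ ∃ v ∈ X, (R g⁻¹ *ᵥ v) i ≠ 0}

variable {c : I → Fin 7 → ℤ} {R : Gh K →* Matrix I I K} {X : Set (I → K)}

omit [DecidableEq I] in
theorem exists_col {A : Matrix I I K} {v : I → K} {i : I} (h : (A *ᵥ v) i ≠ 0) : ∃ j, A i j ≠ 0 ∧ v j ≠ 0 := by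
  rw [mulVec, dotProduct] at h
  obtain ⟨j, -, hj⟩ := Finset.exists_ne_zero_of_sum_ne_zero h
  exact ⟨j, left_ne_zero_of_mul hj, right_ne_zero_of_mul hj⟩

theorem St_sub (g : Gh K) : St c R X g ⊆ Set.range fun i => cv (c i) := by
  rintro _ ⟨i, rfl, -⟩
  exact ⟨i, rfl⟩

theorem St_finite (g : Gh K) : (St c R X g).Finite := (Set.finite_range _).subset (St_sub g)

theorem St_nonempty (hX : ∃ v ∈ X, v ≠ 0) (g : Gh K) : (St c R X g).Nonempty := by
  obtain ⟨v, hv, h0⟩ := hX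
  have h1 : R g⁻¹ *ᵥ v ≠ 0 := by
    intro h
    apply h0
    have h2 : R g *ᵥ (R g⁻¹ *ᵥ v) = v := by rw [mulVec_mulVec, ← map_mul, mul_inv_cancel, map_one, one_mulVec]
    rw [← h2, h, mulVec_zero]
  obtain ⟨i, hi⟩ := Function.ne_iff.1 h1
  exact ⟨_, i, rfl, v, hv, hi⟩

theorem Mon.St_sub {n : Gh K} {w : E →ₗ[ℝ] E} (h : Mon c R n w) (x : Gh K) : St c R X x ⊆ w '' St c R X (x * n) := by
  rintro _ ⟨i, rfl, v, hv, hi⟩
  have h1 : R x⁻¹ *ᵥ v = R n *ᵥ (R (x * n)⁻¹ *ᵥ v) := by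
    rw [mulVec_mulVec, ← map_mul, _root_.mul_inv_rev, mul_inv_cancel_left]
  rw [h1] at hi
  obtain ⟨j, h2, h3⟩ := exists_col hi
  exact ⟨_, ⟨j, rfl, v, hv, h3⟩, (h i j h2).symm⟩

theorem WRep.St_le (h : WRep c R) {l : E} {p : Gh K} (hp : p ∈ Pl K l) {a : ℝ} (x : Gh K)
    (hx : ∀ s ∈ St c R X x, a ≤ bf l s) : ∀ s ∈ St c R X (x * p), a ≤ bf l s := by
  rintro _ ⟨i, rfl, v, hv, hi⟩
  rw [_root_.mul_inv_rev, map_mul, ← mulVec_mulVec] at hi
  obtain ⟨j, h2, h3⟩ := exists_col hi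
  exact (hx _ ⟨j, rfl, v, hv, h3⟩).trans (h.tri (inv_mem hp) i j h2)

theorem WRep.exists_opt [Infinite K] (h : WRep c R) (hX : ∃ v ∈ X, v ≠ 0) :
    ∃ g β, Opt bf (St c R X) g β ∧ Dom β := by
  obtain ⟨g, β, h1, h2⟩ := Kf.exists_opt (St := St c R X) bf_pd (Set.finite_range fun i => cv (c i)) St_sub
    (St_nonempty hX) al (fun _ => 1) (fun i => by rw [bf_al]; exact one_pos) (fun i => (ns K i)⁻¹) sr
    (fun i x => by rw [bf_al]; rfl) sr_iso (fun i g => by
      have h3 := (h.mon_ns i).St_sub (X := X) (g * (ns K i)⁻¹)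
      rwa [inv_mul_cancel_right] at h3)
  exact ⟨g, β, h1, fun i => by rw [← bf_al β i]; exact h2 i⟩

/-- **uniqueness of the optimal coset** -/
theorem WRep.opt_mem [Infinite K] (h : WRep c R) (hX : ∃ v ∈ X, v ≠ 0) {g g' : Gh K} {β : E}
    (ho : Opt bf (St c R X) g β) (hβ : Dom β) (hg' : ∀ s ∈ St c R X g', bf β β ≤ bf β s) : g⁻¹ * g' ∈ Pl K β := by
  obtain ⟨b, b', l, hb, hb', e⟩ := bruhat (g⁻¹ * g')
  have h1 := ho.move bf_pd (St_finite g') (St_nonempty hX g') hg'
  have h2 : wL l β = β := ho.fix (b := b) (n := nL K l) (b' := b') bf_pd h1.1 St_finite (St_nonempty hX)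
    (by rw [mul_assoc, mul_assoc, ← mul_assoc b, ← e, mul_inv_cancel_left])
    (fun x => h.St_le (hb β hβ) x) (fun x => h.St_le (inv_mem (hb' β hβ)) x) (wL l) (wL_iso l) (h.mon_nL l).St_sub
  rw [e]
  exact mul_mem (mul_mem (hb β hβ) (nL_mem hβ _ l le_rfl h2)) (hb' β hβ)

theorem St_mul_sub {y : Gh K} (hy : ∀ v ∈ X, R y⁻¹ *ᵥ v ∈ X) (g : Gh K) : St c R X (y * g) ⊆ St c R X g := by
  rintro _ ⟨i, rfl, v, hv, hi⟩
  rw [_root_.mul_inv_rev, map_mul, ← mulVec_mulVec] at hi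
  exact ⟨i, rfl, _, hy v hv, hi⟩

theorem WRep.St_emb_sub (h : WRep c R) {s : K →+* K} (hs : ∀ v ∈ X, ∃ v' ∈ X, v = fun i => s (v' i)) (g : Gh K) :
    St c R X (emb s g) ⊆ St c R X g := by
  rintro _ ⟨i, rfl, v, hv, hi⟩
  obtain ⟨v', hv', rfl⟩ := hs v hv
  refine ⟨i, rfl, v', hv', fun h0 => hi ?_⟩
  rw [← map_inv, h.frob]
  have h1 := RingHom.map_mulVec s (R g⁻¹) v' i
  rw [h0, map_zero] at h1
  exact h1.symm

/-- unstable sets of vectors -/
def Unst (c : I → Fin 7 → ℤ) (R : Gh K →* Matrix I I K) (X : Set (I → K)) : Prop :=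
  (∃ v ∈ X, v ≠ 0) ∧ ∃ (g : Gh K) (l : E), ∀ v ∈ X, ∀ i, (R g⁻¹ *ᵥ v) i ≠ 0 → 0 < bf l (cv (c i))

theorem Unst.ne_zero (hX : Unst c R X) {g : Gh K} {β : E} (ho : Opt bf (St c R X) g β) : β ≠ 0 := by
  obtain ⟨h0, g0, l, hl⟩ := hX
  refine ho.pos (g0 := g0) (l := l) bf_pd (St_finite g0) (St_nonempty h0 g0) ?_
  rintro _ ⟨i, rfl, v, hv, hi⟩
  exact hl v hv i hi

/-- **the optimal parabolic subgroup** -/
theorem WRep.kempf [Infinite K] (h : WRep c R) (hX : Unst c R X) : ∃ (g : Gh K) (β : E), β ≠ 0 ∧ Dom β ∧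
    Opt bf (St c R X) g β ∧ (∀ y : Gh K, (∀ v ∈ X, R y⁻¹ *ᵥ v ∈ X) → g⁻¹ * y * g ∈ Pl K β) ∧
    ∀ s : K →+* K, (∀ v ∈ X, ∃ v' ∈ X, v = fun i => s (v' i)) → g⁻¹ * emb s g ∈ Pl K β := by
  obtain ⟨g, β, ho, hβ⟩ := h.exists_opt hX.1
  refine ⟨g, β, hX.ne_zero ho, hβ, ho, fun y hy => ?_, fun s hs => ?_⟩
  · rw [mul_assoc]
    exact h.opt_mem hX.1 ho hβ fun x hx => ho.1.2 x (St_mul_sub hy g hx)
  · exact h.opt_mem hX.1 ho hβ fun x hx => ho.1.2 x (h.St_emb_sub hs g hx)

end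

end Cfsg.Agent.E7P.Kf

private theorem dce_b916e12e424d : _root_.True := by
  try have : _root_.True := by simp only [_root_.Cfsg.Agent.ChevalleyStructure.SteinbergKer.rd.congr_simp]
  exact _root_.True.intro
end

-- part: E7P/Kf/Rep
section
prune_inst 0x200070002022020000188590c300186288000402004b8c00c481040409412842204086010230021b401080d4280000481110002002a00000001c0c00013d05a188800204a048e01126009e000008410000008040000000000000000000000000200400000
set_option linter.all false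
open scoped Cfsg.Agent.FastGrp

/-!
# S5932: constructions of weighted representations (helper48)

* `wrep_L` : the adjoint module; `WRep.dual`, `WRep.tensor`, `WRep.endo`, `WRep.pow`;
* `PX φ d` : the minors of a family `φ` of linear maps; `PX_stab`, `PX_frob`, `PX_ne`;
* `unst_PX`, `unst_sub` : criteria for instability.
-/

set_option autoImplicit false
set_option maxRecDepth 100000

namespace Cfsg.Agent.E7P.Kf

open Cfsg Cfsg.Lie Matrix Module
open Cfsg.Agent.ChevalleyStructure.RootVec Cfsg.Agent.ChevalleyStructure.RootVecTab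
open Cfsg.Agent.H943.E7V.Block (D1 rho)
open Cfsg.Agent.R2.T1

universe u
variable {K : Type u} [Field K]

/-! ### the adjoint module -/

theorem rc_eq {r : ℕ} (hr : r < 126) (i : Fin 7) :
    rc r i = ∑ j ∈ Finset.range 7, rt chevE7 r j * chevE7.cartan i (chevE7.simple j) :=
  cartan_eq_sum checked_E7 i.2 hr

theorem rc_add_of_rt {r s u : ℕ} (hr : r < 126) (hs : s < 126) (hu : u < 126)
    (h : ∀ j < 7, rt chevE7 u j = rt chevE7 s j + rt chevE7 r j) : rc u = rc s + rc r := by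
  funext i
  rw [Pi.add_apply, rc_eq hr, rc_eq hs, rc_eq hu, ← Finset.sum_add_distrib]
  refine Finset.sum_congr rfl fun j hj => ?_
  rw [h j (Finset.mem_range.1 hj), add_mul]

theorem chk_F7 : ((List.range 126).all fun r => (List.range 126).all fun s => (F7 r s).all fun x =>
    (List.range 7).all fun j => rt chevE7 x.1 j == rt chevE7 s j + rt chevE7 r j) = true := by
  refine List.all_eq_true.2 fun r hr => List.all_eq_true.2 fun s _ => List.all_eq_true.2 fun x hx =>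
    List.all_eq_true.2 fun j _ => beq_iff_eq.2 ?_
  rcases F7_cases (List.mem_range.1 hr) s with h | ⟨u, c, h, -⟩
  · rw [h] at hx
    exact absurd hx List.not_mem_nil
  · rw [h, List.mem_singleton] at hx
    have h1 := (chainEntry_get checked_E7 (r := r) (s := s) (k := 0) (q := x) (by rw [F7_eq, h, hx]; rfl)).2.2.2 j
    rw [h1]
    push_cast
    ring

theorem cf_rc {r s u : ℕ} (hr : r < 126) (hs : s < 126) (hu : u < 126) (h : cf r s u ≠ 0) : rc u = rc s + rc r := by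
  refine rc_add_of_rt hr hs hu fun j hj => ?_
  have h1 := List.all_eq_true.1 (List.all_eq_true.1 chk_F7 r (List.mem_range.2 hr)) s (List.mem_range.2 hs)
  rw [cf_ne hr h, List.all_cons, List.all_nil, Bool.and_true] at h1
  exact beq_iff_eq.1 (List.all_eq_true.1 h1 j (List.mem_range.2 hj))

/-- the weights of the adjoint module -/
def ac : chevE7.Idx → Fin 7 → ℤ := Sum.elim (fun _ => 0) fun r : Fin chevE7.nroots => rc r

theorem ac_inl (i : Fin chevE7.rank) : ac (Sum.inl i) = 0 := rfl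

theorem ac_inr (r : Fin chevE7.nroots) : ac (Sum.inr r) = rc r := rfl

theorem EM_wt {r : ℕ} (hr : r < 126) {i j : chevE7.Idx} (h : EM K r i j ≠ 0) : ac i = ac j + rc r := by
  rcases i with i | u <;> rcases j with j | s
  · exact absurd (EM_ll r i j) h
  · rw [EM_lr] at h
    have h1 : s.val = 125 - r := by
      by_contra h1
      exact h (if_neg h1)
    rw [ac_inl, ac_inr, h1, rc_neg hr, neg_add_cancel]
  · rw [EM_rl] at h
    have h1 : u.val = r := by
      by_contra h1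
      exact h (if_neg h1)
    rw [ac_inl, ac_inr, h1, zero_add]
  · rw [EM_rr] at h
    refine cf_rc hr s.2 u.2 fun h0 => h ?_
    rw [h0, Int.cast_zero]

theorem QM_wt {r : ℕ} (hr : r < 126) {i j : chevE7.Idx} (h : QM K r i j ≠ 0) : ac i = ac j + 2 • rc r := by
  rcases i with i | u <;> rcases j with j | s
  · exact absurd (QM_ll r i j) h
  · exact absurd (QM_lr r i s) h
  · exact absurd (QM_rl r u j) h
  · rw [QM_rr] at h
    have h1 : s.val = 125 - r := by
      by_contra h1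
      exact h (if_neg h1)
    have h2 : u.val = r := by
      by_contra h2
      rw [if_pos h1] at h
      exact h (if_neg h2)
    rw [ac_inr, ac_inr, h1, h2, rc_neg hr, two_smul, neg_add_cancel_left]

theorem adM_emb {K' : Type*} [Field K'] (f : K →+* K') (g : Gh K) : adM K' (emb f g) = (adM K g).map f := ad_emb_mat f g

/-- the adjoint module -/
theorem wrep_L : WRep ac (adM K) where
  tor a := by
    rw [ad_Phi]
    congr 1
    funext i
    rcases i with i | r
    · rw [ac_inl, ch_zero]; rfl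
    · rfl
  root r hr t i j hij := by
    rw [adM_xs hr] at hij
    by_cases h1 : EM K r i j = 0
    · by_cases h2 : QM K r i j = 0
      · refine ⟨0, ?_⟩
        rw [Matrix.add_apply, Matrix.add_apply, Matrix.smul_apply, Matrix.smul_apply, h1, h2, smul_zero, smul_zero,
          add_zero, add_zero] at hij
        have h3 : i = j := by
          by_contra hne
          exact hij (one_apply_ne hne)
        rw [h3, zero_smul, add_zero]
      · exact ⟨2, QM_wt hr h2⟩
    · exact ⟨1, by rw [one_smul]; exact EM_wt hr h1⟩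
  frob s g := adM_emb s g

theorem L_mulVec (g : Gh K) (x : chevE7.Idx → K) : L K g x = adM K g *ᵥ x := by rw [L_adM, toLin'_apply]

/-! ### duals and tensor products -/

section
variable {I J : Type*} [Fintype I] [DecidableEq I] [Fintype J] [DecidableEq J]

/-- the dual representation -/
def dualR (R : Gh K →* Matrix I I K) : Gh K →* Matrix I I K where
  toFun g := (R g⁻¹)ᵀ
  map_one' := by rw [inv_one, map_one, transpose_one]
  map_mul' a b := by rw [_root_.mul_inv_rev, map_mul, transpose_mul]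

theorem dualR_apply (R : Gh K →* Matrix I I K) (g : Gh K) : dualR R g = (R g⁻¹)ᵀ := rfl

/-- the tensor product -/
def tenR (R : Gh K →* Matrix I I K) (R' : Gh K →* Matrix J J K) : Gh K →* Matrix (I × J) (I × J) K where
  toFun g := kroneckerMap (· * ·) (R g) (R' g)
  map_one' := by rw [map_one, map_one, one_kronecker_one]
  map_mul' a b := by rw [map_mul, map_mul, mul_kronecker_mul]

theorem tenR_apply (R : Gh K →* Matrix I I K) (R' : Gh K →* Matrix J J K) (g : Gh K) (x y : I × J) :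
    tenR R R' g x y = R g x.1 y.1 * R' g x.2 y.2 := rfl

variable {c : I → Fin 7 → ℤ} {R : Gh K →* Matrix I I K} {c' : J → Fin 7 → ℤ} {R' : Gh K →* Matrix J J K}

theorem WRep.dual (h : WRep c R) : WRep (fun i => - c i) (dualR R) where
  tor a := by
    rw [dualR_apply, ← map_inv, h.tor, diagonal_transpose]
    congr 1
    funext i
    rw [ch_inv, ch_neg]
  root r hr t i j hij := by
    rw [dualR_apply, transpose_apply, xs_inv] at hij
    obtain ⟨m, hm⟩ := h.root r hr _ j i hij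
    exact ⟨m, by rw [hm]; abel⟩
  frob s g := by
    rw [dualR_apply, dualR_apply, ← map_inv, h.frob, transpose_map]

theorem WRep.tensor (h : WRep c R) (h' : WRep c' R') : WRep (fun x : I × J => c x.1 + c' x.2) (tenR R R') where
  tor a := by
    ext x y
    rw [tenR_apply, h.tor, h'.tor]
    by_cases hxy : x = y
    · subst hxy
      rw [diagonal_apply_eq, diagonal_apply_eq, diagonal_apply_eq, ch_add, Units.val_mul]
    · rw [diagonal_apply_ne _ hxy]
      by_cases h1 : x.1 = y.1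
      · rw [diagonal_apply_ne _ (fun h2 => hxy (Prod.ext h1 h2)), mul_zero]
      · rw [diagonal_apply_ne _ h1, zero_mul]
  root r hr t x y hxy := by
    rw [tenR_apply] at hxy
    obtain ⟨m, hm⟩ := h.root r hr t _ _ (left_ne_zero_of_mul hxy)
    obtain ⟨m', hm'⟩ := h'.root r hr t _ _ (right_ne_zero_of_mul hxy)
    exact ⟨m + m', by rw [hm, hm', add_smul]; abel⟩
  frob s g := by
    ext x y
    rw [tenR_apply, map_apply, tenR_apply, h.frob, h'.frob, map_mul]
    rfl

/-- a matrix as a vector -/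
def vec (A : Matrix I I K) : I × I → K := fun x => A x.1 x.2

theorem WRep.endo (h : WRep c R) : WRep (fun x : I × I => c x.1 + - c x.2) (tenR R (dualR R)) := h.tensor h.dual

theorem endo_mulVec (R : Gh K →* Matrix I I K) (g : Gh K) (A : Matrix I I K) :
    tenR R (dualR R) g *ᵥ vec A = vec (R g * A * R g⁻¹) := by
  funext x
  rw [mulVec, dotProduct, Fintype.sum_prod_type]
  show _ = (R g * A * R g⁻¹) x.1 x.2
  rw [mul_apply, Finset.sum_comm]
  refine Finset.sum_congr rfl fun b _ => ?_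
  rw [mul_apply, Finset.sum_mul]
  refine Finset.sum_congr rfl fun a _ => ?_
  show R g x.1 a * R g⁻¹ b x.2 * A a b = _
  ring

end

/-! ### tensor powers and minors -/

section
variable {I τ : Type*} [Fintype I] [DecidableEq I] [Fintype τ] [DecidableEq τ]

variable (τ) in
/-- the tensor power -/
def powR (R : Gh K →* Matrix I I K) : Gh K →* Matrix (τ → I) (τ → I) K where
  toFun g := Matrix.of fun i j => ∏ t, R g (i t) (j t)
  map_one' := by
    ext i j
    rw [of_apply, map_one]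
    by_cases h : i = j
    · subst h
      rw [one_apply_eq]
      exact Finset.prod_eq_one fun t _ => one_apply_eq _
    · rw [one_apply_ne h]
      obtain ⟨t, ht⟩ := Function.ne_iff.1 h
      exact Finset.prod_eq_zero (Finset.mem_univ t) (one_apply_ne ht)
  map_mul' a b := by
    ext i j
    rw [of_apply, mul_apply, map_mul]
    simp only [mul_apply, of_apply]
    rw [Finset.prod_univ_sum, Fintype.piFinset_univ]
    exact Finset.sum_congr rfl fun k _ => Finset.prod_mul_distrib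

theorem powR_apply (R : Gh K →* Matrix I I K) (g : Gh K) (i j : τ → I) : powR τ R g i j = ∏ t, R g (i t) (j t) := rfl

variable {c : I → Fin 7 → ℤ} {R : Gh K →* Matrix I I K}

variable (τ) in
theorem WRep.pow (h : WRep c R) : WRep (fun i : τ → I => ∑ t, c (i t)) (powR τ R) where
  tor a := by
    ext i j
    rw [powR_apply, h.tor]
    by_cases hij : i = j
    · subst hij
      rw [diagonal_apply_eq, ch_sum, Units.coe_prod]
      exact Finset.prod_congr rfl fun t _ => diagonal_apply_eq _ _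
    · rw [diagonal_apply_ne _ hij]
      obtain ⟨t, ht⟩ := Function.ne_iff.1 hij
      exact Finset.prod_eq_zero (Finset.mem_univ t) (diagonal_apply_ne _ ht)
  root r hr x i j hij := by
    rw [powR_apply, Finset.prod_ne_zero_iff] at hij
    choose m hm using fun t => h.root r hr x _ _ (hij t (Finset.mem_univ t))
    refine ⟨∑ t, m t, ?_⟩
    rw [Finset.sum_smul, ← Finset.sum_add_distrib]
    exact Finset.sum_congr rfl fun t _ => hm t
  frob s g := by
    ext i j
    rw [powR_apply, map_apply, powR_apply, map_prod, h.frob]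
    rfl

/-- the minors of a family of vectors -/
noncomputable def mnr (A : τ → τ → I → K) : (τ → I) → K := fun i => det (Matrix.of fun t s => A t s (i t))

theorem pow_mnr (g : Gh K) (A : τ → τ → I → K) : powR τ R g *ᵥ mnr A = mnr fun t s => R g *ᵥ A t s := by
  funext i
  have h1 : (Matrix.of fun t s => (R g *ᵥ A t s) (i t)) = fun t => ∑ x, R g (i t) x • fun s => A t s x := by
    ext t s
    rw [of_apply, Finset.sum_apply]
    rfl
  show _ = det (Matrix.of fun t s => (R g *ᵥ A t s) (i t))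
  rw [h1]
  have h2 := (detRowAlternating (R := K) (n := τ)).toMultilinearMap.map_sum
    (fun t x => R g (i t) x • fun s => A t s x)
  refine Eq.trans ?_ h2.symm
  rw [mulVec, dotProduct]
  refine Finset.sum_congr rfl fun j _ => ?_
  rw [MultilinearMap.map_smul_univ, powR_apply, smul_eq_mul]
  rfl

omit [Fintype I] [DecidableEq I] in
theorem map_mnr (s : K →+* K) (A : τ → τ → I → K) : (fun i => s (mnr A i)) = mnr fun t u i => s (A t u i) := by
  funext i
  exact RingHom.map_det s _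

variable {W : Type*} [AddCommGroup W] [Module K W] {Λ : Type*}

variable (τ) in
/-- the set of the minors of a family of linear maps -/
def PX (φ : Λ → W →ₗ[K] (I → K)) : Set ((τ → I) → K) :=
  {v | ∃ (b : τ → W) (l : τ → Λ), v = mnr fun t s => φ (l t) (b s)}

variable {φ : Λ → W →ₗ[K] (I → K)}

theorem PX_stab {y : Gh K} (θ : W → W) (π : Λ → Λ) (h : ∀ l w, R y *ᵥ φ l w = φ (π l) (θ w)) :
    ∀ v ∈ PX τ φ, powR τ R y *ᵥ v ∈ PX τ φ := by
  rintro _ ⟨b, l, rfl⟩
  refine ⟨fun s => θ (b s), fun t => π (l t), ?_⟩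
  rw [pow_mnr]
  simp only [h]

omit [DecidableEq I] in
/-- non-vanishing of the minors -/
theorem PX_ne [Finite Λ] (W0 : Submodule K W) [FiniteDimensional K W0] (hd : finrank K W0 = Fintype.card τ)
    (hinj : ∀ w ∈ W0, (∀ l, φ l w = 0) → w = 0) : ∃ v ∈ PX τ φ, v ≠ 0 := by
  classical
  let f : Λ × I → Dual K W0 := fun x => (LinearMap.proj x.2) ∘ₗ φ x.1 ∘ₗ W0.subtype
  have hspan : Submodule.span K (Set.range f) = ⊤ := by
    rw [eq_top_iff]
    intro g _
    refine mem_span_of_iInf_ker_le_ker fun w hw => ?_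
    have h1 : (w : W) = 0 := hinj w w.2 fun l => funext fun i => by
      have h2 := (Submodule.mem_iInf _).1 hw (l, i)
      exact h2
    rw [show w = 0 from Subtype.ext h1]
    exact zero_mem _
  obtain ⟨S, hS, hsp, hli⟩ := exists_linearIndependent K (Set.range f)
  rw [hspan] at hsp
  let B : Basis S K (Dual K W0) := Basis.mk hli (by rw [Subtype.range_coe, hsp])
  have : Fintype S := FiniteDimensional.fintypeBasisIndex B
  have hc : Fintype.card τ = Fintype.card S := by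
    rw [← finrank_eq_card_basis B, Subspace.dual_finrank_eq, hd]
  let e : τ ≃ S := Fintype.equivOfCardEq hc
  choose x hx using fun t : τ => hS (e t).2
  let b : τ → W0 := fun s => (Module.evalEquiv K W0).symm (B.coord (e s))
  refine ⟨_, ⟨fun s => b s, fun t => (x t).1, rfl⟩, fun h0 => ?_⟩
  have h1 := congrFun h0 fun t => (x t).2
  have h2 : (Matrix.of fun t s => φ (x t).1 (b s) (x t).2) = (1 : Matrix τ τ K) := by
    ext t s
    have h3 : φ (x t).1 (b s) (x t).2 = f (x t) (b s) := rfl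
    have h4 : f (x t) = B (e t) := by rw [hx t, Basis.mk_apply]
    rw [of_apply, h3, h4, Module.apply_evalEquiv_symm_apply, Basis.coord_apply, B.repr_self, Finsupp.single_apply, one_apply]
    by_cases hts : t = s
    · rw [if_pos hts, if_pos (by rw [hts])]
    · rw [if_neg hts, if_neg fun h => hts (e.injective h)]
  have h5 : det (Matrix.of fun t s => φ (x t).1 (b s) (x t).2) = 0 := h1
  rw [h2, det_one] at h5
  exact one_ne_zero h5

theorem unst_PX (hne : ∃ v ∈ PX τ φ, v ≠ 0) (g : Gh K) (l : E)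
    (h : ∀ (b : τ → W) (m : τ → Λ) (i : τ → I), det (Matrix.of fun t s => (R g⁻¹ *ᵥ φ (m t) (b s)) (i t)) ≠ 0 →
      0 < ∑ t, bf l (cv (c (i t)))) :
    Unst (fun i : τ → I => ∑ t, c (i t)) (powR τ R) (PX τ φ) := by
  refine ⟨hne, g, l, ?_⟩
  rintro _ ⟨b, m, rfl⟩ i hi
  rw [pow_mnr] at hi
  rw [cv_sum, map_sum]
  exact h b m i hi

/-- adapted spanning families -/
theorem sum_le_of_det (f : τ → W →ₗ[K] K) (b b' : τ → W) (N : Submodule K W) (hN : ∀ t, ∀ w ∈ N, f t w = 0)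
    (hsp : ∀ w, w ∈ Submodule.span K (Set.range b') ⊔ N) (n lv : τ → ℝ) (hn : ∀ t s, f t (b' s) ≠ 0 → n s ≤ lv t)
    (hd : det (Matrix.of fun t s => f t (b s)) ≠ 0) : ∑ s, n s ≤ ∑ t, lv t := by
  have h1 : ∀ s, ∃ P : τ → K, ∀ t, f t (b s) = ∑ u, f t (b' u) * P u := by
    intro s
    obtain ⟨y, hy, z, hz, e⟩ := Submodule.mem_sup.1 (hsp (b s))
    obtain ⟨P, rfl⟩ := (Submodule.mem_span_range_iff_exists_fun K).1 hy
    refine ⟨P, fun t => ?_⟩
    rw [← e, map_add, hN t z hz, add_zero, map_sum]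
    exact Finset.sum_congr rfl fun u _ => by rw [map_smul, smul_eq_mul, mul_comm]
  choose P hP using h1
  have h2 : (Matrix.of fun t s => f t (b s)) = (Matrix.of fun t u => f t (b' u)) * Matrix.of fun u s => P s u := by
    ext t s
    rw [mul_apply, of_apply, hP]
    rfl
  rw [h2, det_mul] at hd
  have h3 := left_ne_zero_of_mul hd
  rw [det_apply] at h3
  obtain ⟨π, -, hπ⟩ := Finset.exists_ne_zero_of_sum_ne_zero h3
  have h4 : ∏ s, f (π s) (b' s) ≠ 0 := fun h0 => hπ (by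
    have h5 : ∏ s, (Matrix.of fun t u => f t (b' u)) (π s) s = 0 := h0
    rw [h5, smul_zero])
  rw [Finset.prod_ne_zero_iff] at h4
  rw [← Equiv.sum_comp π lv]
  exact Finset.sum_le_sum fun s _ => hn _ _ (h4 s (Finset.mem_univ s))

/-- dual families -/
theorem dual_of_det (f : τ → W →ₗ[K] K) (b : τ → W) (hd : det (Matrix.of fun t s => f t (b s)) ≠ 0) (u : τ) :
    ∃ w ∈ Submodule.span K (Set.range b), ∀ t, f t w = if t = u then 1 else 0 := by
  set A : Matrix τ τ K := Matrix.of fun t s => f t (b s) with hA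
  refine ⟨∑ s, A⁻¹ s u • b s, Submodule.sum_mem _ fun s _ =>
    Submodule.smul_mem _ _ (Submodule.subset_span ⟨s, rfl⟩), fun t => ?_⟩
  have h1 := congrFun (congrFun (mul_nonsing_inv A (isUnit_iff_ne_zero.2 hd)) t) u
  rw [one_apply, mul_apply] at h1
  rw [← h1, map_sum]
  exact Finset.sum_congr rfl fun s _ => by rw [map_smul, smul_eq_mul, mul_comm]; rfl

theorem sep_of_det [FiniteDimensional K W] (hdim : finrank K W = Fintype.card τ) (f : τ → W →ₗ[K] K) (b : τ → W)
    (hd : det (Matrix.of fun t s => f t (b s)) ≠ 0) {w : W} (hw : ∀ t, f t w = 0) : w = 0 := by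
  have h1 : Function.Surjective (LinearMap.pi f) := by
    rw [← LinearMap.range_eq_top, eq_top_iff]
    intro v _
    rw [pi_eq_sum_univ' v]
    refine Submodule.sum_mem _ fun u _ => Submodule.smul_mem _ _ ?_
    obtain ⟨y, -, hy⟩ := dual_of_det f b hd u
    exact ⟨y, funext fun t => by rw [LinearMap.pi_apply, hy, Pi.single_apply]⟩
  have h2 := (LinearMap.injective_iff_surjective_of_finrank_eq_finrank
    (by rw [hdim, finrank_fintype_fun_eq_card])).2 h1
  apply h2
  rw [map_zero]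
  exact funext hw

end

section
variable {I : Type*} [Fintype I] [DecidableEq I] {c : I → Fin 7 → ℤ} {R : Gh K →* Matrix I I K}

/-- the minors of a subspace -/
def SX (W : Submodule K (I → K)) : Set ((Fin (finrank K W) → I) → K) := PX (Fin (finrank K W)) fun _ : Unit => W.subtype

/-- **unstable subspaces** -/
theorem unst_sub (W : Submodule K (I → K)) (g : Gh K) (l : E)
    (h : ∀ i : Fin (finrank K W) → I, (∀ w ∈ W, (∀ t, (R g⁻¹ *ᵥ w) (i t) = 0) → w = 0) →
      (∀ u, ∃ w ∈ W, ∀ t, (R g⁻¹ *ᵥ w) (i t) = if t = u then 1 else 0) → 0 < ∑ t, bf l (cv (c (i t)))) :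
    Unst (fun i : Fin (finrank K W) → I => ∑ t, c (i t)) (powR _ R) (SX W) := by
  refine unst_PX (PX_ne ⊤ (by rw [finrank_top, Fintype.card_fin]) fun w _ hw => Subtype.ext (hw ())) g l
    fun b m i hd => ?_
  let f : Fin (finrank K W) → W →ₗ[K] K := fun t => (LinearMap.proj (i t)) ∘ₗ (toLin' (R g⁻¹)) ∘ₗ W.subtype
  refine h i (fun w hw h0 => ?_) fun u => ?_
  · exact congrArg Subtype.val (sep_of_det (by rw [Fintype.card_fin]) f b hd (w := ⟨w, hw⟩) h0)
  · obtain ⟨w, -, hw⟩ := dual_of_det f b hd u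
    exact ⟨w, w.2, hw⟩

theorem SX_stab {W : Submodule K (I → K)} {y : Gh K} (h : ∀ w ∈ W, R y *ᵥ w ∈ W) :
    ∀ v ∈ SX W, powR _ R y *ᵥ v ∈ SX W :=
  PX_stab (fun w : W => ⟨R y *ᵥ w, h w w.2⟩) id fun _ _ => rfl

end

end Cfsg.Agent.E7P.Kf

private theorem dce_aabc8855bd19 : _root_.True := by
  try have : _root_.True := by simp only [_root_.Cfsg.Agent.E7P.Kf.mnr.congr_simp]
  exact _root_.True.intro
end

-- part: E7P/Kf/Lang
section
prune_inst 0x400000
set_option linter.all false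
open scoped Cfsg.Agent.FastGrp

/-!
# S5932: Lang's theorem for groups generated by root groups, unipotent radicals, `p`-subgroups (helper48)

* `GS K S`, `lang_GS`, `lang_Pl`;
* `Ul K l` : the elements of `Pl K l` which act trivially on the graded module; `isPGroup_Ul`;
* `exists_conj_Ul` : a `p`-subgroup is conjugate to a group of unitriangular matrices.
-/

set_option autoImplicit false
set_option maxRecDepth 100000

namespace Cfsg.Agent.E7P.Kf

open Cfsg Cfsg.Lie Matrix Module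
open Cfsg.Agent.ChevalleyStructure Cfsg.Agent.ChevalleyStructure.Elts
open Cfsg.Agent.H943.E7V.Block (D1 rho)
open Cfsg.Agent.H944.E7Two (e7T)
open Cfsg.Agent.R2.T1

universe u
variable {K : Type u} [Field K]

variable (K) in
/-- the subgroup generated by a set of root groups -/
def GS (S : Set ℕ) : Subgroup (Gh K) := Subgroup.closure {g | ∃ r ∈ S, ∃ t : K, g = xs K r t}

theorem xs_mem_GS {S : Set ℕ} {r : ℕ} (hr : r ∈ S) (t : K) : xs K r t ∈ GS K S :=
  Subgroup.subset_closure ⟨r, hr, t, rfl⟩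

theorem GS_le {S : Set ℕ} {T : Subgroup (Gh K)} (h : ∀ r ∈ S, ∀ t, xs K r t ∈ T) : GS K S ≤ T := by
  unfold GS
  rw [Subgroup.closure_le]
  rintro _ ⟨r, hr, t, rfl⟩
  exact h r hr t

theorem GS_induction {S : Set ℕ} {P : Gh K → Prop} (h1 : P 1)
    (hm : ∀ a b, a ∈ GS K S → b ∈ GS K S → P a → P b → P (a * b))
    (hx : ∀ r ∈ S, ∀ t, P (xs K r t)) {g : Gh K} (hg : g ∈ GS K S) : P g := by
  unfold GS at hg
  induction hg using Subgroup.closure_induction'' with
  | mem y hy =>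
    obtain ⟨r, hr, t, rfl⟩ := hy
    exact hx r hr t
  | inv_mem y hy =>
    obtain ⟨r, hr, t, rfl⟩ := hy
    rw [xs_inv]; exact hx r hr _
  | one => exact h1
  | mul a b ha hb iha ihb => exact hm a b ha hb iha ihb

theorem Phi_conj_GS {S : Set ℕ} (hS : ∀ r ∈ S, r < 126) (a : Fin chevE7.rank → Kˣ) {g : Gh K} (hg : g ∈ GS K S) :
    Phi K a * g * (Phi K a)⁻¹ ∈ GS K S := by
  refine GS_induction (P := fun g => Phi K a * g * (Phi K a)⁻¹ ∈ GS K S) ?_ ?_ ?_ hg
  · rw [mul_one, mul_inv_cancel]; exact one_mem _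
  · intro x y _ _ hx hy
    have e : Phi K a * (x * y) * (Phi K a)⁻¹ = Phi K a * x * (Phi K a)⁻¹ * (Phi K a * y * (Phi K a)⁻¹) := by group
    rw [e]; exact mul_mem hx hy
  · intro r hr t
    rw [Five.Phi_xs a (hS r hr)]
    exact xs_mem_GS hr _

theorem ad_xs (r : ℕ) (t : K) : ((ad K (xs K r t) : ↥(chevE7.group K)) : GL chevE7.Idx K) = xG e7T.inList r t :=
  StTheta.thetaGL_stGen e7T.inList r t

/-- **Lang's theorem** for the groups generated by root groups -/
theorem lang_GS [IsAlgClosed K] {p e : ℕ} (hp : p.Prime) [CharP K p] (he : 0 < e) {s : K →+* K}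
    (hs : ∀ t, s t = t ^ p ^ e) {S : Set ℕ} (J : Gh K)
    (hJ : ∀ r ∈ S, ∃ r' ∈ S, ∀ t, ∃ u, J * xs K r t * J⁻¹ = xs K r' u) {m : Gh K} (hm : m ∈ GS K S) :
    ∃ y ∈ GS K S, ∃ z ∈ Subgroup.center (Gh K), m = y⁻¹ * (J * emb s y * J⁻¹) * z := by
  have : Fact p.Prime := ⟨hp⟩
  let θ : Gh K →* GL chevE7.Idx K := (chevE7.group K).subtype.comp (ad K)
  have hθ : ∀ r t, θ (xs K r t) = xG e7T.inList r t := ad_xs
  have hmap : (GS K S).map θ = LangThm.MM e7T.inList S K := by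
    unfold GS LangThm.MM
    rw [MonoidHom.map_closure]
    congr 1
    ext g
    constructor
    · rintro ⟨_, ⟨r, hr, t, rfl⟩, rfl⟩
      exact ⟨r, hr, t, hθ r t⟩
    · rintro ⟨r, hr, t, rfl⟩
      exact ⟨_, ⟨r, hr, t, rfl⟩, hθ r t⟩
  obtain ⟨y, hy, h⟩ := LangThm.lang_chev' e7T.inList p e he S (θ J) (fun r hr => by
    obtain ⟨r', hr', h⟩ := hJ r hr
    refine ⟨r', hr', fun t => ?_⟩
    obtain ⟨u, hu⟩ := h t
    exact ⟨u, by rw [← hθ, ← hθ, ← hu, map_mul, map_mul, map_inv]⟩) (m := θ m) (hmap ▸ ⟨m, hm, rfl⟩)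
  rw [← hmap] at hy
  obtain ⟨y, hy, rfl⟩ := hy
  have hf : LangThm.frob p e (θ y) = θ (emb s y) := by
    have h1 : s = iterateFrobenius K p e := RingHom.ext fun t => by rw [hs]; rfl
    apply Units.ext
    rw [h1]
    exact (ad_emb_mat _ y).symm
  refine ⟨y, hy, (y⁻¹ * (J * emb s y * J⁻¹))⁻¹ * m, ?_, by group⟩
  rw [← ker_ad, MonoidHom.mem_ker]
  apply Subtype.ext
  show θ _ = 1
  rw [map_mul, h, hf, map_inv, map_mul, map_mul, map_mul, map_inv, map_inv, inv_mul_cancel]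

theorem lang_Phi [IsAlgClosed K] {q : ℕ} (hq : 1 < q) {s : K →+* K} (hs : ∀ t, s t = t ^ q)
    (a : Fin chevE7.rank → Kˣ) : ∃ b, Phi K a = (Phi K b)⁻¹ * emb s (Phi K b) := by
  have h1 : ∀ i, ∃ x : Kˣ, x ^ (q - 1) = a i := by
    intro i
    obtain ⟨x, hx⟩ := IsAlgClosed.exists_pow_nat_eq ((a i : Kˣ) : K) (show 0 < q - 1 by omega)
    have h0 : x ≠ 0 := by
      rintro rfl
      rw [zero_pow (by omega)] at hx
      exact (a i).ne_zero hx.symm
    exact ⟨Units.mk0 x h0, Units.ext hx⟩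
  choose b hb using h1
  refine ⟨b, ?_⟩
  rw [emb_Phi, ← map_inv, ← map_mul]
  congr 1
  funext i
  rw [Pi.mul_apply, Pi.inv_apply, ← hb, eq_inv_mul_iff_mul_eq, ← pow_succ', Nat.sub_add_cancel hq.le]
  apply Units.ext
  rw [Units.val_pow_eq_pow_val, ← hs]
  rfl

theorem Pl_decomp {l : E} {g : Gh K} (hg : g ∈ Pl K l) :
    ∃ x ∈ GS K {r | r < 126 ∧ 0 ≤ bf l (rv r)}, ∃ a, g = x * Phi K a := by
  refine Pl_induction (P := fun g => ∃ x ∈ GS K {r | r < 126 ∧ 0 ≤ bf l (rv r)}, ∃ a, g = x * Phi K a) ?_ ?_ ?_ ?_ hg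
  · exact ⟨1, one_mem _, 1, by rw [map_one, mul_one]⟩
  · rintro _ _ - - ⟨x, hx, a, rfl⟩ ⟨y, hy, b, rfl⟩
    exact ⟨_, mul_mem hx (Phi_conj_GS (fun r hr => hr.1) a hy), a * b, by rw [map_mul]; group⟩
  · intro r hr h t
    exact ⟨_, xs_mem_GS (show r ∈ {r | r < 126 ∧ 0 ≤ bf l (rv r)} from ⟨hr, h⟩) t, 1, by rw [map_one, mul_one]⟩
  · intro a
    exact ⟨1, one_mem _, a, by rw [one_mul]⟩

theorem GS_le_Pl (l : E) : GS K {r | r < 126 ∧ 0 ≤ bf l (rv r)} ≤ Pl K l :=
  GS_le fun _ hr t => xs_mem_Pl hr.1 hr.2 t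

/-- **Lang's theorem** for the parabolic subgroups -/
theorem lang_Pl [IsAlgClosed K] {p e : ℕ} (hp : p.Prime) [CharP K p] (he : 0 < e) {s : K →+* K}
    (hs : ∀ t, s t = t ^ p ^ e) {l : E} {g : Gh K} (hg : g⁻¹ * emb s g ∈ Pl K l) :
    ∃ y ∈ Pl K l, ∃ z ∈ Subgroup.center (Gh K), emb s (g * y) = g * y * z := by
  obtain ⟨x, hx, a, hxa⟩ := Pl_decomp hg
  obtain ⟨b, hb⟩ := lang_Phi (Nat.one_lt_pow he.ne' hp.one_lt) hs a
  obtain ⟨y, hy, z, hz, e⟩ := lang_GS hp he hs 1 (fun r hr => ⟨r, hr, fun t => ⟨t, by group⟩⟩)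
    (Phi_conj_GS (fun r hr => hr.1) b hx)
  refine ⟨(y * Phi K b)⁻¹, inv_mem (mul_mem (GS_le_Pl l hy) (Phi_mem_Pl l b)), z, hz, ?_⟩
  have h1 : emb s g = g * (x * Phi K a) := by rw [← hxa]; group
  have h2 : x = (Phi K b)⁻¹ * (y⁻¹ * emb s y * z) * Phi K b := by
    rw [one_mul, inv_one, mul_one] at e
    rw [← e]; group
  have h3 := Subgroup.mem_center_iff.1 hz
  rw [map_mul, map_inv, map_mul, h1, hb, h2]
  calc _ = g * (Phi K b)⁻¹ * y⁻¹ * (emb s y * z) * (emb s y)⁻¹ := by group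
    _ = _ := by rw [h3]; group

/-! ### the unipotent radical -/

section
variable {I : Type*} [Fintype I] [DecidableEq I]

theorem pow_eq_zero_of_tri (lv : I → ℝ) {N : Matrix I I K} (h : ∀ i j, N i j ≠ 0 → lv j < lv i) :
    N ^ Fintype.card I = 0 := by
  classical
  let ρ : I → ℕ := fun i => (Finset.univ.filter fun k => lv k < lv i).card
  have hρ : ∀ i j, lv j < lv i → ρ j < ρ i := by
    intro i j hij
    refine Finset.card_lt_card ⟨fun k hk => ?_, fun hsub => ?_⟩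
    · rw [Finset.mem_filter] at hk ⊢
      exact ⟨hk.1, hk.2.trans hij⟩
    · have h1 := hsub (Finset.mem_filter.2 ⟨Finset.mem_univ j, hij⟩)
      exact lt_irrefl _ (Finset.mem_filter.1 h1).2
  have hlt : ∀ i, ρ i < Fintype.card I := by
    intro i
    refine Finset.card_lt_card ⟨Finset.subset_univ _, fun hsub => ?_⟩
    exact lt_irrefl _ (Finset.mem_filter.1 (hsub (Finset.mem_univ i))).2
  have key : ∀ n i j, (N ^ n) i j ≠ 0 → ρ j + n ≤ ρ i := by
    intro n
    induction n with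
    | zero =>
      intro i j hij
      have h1 : i = j := by
        by_contra hne
        rw [pow_zero, one_apply_ne hne] at hij
        exact hij rfl
      rw [h1, add_zero]
    | succ n ih =>
      intro i j hij
      rw [pow_succ, mul_apply] at hij
      obtain ⟨k, -, hk⟩ := Finset.exists_ne_zero_of_sum_ne_zero hij
      have h1 := ih i k (left_ne_zero_of_mul hk)
      have h2 := hρ k j (h k j (right_ne_zero_of_mul hk))
      omega
  ext i j
  by_contra hne
  have h1 := key _ i j hne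
  have h2 := hlt i
  omega

omit [DecidableEq I] in
theorem exists_mid' {A B : Matrix I I K} {i j : I} (h : (A * B) i j ≠ 0) : ∃ k, A i k ≠ 0 ∧ B k j ≠ 0 := by
  rw [mul_apply] at h
  obtain ⟨k, -, hk⟩ := Finset.exists_ne_zero_of_sum_ne_zero h
  exact ⟨k, left_ne_zero_of_mul hk, right_ne_zero_of_mul hk⟩

end

/-- strictly triangular matrices -/
def STri (l : E) (N : Matrix D1 D1 K) : Prop := ∀ i j, N i j ≠ 0 → bf l (wv j) < bf l (wv i)

theorem STri.add {l : E} {A B : Matrix D1 D1 K} (hA : STri l A) (hB : STri l B) : STri l (A + B) := by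
  intro i j h
  rw [Matrix.add_apply] at h
  by_cases h1 : A i j = 0
  · rw [h1, zero_add] at h
    exact hB i j h
  · exact hA i j h1

theorem STri.zero (l : E) : STri l (0 : Matrix D1 D1 K) := fun _ _ h => absurd rfl h

theorem STri.smul {l : E} {A : Matrix D1 D1 K} (hA : STri l A) (c : K) : STri l (c • A) := fun i j h =>
  hA i j (right_ne_zero_of_mul h)

theorem STri.left {l : E} {A : Matrix D1 D1 K} (hA : STri l A) {g : Gh K} (hg : g ∈ Pl K l) : STri l (rho K g * A) := by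
  intro i j h
  obtain ⟨k, h1, h2⟩ := exists_mid' h
  exact (hA k j h2).trans_le (wrep_V.tri hg i k h1)

theorem STri.right {l : E} {A : Matrix D1 D1 K} (hA : STri l A) {g : Gh K} (hg : g ∈ Pl K l) : STri l (A * rho K g) := by
  intro i j h
  obtain ⟨k, h1, h2⟩ := exists_mid' h
  exact (wrep_V.tri hg k j h2).trans_lt (hA i k h1)

variable (K) in
/-- the unipotent radical -/
def Ul (l : E) : Subgroup (Gh K) where
  carrier := {g | g ∈ Pl K l ∧ STri l (rho K g - 1)}
  one_mem' := ⟨one_mem _, by rw [map_one, sub_self]; exact STri.zero l⟩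
  mul_mem' := by
    rintro a b ⟨ha, ha'⟩ ⟨hb, hb'⟩
    refine ⟨mul_mem ha hb, ?_⟩
    have e : rho K (a * b) - 1 = rho K a * (rho K b - 1) + (rho K a - 1) := by
      rw [map_mul, mul_sub, mul_one]; abel
    rw [e]
    exact (hb'.left ha).add ha'
  inv_mem' := by
    rintro a ⟨ha, ha'⟩
    refine ⟨inv_mem ha, ?_⟩
    have e : rho K a⁻¹ - 1 = (-1 : K) • (rho K a⁻¹ * (rho K a - 1)) := by
      rw [mul_sub, mul_one, ← map_mul, inv_mul_cancel, map_one, neg_one_smul, neg_sub]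
    rw [e]
    exact (ha'.left (inv_mem ha)).smul _

theorem Ul_conj {l : E} {g x : Gh K} (hg : g ∈ Pl K l) (hx : x ∈ Ul K l) : g * x * g⁻¹ ∈ Ul K l := by
  refine ⟨mul_mem (mul_mem hg hx.1) (inv_mem hg), ?_⟩
  have e : rho K (g * x * g⁻¹) - 1 = rho K g * (rho K x - 1) * rho K g⁻¹ := by
    rw [mul_sub, mul_one, sub_mul, ← map_mul, ← map_mul, ← map_mul, mul_inv_cancel, map_one]
  rw [e]
  exact (hx.2.left hg).right (inv_mem hg)

theorem NM_ne {r : ℕ} (hr : r < 126) {i j : D1} (h : NM K r i j ≠ 0) : wv i = wv j + rv r := by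
  have h1 : nz r i j ≠ 0 := by
    intro h0
    apply h
    show ((nz r i j : ℤ) : K) = 0
    rw [h0, Int.cast_zero]
  obtain ⟨e, he, -⟩ := nz_ne h1
  rw [wv, wc_add hr he, cv_add]
  rfl

theorem xs_mem_Ul {l : E} {r : ℕ} (hr : r < 126) (h : 0 < bf l (rv r)) (t : K) : xs K r t ∈ Ul K l := by
  refine ⟨xs_mem_Pl hr h.le t, ?_⟩
  rw [rho_xs' hr, add_sub_cancel_left]
  refine STri.smul (fun i j hij => ?_) t
  rw [NM_ne hr hij, map_add]
  linarith

theorem card_D1 : Fintype.card D1 = 56 := by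
  have h := finrank_V (F := ℚ)
  rwa [finrank_fintype_fun_eq_card] at h

theorem pow_eq_one_of_STri {p : ℕ} (hp : p.Prime) [CharP K p] {l : E} {g : Gh K} (h : STri l (rho K g - 1)) :
    g ^ p ^ 56 = 1 := by
  have : Fact p.Prime := ⟨hp⟩
  have : Nonempty D1 := ⟨topv⟩
  apply rho_injective
  have h1 := pow_eq_zero_of_tri (fun i => bf l (wv i)) h
  rw [card_D1] at h1
  have h2 : (rho K g - 1) ^ p ^ 56 = 0 :=
    pow_eq_zero_of_le (Nat.lt_pow_self hp.one_lt).le h1
  rw [sub_pow_char_pow_of_commute _ _ (Commute.one_right _), one_pow, sub_eq_zero] at h2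
  rw [map_pow, h2, map_one]

theorem isPGroup_Ul {p : ℕ} (hp : p.Prime) [CharP K p] (l : E) : IsPGroup p (Ul K l) := fun g =>
  ⟨56, Subtype.ext (pow_eq_one_of_STri hp g.2.2)⟩

theorem exists_NM_ne {r : ℕ} (hr : r < 126) : ∃ i j, NM K r i j ≠ 0 := by
  obtain ⟨a, b, c, h1, h2⟩ := R2.PX.Tr.exists_entry hr
  refine ⟨a, b, ?_⟩
  show ((nz r a b : ℤ) : K) ≠ 0
  rw [nz_some h1, if_pos rfl]
  exact cast_ne h2

theorem nonneg_of_xs_mem {l : E} {r : ℕ} (hr : r < 126) {t : K} (ht : t ≠ 0) (h : xs K r t ∈ Pl K l) :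
    0 ≤ bf l (rv r) := by
  obtain ⟨i, j, hij⟩ := exists_NM_ne (K := K) hr
  have h1 := NM_ne hr hij
  by_cases h2 : i = j
  · rw [h2, left_eq_add] at h1
    rw [h1, map_zero]
  · have h3 := wrep_V.tri h i j (by
      rw [rho_xs' hr, Matrix.add_apply, one_apply_ne h2, zero_add]
      exact mul_ne_zero ht hij)
    have h4 : bf l (wv j) ≤ bf l (wv i) := h3
    rw [h1, map_add] at h4
    linarith

/-! ### `p`-subgroups -/

theorem locFin {p : ℕ} (hA : BpExc.TorAll.HAlg p K) {S : Set K} (hS : S.Finite) :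
    ∃ N, 0 < N ∧ ∀ t ∈ S, t ^ p ^ N = t := by
  have key : ∀ (t : K) (m k : ℕ), t ^ p ^ m = t → t ^ p ^ (m * k) = t := by
    intro t m k h
    induction k with
    | zero => simp
    | succ k ih => rw [Nat.mul_succ, pow_add, pow_mul, ih, h]
  induction S, hS using Set.Finite.induction_on with
  | empty => exact ⟨1, one_pos, fun _ h => absurd h (Set.notMem_empty _)⟩
  | @insert a S _ _ ih =>
    obtain ⟨N, hN, h⟩ := ih
    obtain ⟨m, hm, ha⟩ := hA a
    refine ⟨m * N, Nat.mul_pos hm hN, ?_⟩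
    rintro t (rfl | ht)
    · exact key _ m N ha
    · rw [mul_comm]; exact key _ N m (h t ht)

/-- the finite subfields -/
def fixF (p : ℕ) [Fact p.Prime] [CharP K p] (N : ℕ) : Subfield K := (iterateFrobenius K p N).eqLocusField (RingHom.id K)

theorem finite_fixF (p : ℕ) [Fact p.Prime] [CharP K p] {N : ℕ} (hN : 0 < N) : Finite (fixF (K := K) p N) := by
  classical
  have h1 : 1 < p ^ N := Nat.one_lt_pow hN.ne' (Fact.out : p.Prime).one_lt
  have h2 : (Polynomial.X ^ p ^ N - Polynomial.X : Polynomial K) ≠ 0 := FiniteField.X_pow_card_sub_X_ne_zero K h1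
  refine Set.Finite.subset (Polynomial.X ^ p ^ N - Polynomial.X : Polynomial K).roots.toFinset.finite_toSet fun t ht => ?_
  have h3 : t ^ p ^ N = t := ht
  rw [Finset.mem_coe, Multiset.mem_toFinset, Polynomial.mem_roots h2, Polynomial.IsRoot.def]
  simp [h3]

/-- finite sets of elements are defined over a finite field -/
theorem exists_fin [IsAlgClosed K] {p : ℕ} [Fact p.Prime] [CharP K p] (hA : BpExc.TorAll.HAlg p K) {S : Set (Gh K)}
    (hS : S.Finite) : ∃ N, 0 < N ∧ ∀ g ∈ S, ∃ g0, emb (fixF (K := K) p N).subtype g0 = g := by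
  obtain ⟨N, hN, h⟩ := locFin hA
    (hS.biUnion fun g _ => Set.finite_range fun x : D1 × D1 => rho K g x.1 x.2)
  have := finite_fixF (K := K) p hN
  refine ⟨N, hN, fun g hg => ?_⟩
  obtain ⟨g0, h0, -⟩ := exists_of_rho (fixF (K := K) p N).subtype (z := g)
    (A := Matrix.of fun i j => ⟨rho K g i j, h _ (Set.mem_biUnion hg ⟨(i, j), rfl⟩)⟩) rfl
  exact ⟨g0, h0⟩

theorem rv_ne {r : ℕ} (hr : r < 126) : rv r ≠ 0 := by
  intro h5
  have h7 : ∀ r < 126, ∃ j < 7, chevE7.cartan j r ≠ 0 := by (rewrite [Cfsg.Agent.ChevFast.E7.cartan]; decide +kernel)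
  obtain ⟨j, hj, h8⟩ := h7 r hr
  have h9 : ((chevE7.cartan j r : ℤ) : ℝ) = 0 := congrFun h5 ⟨j, hj⟩
  exact h8 (by exact_mod_cast h9)

/-- the half sum of the positive roots -/
def rho1 : E := fun _ => 1

theorem rho1_pos {r : ℕ} (hr : r < 126) (h : chevE7.IsPosRoot r) : 0 < bf rho1 (rv r) := by
  have h63 := (chk_pos r hr).1.2 h
  have h1 : Dom rho1 := fun _ => zero_le_one
  refine (h1.pos hr h63).lt_of_ne fun h0 => ?_
  rw [bf_rv _ hr] at h0
  have h2 := (Finset.sum_eq_zero_iff_of_nonneg fun i _ => mul_nonneg (h1 i)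
    (show (0 : ℝ) ≤ (RootVec.rt chevE7 r i : ℝ) by exact_mod_cast (chk_pos r hr).2.1 h63 i i.2)).1 h0.symm
  have h3 : bf (rv r) (rv r) = 0 := by
    rw [bf_rv _ hr]
    refine Finset.sum_eq_zero fun i hi => ?_
    have h4 := h2 i hi
    rw [show rho1 i = 1 from rfl, one_mul] at h4
    rw [h4, mul_zero]
  exact (bf_pd.pos _ (rv_ne hr)).ne' h3

theorem exists_conj_fin {F : Type u} [Field F] [Finite F] {p : ℕ} [Fact p.Prime] [CharP F p] {R : Subgroup (Gh F)}
    (hR : IsPGroup p R) : ∃ g : Gh F, ∀ x ∈ R, STri rho1 (rho F (g⁻¹ * x * g) - 1) := by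
  have hp : p.Prime := Fact.out
  let θ : Gh F →* GL chevE7.Idx F := (chevE7.group F).subtype.comp (ad F)
  have hcen : ∀ z ∈ Subgroup.center (Gh F), ∀ u ∈ Ul F rho1, (∃ n, (u * z) ^ p ^ n = 1) → z = 1 := by
    rintro z hz u hu ⟨n, hn⟩
    have h1 : Commute u z := Subgroup.mem_center_iff.1 hz u
    have h2 := pow_eq_one_of_STri hp hu.2
    have h3 : z ^ p ^ (n + 56) = 1 := by
      have h4 : (u * z) ^ p ^ (n + 56) = 1 := by rw [pow_add, pow_mul, hn, one_pow]
      rwa [h1.mul_pow, add_comm, pow_add, pow_mul, h2, one_pow, one_mul, ← pow_add, add_comm] at h4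
    rcases V_center hz with h | h
    · exact faithful h
    · apply faithful
      rcases hp.eq_two_or_odd' with h5 | h5
      · subst h5
        rw [h]
        refine LinearMap.ext fun v => funext fun i => ?_
        exact CharTwo.neg_eq (v i)
      · have h6 := congrArg (V F) h3
        rw [map_pow, h, map_one] at h6
        rw [h]
        exact (Odd.neg_one_pow (α := Module.End F (D1 → F)) (h5.pow (n := n + 56))).symm.trans h6
  by_cases hne : R.map θ = ⊥
  · refine ⟨1, fun x hx => ?_⟩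
    have h1 : θ x = 1 := by
      have h2 : θ x ∈ R.map θ := ⟨x, hx, rfl⟩
      rwa [hne, Subgroup.mem_bot] at h2
    have h3 : x ∈ Subgroup.center (Gh F) := by
      rw [← ker_ad, MonoidHom.mem_ker]
      exact Subtype.ext h1
    obtain ⟨n, hn⟩ := hR ⟨x, hx⟩
    have h4 := hcen x h3 1 (one_mem _) ⟨n, by rw [one_mul]; exact congrArg Subtype.val hn⟩
    rw [h4, mul_one, inv_mul_cancel, map_one, sub_self]
    exact STri.zero _
  obtain ⟨g, hg, J, -, -, h⟩ := S2154.main e7T p (R.map θ) (by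
    rintro _ ⟨x, -, rfl⟩
    exact (ad F x).2) (hR.map θ) hne
  obtain ⟨g, hg'⟩ := ad_surjective (K := F) ⟨g, hg⟩
  have hg2 : θ g = _ := congrArg Subtype.val hg'
  have hU : chevE7.unipotentRadical F J ≤ (Ul F rho1).map θ := by
    unfold ChevalleyDatum.unipotentRadical
    rw [Subgroup.closure_le]
    rintro y ⟨r, t, hr, -, hy⟩
    refine ⟨xs F r t, xs_mem_Ul hr.1 (rho1_pos hr.1 hr) t, Units.ext ?_⟩
    rw [hy]
    exact StTheta.theta_stGen e7T.inList r t
  refine ⟨g, fun x hx => ?_⟩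
  obtain ⟨y, hy, e⟩ := h ⟨x, hx, rfl⟩
  obtain ⟨u, hu, rfl⟩ := hU hy
  have h1 : u⁻¹ * (g⁻¹ * x * g) ∈ Subgroup.center (Gh F) := by
    rw [← ker_ad, MonoidHom.mem_ker]
    apply Subtype.ext
    show θ _ = 1
    rw [map_mul, map_mul, map_mul, map_inv, map_inv, ← e, hg2]
    show _ * (_ * (_ * θ u * _) * _) = 1
    group
  obtain ⟨n, hn⟩ := hR ⟨x, hx⟩
  have hn' : x ^ p ^ n = 1 := congrArg Subtype.val hn
  have h2 := hcen _ h1 u hu ⟨n, by
    rw [mul_inv_cancel_left]
    have h3 := conj_pow (a := g⁻¹) (b := x) (i := p ^ n)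
    rw [inv_inv] at h3
    rw [h3, hn', mul_one, inv_mul_cancel]⟩
  rw [inv_mul_eq_one] at h2
  rw [← h2]
  exact hu.2

/-- **`p`-subgroups are unitriangular** -/
theorem exists_conj_tri [IsAlgClosed K] {p : ℕ} (hp : p.Prime) [CharP K p] (hA : BpExc.TorAll.HAlg p K)
    {R : Subgroup (Gh K)} (hR : IsPGroup p R) : ∃ g : Gh K, ∀ x ∈ R, STri rho1 (rho K (g⁻¹ * x * g) - 1) := by
  have : Fact p.Prime := ⟨hp⟩
  obtain ⟨T, hT, hsp, hli⟩ := exists_linearIndependent K ((fun x => rho K x - 1) '' (R : Set (Gh K)))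
  have hTf : T.Finite := hli.setFinite
  choose x hx hx' using fun t : T => hT t.2
  have : Finite T := hTf
  obtain ⟨N, hN, h⟩ := exists_fin hA (Set.finite_range x)
  have := finite_fixF (K := K) p hN
  let f := (fixF (K := K) p N).subtype
  obtain ⟨g, hg⟩ := exists_conj_fin (R := R.comap (emb f)) (hR.comap_of_injective _ (emb_injective f))
  refine ⟨emb f g, fun y hy => ?_⟩
  have h1 : ∀ A ∈ Submodule.span K T, STri rho1 (rho K (emb f g)⁻¹ * A * rho K (emb f g)) := by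
    intro A hA
    induction hA using Submodule.span_induction with
    | mem A hA =>
      obtain ⟨x0, h0⟩ := h (x ⟨A, hA⟩) ⟨_, rfl⟩
      have h2 := hg x0 (by rw [Subgroup.mem_comap, h0]; exact hx _)
      have h3 : rho K (emb f g)⁻¹ * A * rho K (emb f g) = (rho _ (g⁻¹ * x0 * g) - 1).map f := by
        have h4 : A = rho K (x ⟨A, hA⟩) - 1 := (hx' ⟨A, hA⟩).symm
        have h5 : emb f (g⁻¹ * x0 * g) = (emb f g)⁻¹ * x ⟨A, hA⟩ * emb f g := by
          rw [map_mul, map_mul, map_inv, ← h0]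
        rw [Matrix.map_sub _ (map_sub f), Matrix.map_one _ (map_zero f) (map_one f), ← rho_emb, h5]
        generalize x ⟨A, hA⟩ = w at h4
        rw [h4, mul_sub, mul_one, sub_mul, ← map_mul, ← map_mul, ← map_mul, inv_mul_cancel, map_one]
      rw [h3]
      intro i j hij
      exact h2 i j fun h0 => hij (by rw [map_apply, h0, map_zero])
    | zero => rw [mul_zero, zero_mul]; exact STri.zero _
    | add A B _ _ hA hB => rw [mul_add, add_mul]; exact hA.add hB
    | smul c A _ hA => rw [mul_smul_comm, smul_mul_assoc]; exact hA.smul c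
  have h2 := h1 (rho K y - 1) (by rw [hsp]; exact Submodule.subset_span ⟨y, hy, rfl⟩)
  rwa [mul_sub, mul_one, sub_mul, ← map_mul, ← map_mul, ← map_mul, inv_mul_cancel, map_one] at h2

end Cfsg.Agent.E7P.Kf

private theorem dce_107b78f909a9 : _root_.True := by
  try have : _root_.True := by simp only [_root_.Cfsg.Agent.E7P.Kf.wv.eq_1]
  exact _root_.True.intro
end

-- part: E7P/Defs
section
set_option linter.all false

/-!
# S5932: the situation and the boxes (helper32)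

* `Sit p a b F K k` : `H` is a maximal subgroup of `E₇(p^b)` with `F*(H) = φ(PSL₂(K))`, `|K| = p^a ≥ 11`,
  `p^a ≠ 19, 25`, `a ≠ 7 b`; `ψ0` the lift of `SL₂(K)` to the simply connected group; `k` the algebraic closure;
* `Sit.M` : the preimage of `H`, inside `Gh k`; `Sit.ψ`, `Sit.σ` (Frobenius), `Sit.R`, `Sit.RL` : the modules;
* `Box P` : the goal `17 ≤ p ∧ a = b` for the parameters with `P p a b`;
* `Sit.Ew`, `Sit.Tor` : a non-trivial cocharacter acting by scalars on the weight spaces of the torus of `SL₂(K)`;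
* `core` : the assembly.
-/

set_option autoImplicit false

namespace Cfsg.Agent.E7P

open Cfsg Cfsg.Lie Module Matrix
open Cfsg.Agent.R2.T1
open Cfsg.Agent.R2.H9.E6 (MaxSimp pq)
open Cfsg.Agent.H943.E7V.Block (D1 rho)
open Cfsg.Agent.BpExc.TorAll (HAlg)
open Cfsg.Agent.H943.SL2Rel (u w h)

universe u v

/-- **the situation** -/
structure Sit (p a b : ℕ) (F : Type u) (K : Type v) (k : Type u) [Field F] [Fintype F] [Field K] [Fintype K]
    [Field k] where
  H : Subgroup ↥(chevE7.group F)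
  φ : ProjectiveSpecialLinearGroup (Fin 2) K →* ↥(chevE7.group F)
  ψ0 : SpecialLinearGroup (Fin 2) K →* Gh F
  f : F →+* k
  ι : K →+* k
  s : k →+* k
  max : MaxSimp H φ
  prime : p.Prime
  ha : 1 ≤ a
  hb : 1 ≤ b
  charF : CharP F p
  charK : CharP K p
  chark : CharP k p
  cardF : Fintype.card F = p ^ b
  cardK : Fintype.card K = p ^ a
  lift : ∀ g, ad F (ψ0 g) = φ (pq g)
  eleven : 11 ≤ p ^ a
  ne19 : p ^ a ≠ 19
  ne25 : p ^ a ≠ 25
  ne7 : a ≠ 7 * b
  bound : ∃ d ∈ [1, 3, 4, 5, 6, 7, 9], a ∣ b * d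
  closed : IsAlgClosed k
  alg : HAlg p k
  frob : ∀ t, s t = t ^ Nat.card F

namespace Sit

variable {p a b : ℕ} {F : Type u} {K : Type v} {k : Type u} [Field F] [Fintype F] [Field K] [Fintype K] [Field k]
  (S : Sit p a b F K k)

/-- the preimage of `H` in the simply connected group over `F` -/
noncomputable def M0 : Subgroup (Gh F) := S.H.comap (ad F)

/-- the preimage of `H`, in the algebraic group -/
noncomputable def M : Subgroup (Gh k) := S.M0.map (emb S.f)

/-- `SL₂(K)` in the algebraic group -/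
noncomputable def ψ : SpecialLinearGroup (Fin 2) K →* Gh k := (emb S.f).comp S.ψ0

/-- the Frobenius endomorphism -/
noncomputable def σ : Gh k →* Gh k := emb S.s

/-- the Frobenius map on vectors (of `V`, of the Lie algebra) -/
def sv {I : Type} (x : I → k) : I → k := fun i => S.s (x i)

/-- the 56-dimensional module -/
noncomputable def R : Representation k (SpecialLinearGroup (Fin 2) K) (D1 → k) := MonoidHom.comp (V k) S.ψ

/-- the adjoint module -/
noncomputable def RL : Representation k (SpecialLinearGroup (Fin 2) K) (chevE7.Idx → k) := MonoidHom.comp (L k) S.ψ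

/-- the vectors of weight `j` (modulo `p ^ a - 1`) for the torus of `SL₂(K)` -/
def Ew (j : ℤ) (x : D1 → k) : Prop := ∀ c : Kˣ, S.R (h c) x = ((Units.map (S.ι : K →* k) c ^ j : kˣ) : k) • x

/-- **blueprint**: a non-trivial cocharacter which acts by scalars on the weight spaces of the torus of `SL₂(K)` -/
def Tor : Prop := ∃ (μ : kˣ →* Gh k) (n : ℤ → ℤ), (∃ z, μ z ≠ 1) ∧
  ∀ (j : ℤ) (x : D1 → k), S.Ew j x → ∀ z : kˣ, V k (μ z) x = ((z ^ n j : kˣ) : k) • x

end Sit

/-- the goal for the parameters with `P p a b` -/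
def Box (P : ℕ → ℕ → ℕ → Prop) : Prop := ∀ (p a b : ℕ) (F : Type u) (K : Type v) (k : Type u) [Field F] [Fintype F]
  [Field K] [Fintype K] [Field k] (_ : Sit p a b F K k), P p a b → 17 ≤ p ∧ a = b

/-- `p = 2` -/
def BoxTwo : Prop := Box.{u, v} fun p _ _ => p = 2

/-- `a = 1`, `p = 11, 13, 17, 23` -/
def BoxPrime : Prop := Box.{u, v} fun p a _ => a = 1 ∧ p ≤ 23

/-- `a = 1`, `p ≥ 29` -/
def BoxSat : Prop := Box.{u, v} fun p a _ => a = 1 ∧ 29 ≤ p

/-- the small fields, `p = 3` -/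
def BoxSm3 : Prop := Box.{u, v} fun p a _ => p = 3 ∧ (a = 3 ∨ a = 4)

/-- the small fields, `p ≥ 5` -/
def BoxSm5 : Prop := Box.{u, v} fun p a _ => (p = 5 ∧ a = 3) ∨ (a = 2 ∧ (p = 7 ∨ p = 11 ∨ p = 13))

/-- **BLUE**: the torus of `SL₂(K)` is a blueprint if `K` is large (Hadamard bound) -/
def BLUE : Prop := ∀ (p a b : ℕ) (F : Type u) (K : Type v) (k : Type u) [Field F] [Fintype F]
  [Field K] [Fintype K] [Field k] (S : Sit p a b F K k), p ≠ 2 → (p ^ a = 243 ∨ 257 < p ^ a) → S.Tor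

/-- **TOR**: the blueprint case (`ALG` and `END`) -/
def TOR : Prop := ∀ (p a b : ℕ) (F : Type u) (K : Type v) (k : Type u) [Field F] [Fintype F]
  [Field K] [Fintype K] [Field k] (S : Sit p a b F K k), p ≠ 2 → S.Tor → 17 ≤ p ∧ a = b

theorem cases_num {p a : ℕ} (hp : p.Prime) (ha : 1 ≤ a) (h11 : 11 ≤ p ^ a) (h25 : p ^ a ≠ 25) :
    p = 2 ∨ (a = 1 ∧ p ≤ 23) ∨ (a = 1 ∧ 29 ≤ p) ∨ (p = 3 ∧ (a = 3 ∨ a = 4)) ∨
      ((p = 5 ∧ a = 3) ∨ (a = 2 ∧ (p = 7 ∨ p = 11 ∨ p = 13))) ∨ (p ^ a = 243 ∨ 257 < p ^ a) := by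
  by_cases h2 : p = 2
  · exact Or.inl h2
  right
  by_cases h1 : a = 1
  · by_cases h23 : p ≤ 23
    · exact Or.inl ⟨h1, h23⟩
    · refine Or.inr (Or.inl ⟨h1, ?_⟩)
      by_contra h29
      have h3 : p < 29 := by omega
      have h4 : 23 < p := by omega
      interval_cases p <;> exact absurd hp (by norm_num)
  right; right
  have ha2 : 2 ≤ a := by omega
  by_cases h17 : 17 ≤ p
  · right; right; right
    calc 257 < 17 ^ 2 := by norm_num
      _ ≤ p ^ 2 := Nat.pow_le_pow_left h17 2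
      _ ≤ p ^ a := Nat.pow_le_pow_right hp.pos ha2
  by_cases h6 : 6 ≤ a
  · right; right; right
    have h3 : 3 ≤ p := by have := hp.two_le; omega
    calc 257 < 3 ^ 6 := by norm_num
      _ ≤ p ^ 6 := Nat.pow_le_pow_left h3 6
      _ ≤ p ^ a := Nat.pow_le_pow_right hp.pos h6
  have h3 : p < 17 := by omega
  have h5 : a < 6 := by omega
  interval_cases p <;> first
    | (exfalso; revert hp; decide)
    | (interval_cases a <;> simp_all)

/-- **the assembly** -/
theorem core (h2 : BoxTwo.{u, v}) (hP : BoxPrime.{u, v}) (hS : BoxSat.{u, v}) (h3 : BoxSm3.{u, v})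
    (h5 : BoxSm5.{u, v}) (hB : BLUE.{u, v}) (hT : TOR.{u, v}) : Box.{u, v} fun _ _ _ => True := by
  intro p a b F K k _ _ _ _ _ S _
  by_cases hp2 : p = 2
  · exact h2 p a b F K k S hp2
  rcases cases_num S.prime S.ha S.eleven S.ne25 with h | h | h | h | h | h
  · exact absurd h hp2
  · exact hP p a b F K k S h
  · exact hS p a b F K k S h
  · exact h3 p a b F K k S h
  · exact h5 p a b F K k S h
  · exact hT p a b F K k S hp2 (hB p a b F K k S hp2 h)

end Cfsg.Agent.E7P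
end

-- part: E7P/Kf/Kill
section
set_option linter.all false
open scoped Cfsg.Agent.FastGrp

/-!
# S5932: `KILL`, `NOP`, `FPF` (helper48)

* `Sit.kill` : `M` and the Frobenius map do not normalise a proper parabolic subgroup;
* `Sit.kill_unst`, `Sit.kill_sub` : no unstable set of vectors (subspace) is stable under `M` and the Frobenius map;
* `Sit.nop` : a `σ`-stable `p`-subgroup normalised by `M` is trivial;
* `Sit.fpf` : a `σ`-stable subgroup normalised by `M` without fixed points of `σ` modulo the centre has no element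
  of order `p`.
-/

set_option autoImplicit false
set_option maxRecDepth 100000

namespace Cfsg.Agent.E7P

open Cfsg Cfsg.Lie Matrix Module
open Cfsg.Agent.H943.E7V.Block (D1 rho)
open Cfsg.Agent.R2.T1 Cfsg.Agent.E7P.Kf
open Cfsg.Agent.R2.H9.E6 (MaxSimp pq psl_simple psl_noncomm simple_noncomm)
open scoped Pointwise

universe u v

namespace Kf

/-- invariant `p`-subgroups for an automorphism without fixed points modulo a central subgroup -/
theorem exists_inv_pgroup {Y : Type*} [Group Y] (D : Subgroup Y) [Finite D] (σ : Y →* Y) (hσi : Function.Injective σ)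
    (hσ : ∀ y ∈ D, σ y ∈ D) (hZ : ∀ z ∈ Subgroup.center Y, σ z ∈ Subgroup.center Y)
    (hfix : ∀ y ∈ D, y⁻¹ * σ y ∈ Subgroup.center Y → y ∈ Subgroup.center Y) {p : ℕ} (hp : p.Prime) {x : Y}
    (hx : x ∈ D) (hxp : x ^ p = 1) (hx1 : x ≠ 1) :
    ∃ R : Subgroup Y, R ≠ ⊥ ∧ IsPGroup p R ∧ (∀ y ∈ R, σ y ∈ R) ∧
      ∀ m, σ m = m → (∀ y ∈ D, m * y * m⁻¹ ∈ D) → ∀ y ∈ R, m * y * m⁻¹ ∈ R := by
  have : Fact p.Prime := ⟨hp⟩
  let Z : Subgroup D := (Subgroup.center Y).subgroupOf D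
  have hZn : Z.Normal := inferInstance
  -- endomorphisms of `Y` which preserve `D` and the centre
  have key : ∀ τ : Y →* Y, Function.Injective τ → (∀ y ∈ D, τ y ∈ D) →
      (∀ z ∈ Subgroup.center Y, τ z ∈ Subgroup.center Y) →
      ∃ φ : MulAut (D ⧸ Z), ∀ (y : D) (h : τ y ∈ D), φ (QuotientGroup.mk y) = QuotientGroup.mk ⟨τ y, h⟩ := by
    intro τ hi h1 h2
    let τ0 : D →* D := (τ.comp D.subtype).codRestrict D fun y => h1 y y.2
    have hs : Function.Surjective τ0 := Finite.surjective_of_injective fun a b h =>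
      Subtype.ext (hi (congrArg Subtype.val h))
    let τ1 : D ⧸ Z →* D ⧸ Z := QuotientGroup.map Z Z τ0 fun z hz => h2 z hz
    have hs1 : Function.Surjective τ1 := by
      intro q
      obtain ⟨y, rfl⟩ := QuotientGroup.mk_surjective q
      obtain ⟨y', rfl⟩ := hs y
      exact ⟨QuotientGroup.mk y', rfl⟩
    exact ⟨MulEquiv.ofBijective τ1 ⟨Finite.injective_iff_surjective.2 hs1, hs1⟩, fun y h => rfl⟩
  obtain ⟨φ, hφ⟩ := key σ hσi hσ hZ
  have hfree : ∀ q, φ q = q → q = 1 := by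
    intro q hq
    obtain ⟨y, rfl⟩ := QuotientGroup.mk_surjective q
    rw [hφ y (hσ y y.2), eq_comm, QuotientGroup.eq] at hq
    rw [QuotientGroup.eq_one_iff]
    exact hfix y y.2 hq
  obtain ⟨P, hP⟩ := Lib.AbelianFrobenius.exists_sylow_smul_eq (p := p) φ hfree
  let Pt : Subgroup D := (P : Subgroup (D ⧸ Z)).comap (QuotientGroup.mk' Z)
  have hmem : ∀ (ψ : MulAut (D ⧸ Z)), ψ • P = P → ∀ q ∈ (P : Subgroup (D ⧸ Z)), ψ q ∈ (P : Subgroup (D ⧸ Z)) := by
    intro ψ h q hq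
    have h1 : ψ • q ∈ ψ • (P : Subgroup (D ⧸ Z)) := Subgroup.smul_mem_pointwise_smul _ _ _ hq
    rw [← Sylow.pointwise_smul_def, h] at h1
    exact h1
  have hnil : Group.IsNilpotent Pt := by
    have h1 : Group.IsNilpotent (P : Subgroup (D ⧸ Z)) := P.isPGroup'.isNilpotent
    refine Subgroup.isNilpotent_of_ker_le_center ((QuotientGroup.mk' Z).subgroupComap (P : Subgroup (D ⧸ Z))) fun y hy => ?_
    have h2 : ((y : D) : D ⧸ Z) = 1 := congrArg Subtype.val hy
    rw [QuotientGroup.eq_one_iff] at h2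
    rw [Subgroup.mem_center_iff]
    intro g
    exact Subtype.ext (Subtype.ext (Subgroup.mem_center_iff.1 h2 _))
  obtain ⟨S⟩ : Nonempty (Sylow p Pt) := inferInstance
  have hSn : (S : Subgroup Pt).Normal := Sylow.normal_of_normalizerCondition Group.normalizerCondition_of_isNilpotent S
  have hSm : ∀ y : Pt, (∃ n, y ^ p ^ n = 1) → y ∈ (S : Subgroup Pt) := by
    rintro y ⟨n, hn⟩
    have h1 : IsPGroup p (Subgroup.zpowers y) := IsPGroup.of_card_dvd_pow (n := n) (by
      rw [Nat.card_zpowers]; exact orderOf_dvd_of_pow_eq_one hn)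
    obtain ⟨T, hT⟩ := h1.exists_le_sylow
    have := Sylow.unique_of_normal S hSn
    rw [Subsingleton.elim S T]
    exact hT (Subgroup.mem_zpowers y)
  let R : Subgroup Y := (((S : Subgroup Pt).map Pt.subtype).map D.subtype)
  have hR : ∀ y, y ∈ R ↔ ∃ h : y ∈ D, (⟨y, h⟩ : D) ∈ Pt ∧ ∃ n, y ^ p ^ n = 1 := by
    intro y
    constructor
    · rintro ⟨_, ⟨w, hw, rfl⟩, rfl⟩
      obtain ⟨n, hn⟩ := S.isPGroup' ⟨w, hw⟩
      exact ⟨w.1.2, w.2, n, congrArg (fun t : (S : Subgroup Pt) => (((t : Pt) : D) : Y)) hn⟩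
    · rintro ⟨h, h1, n, hn⟩
      exact ⟨⟨y, h⟩, ⟨⟨⟨y, h⟩, h1⟩, hSm _ ⟨n, Subtype.ext (Subtype.ext hn)⟩, rfl⟩, rfl⟩
  have hstab : ∀ (τ : Y →* Y) (h1 : ∀ y ∈ D, τ y ∈ D) (ψ : MulAut (D ⧸ Z)), ψ • P = P →
      (∀ (y : D) (h : τ y ∈ D), ψ (QuotientGroup.mk y) = QuotientGroup.mk ⟨τ y, h⟩) → ∀ y ∈ R, τ y ∈ R := by
    intro τ h1 ψ h2 h3 y hy
    obtain ⟨h, h4, n, hn⟩ := (hR y).1 hy
    refine (hR _).2 ⟨h1 y h, ?_, n, by rw [← map_pow, hn, map_one]⟩
    have h5 := hmem ψ h2 _ h4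
    rw [QuotientGroup.mk'_apply, h3 ⟨y, h⟩ (h1 y h)] at h5
    exact h5
  refine ⟨R, fun hbot => ?_, (S.isPGroup'.map _).map _, hstab σ hσ φ hP hφ, fun m hm hmD => ?_⟩
  · -- the order of `x` divides the order of `S`
    have h1 : p ∣ Nat.card D := by
      have h2 : orderOf (⟨x, hx⟩ : D) = p := orderOf_eq_prime (Subtype.ext hxp) fun h => hx1 (congrArg Subtype.val h)
      rw [← h2]
      exact orderOf_dvd_natCard _
    have h3 : ¬ p ∣ Pt.index := by
      rw [Subgroup.index_comap_of_surjective _ (QuotientGroup.mk'_surjective Z)]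
      exact P.not_dvd_index
    have h4 : p ∣ Nat.card Pt := by
      rw [← Pt.card_mul_index] at h1
      exact (hp.dvd_mul.1 h1).resolve_right h3
    have h5 := S.ne_bot_of_dvd_card h4
    apply h5
    rw [Subgroup.map_eq_bot_iff_of_injective _ D.subtype_injective,
      Subgroup.map_eq_bot_iff_of_injective _ Pt.subtype_injective] at hbot
    exact hbot
  · obtain ⟨ψ, hψ⟩ := key (MulAut.conj m).toMonoidHom (MulAut.conj m).injective hmD (fun z hz => by
      show m * z * m⁻¹ ∈ _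
      rw [Subgroup.mem_center_iff.1 hz m, mul_inv_cancel_right]
      exact hz)
    have hcomm : φ * ψ = ψ * φ := by
      ext q
      obtain ⟨y, rfl⟩ := QuotientGroup.mk_surjective q
      rw [MulAut.mul_apply, MulAut.mul_apply, hψ y (hmD y y.2), hφ y (hσ y y.2), hφ _ (hσ _ (hmD y y.2)),
        hψ _ (hmD _ (hσ y y.2))]
      congr 1
      apply Subtype.ext
      show σ (m * y * m⁻¹) = m * σ y * m⁻¹
      rw [map_mul, map_mul, map_inv, hm]
    have h1 : φ • (ψ • P) = ψ • P := by rw [← mul_smul, hcomm, mul_smul, hP]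
    exact hstab (MulAut.conj m).toMonoidHom hmD ψ (Lib.AbelianFrobenius.sylow_eq_of_smul_eq φ hfree h1 hP) hψ

end Kf

namespace Sit

variable {p a b : ℕ} {F : Type u} {K : Type v} {k : Type u} [Field F] [Fintype F] [Field K] [Fintype K] [Field k]
  (S : Sit p a b F K k)

theorem k_frob (t : k) : S.s t = t ^ p ^ b := by rw [S.frob, Nat.card_eq_fintype_card, S.cardF]

include S in
theorem k_four : 4 ≤ Fintype.card K := by
  rw [S.cardK]
  have := S.eleven
  omega

theorem k_σ_emb (x : Gh F) : S.σ (emb S.f x) = emb S.f x := emb_frob S.f S.s S.frob x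

theorem k_σ_M {m : Gh k} (hm : m ∈ S.M) : S.σ m = m := by
  obtain ⟨x, -, rfl⟩ := hm
  exact S.k_σ_emb x

theorem k_desc {z : Gh k} (hz : S.σ z = z) : ∃ z0, emb S.f z0 = z :=
  have := S.closed
  exists_of_emb_eq S.f S.s S.frob hz

/-- maximality in the simply connected group -/
theorem k_max {T : Subgroup (Gh F)} (h : S.M0 ≤ T) : T = S.M0 ∨ T = ⊤ := by
  have hker : (ad F).ker ≤ T := fun g hg => h (by
    show ad F g ∈ S.H
    rw [hg]; exact one_mem _)
  have h1 : S.H ≤ T.map (ad F) := by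
    intro y hy
    obtain ⟨g, rfl⟩ := ad_surjective y
    exact ⟨g, h hy, rfl⟩
  have h2 : (T.map (ad F)).comap (ad F) = T := Subgroup.comap_map_eq_self hker
  rcases eq_or_lt_of_le h1 with h3 | h3
  · left
    rw [← h2, ← h3]
    rfl
  · right
    rw [← h2, S.max.coatom.2 _ h3, Subgroup.comap_top]

/-- normal `p`-subgroups of `M0` -/
theorem k_op {Q : Subgroup (Gh F)} (hQ : IsPGroup p Q) (hle : Q ≤ S.M0) (hn : ∀ m ∈ S.M0, ∀ x ∈ Q, m * x * m⁻¹ ∈ Q) :
    Q ≤ (ad F).ker := by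
  by_contra hne
  have : Fact p.Prime := ⟨S.prime⟩
  have h1 : S.φ.range ≤ Q.map (ad F) := by
    refine S.max.min _ ?_ ?_ ?_
    · rintro _ ⟨x, hx, rfl⟩
      exact hle hx
    · rintro h hh _ ⟨x, hx, rfl⟩
      obtain ⟨m, rfl⟩ := ad_surjective h
      exact ⟨_, hn m hh x hx, by rw [map_mul, map_mul, map_inv]⟩
    · rwa [Ne, Subgroup.map_eq_bot_iff]
  have h2 : IsPGroup p (ProjectiveSpecialLinearGroup (Fin 2) K) :=
    ((hQ.map (ad F)).to_le h1).of_injective S.φ.rangeRestrict (by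
      intro x y h
      exact S.max.inj (congrArg Subtype.val h))
  have hs := psl_simple S.k_four
  have h3 := h2.center_nontrivial
  rw [simple_noncomm (psl_noncomm S.k_four)] at h3
  exact not_subsingleton _ (inferInstance : Subsingleton (⊥ : Subgroup (ProjectiveSpecialLinearGroup (Fin 2) K)))

/-- **KILL** -/
theorem kill {g : Gh k} {β : E} (h0 : β ≠ 0) (hβ : Dom β) (hM : ∀ m ∈ S.M, g⁻¹ * m * g ∈ Pl k β)
    (hσ : g⁻¹ * S.σ g ∈ Pl k β) : False := by
  have := S.closed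
  have := S.chark
  obtain ⟨y, hy, z, hz, e⟩ := lang_Pl S.prime S.hb S.k_frob hσ
  set g' := g * y with hg'
  have hM' : ∀ m ∈ S.M, g'⁻¹ * m * g' ∈ Pl k β := by
    intro m hm
    have h1 : g'⁻¹ * m * g' = y⁻¹ * (g⁻¹ * m * g) * y := by rw [hg']; group
    rw [h1]
    exact mul_mem (mul_mem (inv_mem hy) (hM m hm)) hy
  have hfix : ∀ r, ∃ x0, g'⁻¹ * emb S.f x0 * g' = xs k r 1 := by
    intro r
    obtain ⟨x0, h⟩ := S.k_desc (z := g' * xs k r 1 * g'⁻¹) (by
      show emb S.s _ = _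
      rw [map_mul, map_mul, map_inv, e, emb_xs, map_one, mul_assoc g' z, ← Subgroup.mem_center_iff.1 hz]
      group)
    exact ⟨x0, by rw [h]; group⟩
  let c : Gh F →* Gh k := (MulAut.conj g'⁻¹).toMonoidHom.comp (emb S.f)
  have hc : ∀ x, c x = g'⁻¹ * emb S.f x * g' := fun x => by
    show g'⁻¹ * emb S.f x * g'⁻¹⁻¹ = _
    rw [inv_inv]
  have hci : Function.Injective c := (MulAut.conj g'⁻¹).injective.comp (emb_injective S.f)
  have h1 : S.M0 ≤ (Pl k β).comap c := fun m hm => by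
    rw [Subgroup.mem_comap, hc]
    exact hM' _ ⟨m, hm, rfl⟩
  have htop := hβ.top_pos h0
  rcases S.k_max h1 with h2 | h2
  · have h3 := S.k_op (Q := (Ul k β).comap c) ((isPGroup_Ul S.prime β).comap_of_injective c hci)
      (fun x hx => by rw [← h2]; exact hx.1) (fun m hm x hx => by
        rw [Subgroup.mem_comap, map_mul, map_mul, map_inv]
        exact Ul_conj (h1 hm) hx)
    obtain ⟨x0, hx0⟩ := hfix 125
    have h4 : x0 ∈ Subgroup.center (Gh F) := by
      rw [← ker_ad]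
      refine h3 ?_
      rw [Subgroup.mem_comap, hc, hx0]
      exact xs_mem_Ul (by norm_num) htop 1
    obtain ⟨x1, hx1⟩ := hfix 0
    have h5 : xs k 125 1 * xs k 0 1 = xs k 0 1 * xs k 125 1 := by
      rw [← hx0, ← hx1, ← hc, ← hc, ← map_mul, ← map_mul, Subgroup.mem_center_iff.1 h4]
    have h6 := congrArg (rho k) h5
    rw [map_mul, map_mul, rho_xs' (by norm_num), rho_xs' (by norm_num), one_smul, one_smul] at h6
    have h7 : NM k 125 * NM k (125 - 125) - NM k (125 - 125) * NM k 125 = 0 := by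
      rw [Nat.sub_self]
      have e1 : ∀ A B : Matrix D1 D1 k, A * B - B * A = (1 + A) * (1 + B) - (1 + B) * (1 + A) := fun A B => by
        noncomm_ring
      rw [e1, h6, sub_self]
    rw [R2.PX.NM_comm_neg (by norm_num)] at h7
    have h8 := R2.PX.Hd_NM (F := k) (r := 125) (by norm_num)
    rw [h7, zero_mul] at h8
    obtain ⟨i, j, hij⟩ := exists_NM_ne (K := k) (r := 125) (by norm_num)
    exact hij (by rw [← h8]; rfl)
  · obtain ⟨x1, hx1⟩ := hfix 0
    have h3 : x1 ∈ (Pl k β).comap c := by rw [h2]; trivial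
    rw [Subgroup.mem_comap, hc, hx1] at h3
    have h4 := nonneg_of_xs_mem (by norm_num) one_ne_zero h3
    have h5 := rv_neg (r := 125) (by norm_num)
    rw [Nat.sub_self] at h5
    rw [h5, map_neg] at h4
    linarith

theorem k_iter (n : ℕ) (t : k) : (S.s ^ n) t = t ^ p ^ (b * n) := by
  induction n with
  | zero => simp
  | succ n ih => rw [pow_succ', RingHom.mul_def, RingHom.comp_apply, ih, S.k_frob, ← pow_mul, ← pow_add, Nat.mul_succ]

theorem k_pow_fix {t : k} {N : ℕ} (h : t ^ p ^ N = t) : (S.s ^ N) t = t := by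
  rw [S.k_iter, mul_comm]
  have key : ∀ j, t ^ p ^ (N * j) = t := by
    intro j
    induction j with
    | zero => simp
    | succ j ih => rw [Nat.mul_succ, pow_add, pow_mul, ih, h]
  exact key b

/-- the Frobenius map is surjective on stable sets of vectors -/
theorem k_sv_surj {I : Type*} [Finite I] {X : Set (I → k)} (h : ∀ v ∈ X, (fun i => S.s (v i)) ∈ X) :
    ∀ v ∈ X, ∃ v' ∈ X, v = fun i => S.s (v' i) := by
  intro v hv
  obtain ⟨N, hN, h1⟩ := locFin S.alg (Set.finite_range v)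
  have h2 : ∀ n, (fun i => (S.s ^ n) (v i)) ∈ X := by
    intro n
    induction n with
    | zero => exact hv
    | succ n ih =>
      rw [pow_succ']
      exact h _ ih
  refine ⟨_, h2 (N - 1), funext fun i => ?_⟩
  have h3 := S.k_pow_fix (h1 _ ⟨i, rfl⟩)
  rw [show N = N - 1 + 1 by omega, pow_succ'] at h3
  exact h3.symm

section
variable {I : Type*} [Fintype I] [DecidableEq I] {c : I → Fin 7 → ℤ} {R : Gh k →* Matrix I I k}

/-- **KILL** for unstable sets of vectors -/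
theorem kill_unst (h : WRep c R) {X : Set (I → k)} (hX : Unst c R X) (hM : ∀ m ∈ S.M, ∀ v ∈ X, R m *ᵥ v ∈ X)
    (hσ : ∀ v ∈ X, (fun i => S.s (v i)) ∈ X) : False := by
  have := S.closed
  obtain ⟨g, β, h0, hβ, -, h1, h2⟩ := h.kempf hX
  exact S.kill h0 hβ (fun m hm => h1 m (hM _ (inv_mem hm))) (h2 S.s (S.k_sv_surj hσ))

end

/-- **NOP** -/
theorem nop {R : Subgroup (Gh k)} (hR : IsPGroup p R) (hσ : ∀ x ∈ R, S.σ x ∈ R)
    (hM : ∀ m ∈ S.M, ∀ x ∈ R, m * x * m⁻¹ ∈ R) : R = ⊥ := by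
  have := S.closed
  have := S.chark
  by_contra hne
  obtain ⟨g, hg⟩ := exists_conj_tri S.prime S.alg hR
  have hc : ∀ y x : Gh k, rho k y * (rho k x - 1) * rho k y⁻¹ = rho k (y * x * y⁻¹) - 1 := fun y x => by
    rw [mul_sub, mul_one, sub_mul, ← map_mul, ← map_mul, ← map_mul, mul_inv_cancel, map_one]
  refine S.kill_unst wrep_V.endo (X := {v | ∃ x ∈ R, v = Kf.vec (rho k x - 1)}) ⟨?_, g, rho1, ?_⟩ ?_ ?_
  · obtain ⟨⟨x, hx⟩, hx1⟩ := (Subgroup.ne_bot_iff_exists_ne_one).1 hne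
    refine ⟨_, ⟨x, hx, rfl⟩, fun h0 => hx1 (Subtype.ext (rho_injective ?_))⟩
    rw [OneMemClass.coe_one, map_one, ← sub_eq_zero]
    ext i j
    exact congrFun h0 (i, j)
  · rintro _ ⟨x, hx, rfl⟩ i hi
    rw [endo_mulVec, hc, inv_inv] at hi
    have h1 := hg x hx i.1 i.2 hi
    rw [cv_add, cv_neg, map_add, map_neg]
    exact sub_pos.2 h1
  · rintro m hm _ ⟨x, hx, rfl⟩
    exact ⟨_, hM m hm x hx, by rw [endo_mulVec, hc]⟩
  · rintro _ ⟨x, hx, rfl⟩
    refine ⟨_, hσ x hx, funext fun i => ?_⟩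
    show S.s ((rho k x - 1) i.1 i.2) = (rho k (emb S.s x) - 1) i.1 i.2
    rw [rho_emb, Matrix.sub_apply, Matrix.sub_apply, map_sub, map_apply, one_apply, apply_ite S.s, map_one, map_zero]

theorem k_σ_pow (n : ℕ) (x : Gh k) : S.σ^[n] x = emb (S.s ^ n) x := by
  induction n with
  | zero => exact (emb_id x).symm
  | succ n ih =>
    rw [Function.iterate_succ_apply', ih, pow_succ', RingHom.mul_def, ← emb_comp]
    rfl

/-- finite sets are fixed by a power of the Frobenius map -/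
theorem k_exists_pow {T : Set (Gh k)} (hT : T.Finite) : ∃ N, 0 < N ∧ ∀ x ∈ T, emb (S.s ^ N) x = x := by
  obtain ⟨N, hN, h⟩ := locFin S.alg (hT.biUnion fun g _ => Set.finite_range fun x : D1 × D1 => rho k g x.1 x.2)
  refine ⟨N, hN, fun x hx => rho_injective ?_⟩
  rw [rho_emb]
  ext i j
  exact S.k_pow_fix (h _ (Set.mem_biUnion hx ⟨(i, j), rfl⟩))

theorem k_finite {N : ℕ} (hN : 0 < N) : {x : Gh k | emb (S.s ^ N) x = x}.Finite := by
  have : Fact p.Prime := ⟨S.prime⟩
  have := S.chark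
  have hf := finite_fixF (K := k) p (Nat.mul_pos S.hb hN)
  refine Set.Finite.of_finite_image (f := rho k) ?_ rho_injective.injOn
  refine (Set.finite_range fun A : Matrix D1 D1 (fixF (K := k) p (b * N)) => A.map Subtype.val).subset ?_
  rintro _ ⟨x, hx, rfl⟩
  refine ⟨Matrix.of fun i j => ⟨rho k x i j, ?_⟩, rfl⟩
  have h1 := congrFun (congrFun (rho_emb (S.s ^ N) x) i) j
  rw [hx, map_apply, S.k_iter] at h1
  exact h1.symm

theorem k_σ_center {z : Gh k} (hz : z ∈ Subgroup.center (Gh k)) : S.σ z = z := by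
  obtain ⟨c, hc, h⟩ := rho_center hz
  apply rho_injective
  show rho k (emb S.s z) = _
  have h1 : (c : k) * c = 1 := by rw [← Units.val_mul, hc, Units.val_one]
  have h2 : S.s c = c := by
    rcases mul_self_eq_one_iff.1 h1 with h3 | h3
    · rw [h3, map_one]
    · rw [h3, map_neg, map_one]
  rw [rho_emb, h, diagonal_map (map_zero _)]
  simp only [h2]

/-- **FPF** -/
theorem fpf {D : Subgroup (Gh k)} (hσ : ∀ x ∈ D, S.σ x ∈ D) (hM : ∀ m ∈ S.M, ∀ x ∈ D, m * x * m⁻¹ ∈ D)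
    (hfix : ∀ y ∈ D, y⁻¹ * S.σ y ∈ Subgroup.center (Gh k) → y ∈ Subgroup.center (Gh k)) {x : Gh k} (hx : x ∈ D)
    (hxp : x ^ p = 1) : x = 1 := by
  by_contra hx1
  obtain ⟨N, hN, h⟩ := S.k_exists_pow (Set.finite_singleton x)
  let D' : Subgroup (Gh k) := D ⊓ (emb (S.s ^ N)).eqLocus (MonoidHom.id _)
  have hfin : Finite D' := (S.k_finite hN).subset fun y hy => hy.2
  have hcomm : ∀ y, emb (S.s ^ N) (S.σ y) = S.σ (emb (S.s ^ N) y) := fun y => by
    rw [← S.k_σ_pow, ← S.k_σ_pow, ← Function.iterate_succ_apply, Function.iterate_succ_apply']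
  have hMf : ∀ m ∈ S.M, emb (S.s ^ N) m = m := fun m hm => by
    rw [← S.k_σ_pow]
    exact Function.iterate_fixed (S.k_σ_M hm) N
  obtain ⟨R, h1, h2, h3, h4⟩ := exists_inv_pgroup D' S.σ (emb_injective S.s)
    (fun y hy => ⟨hσ y hy.1, by
      have h5 : emb (S.s ^ N) y = y := hy.2
      show emb (S.s ^ N) (S.σ y) = S.σ y
      rw [hcomm, h5]⟩)
    (fun z hz => by rw [S.k_σ_center hz]; exact hz) (fun y hy => hfix y hy.1) S.prime
    (show x ∈ D' from ⟨hx, h x rfl⟩) hxp hx1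
  refine h1 (S.nop h2 h3 fun m hm => h4 m (S.k_σ_M hm) fun y hy => ⟨hM m hm y hy.1, ?_⟩)
  have h5 : emb (S.s ^ N) y = y := hy.2
  show emb (S.s ^ N) (m * y * m⁻¹) = m * y * m⁻¹
  rw [map_mul, map_mul, map_inv, h5, hMf m hm]

/-- **FPF**, second form: the exception is an element `y` with `σ y = -y` -/
theorem fpf' {D : Subgroup (Gh k)} (hσ : ∀ x ∈ D, S.σ x ∈ D) (hM : ∀ m ∈ S.M, ∀ x ∈ D, m * x * m⁻¹ ∈ D)
    (hfix : ∀ y ∈ D, S.σ y = y → y ∈ Subgroup.center (Gh k)) {x : Gh k} (hx : x ∈ D) (hxp : x ^ p = 1) :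
    x = 1 ∨ (p ≠ 2 ∧ ∃ y ∈ D, y ∉ Subgroup.center (Gh k) ∧ V k (S.σ y) = - V k y) := by
  by_cases h : ∀ y ∈ D, y⁻¹ * S.σ y ∈ Subgroup.center (Gh k) → y ∈ Subgroup.center (Gh k)
  · exact Or.inl (S.fpf hσ hM h hx hxp)
  right
  push Not at h
  obtain ⟨y, hy, h1, h2⟩ := h
  have h3 : S.σ y = y * (y⁻¹ * S.σ y) := by group
  have h4 : V k (y⁻¹ * S.σ y) ≠ 1 := by
    intro h5
    rw [faithful h5, mul_one] at h3
    exact h2 (hfix y hy h3)
  have h5 := (V_center h1).resolve_left h4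
  refine ⟨?_, y, hy, h2, by rw [h3, map_mul, h5]; exact mul_neg_one (α := Module.End k (D1 → k)) _⟩
  rintro rfl
  have := S.chark
  apply h4
  rw [h5]
  exact LinearMap.ext fun v => funext fun i => CharTwo.neg_eq (v i)

end Sit

end Cfsg.Agent.E7P
end

-- part: E7P/Kf/Irr
section
set_option linter.all false
open scoped Cfsg.Agent.FastGrp

/-!
# S5932: irreducibility (helper48)

* `unst_cob` : the space of the coboundaries is unstable if a coboundary jumps;
* `Sit.irr_tor` : `A` does not lie in a parabolic subgroup `P_μ` with `dμ` not central, if `g^A` is central;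
* `Sit.irr_odd` : for odd `p` and `g^A = 0`, `A` lies in no proper parabolic subgroup.
-/

set_option autoImplicit false
set_option maxRecDepth 100000

namespace Cfsg.Agent.E7P

open Cfsg Cfsg.Lie Matrix Module
open Cfsg.Agent.ChevalleyStructure.RootVec
open Cfsg.Agent.H943.E7V.Block (D1 rho)
open Cfsg.Agent.R2.T1 Cfsg.Agent.E7P.Kf
open Cfsg.Agent.R2.H9.E6 (pq pq_surjective)

universe u v

namespace Kf

variable {K : Type u} [Field K]

section
variable {I : Type*} [Fintype I] [DecidableEq I] {c : I → Fin 7 → ℤ} {R : Gh K →* Matrix I I K}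

/-- the coboundary maps -/
noncomputable def cob (R : Gh K →* Matrix I I K) {Λ : Type*} (ψ : Λ → Gh K) (a : Λ) : (I → K) →ₗ[K] (I → K) :=
  toLin' (R (ψ a) - 1)

theorem cob_apply {Λ : Type*} (ψ : Λ → Gh K) (a : Λ) (w : I → K) : cob R ψ a w = R (ψ a) *ᵥ w - w := by
  rw [cob, toLin'_apply, sub_mulVec, one_mulVec]

theorem mulVec_inv (R : Gh K →* Matrix I I K) (g : Gh K) (w : I → K) : R g⁻¹ *ᵥ (R g *ᵥ w) = w := by
  rw [mulVec_mulVec, ← map_mul, inv_mul_cancel, map_one, one_mulVec]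

theorem mulVec_inv' (R : Gh K →* Matrix I I K) (g : Gh K) (w : I → K) : R g *ᵥ (R g⁻¹ *ᵥ w) = w := by
  rw [mulVec_mulVec, ← map_mul, mul_inv_cancel, map_one, one_mulVec]

theorem mulVec_mul (R : Gh K →* Matrix I I K) (g h : Gh K) (w : I → K) : R (g * h) *ᵥ w = R g *ᵥ (R h *ᵥ w) := by
  rw [mulVec_mulVec, map_mul]

theorem unst_cob (h : WRep c R) {Λ : Type*} [Finite Λ] (ψ : Λ → Gh K) {g : Gh K} {l : E}
    (hP : ∀ a, g⁻¹ * ψ a * g ∈ Pl K l) (P : I → Prop) [DecidablePred P] (N : Submodule K (I → K))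
    (hN : ∀ y, ∀ w ∈ N, R y *ᵥ w = w) (hfix : ∀ w, (∀ a, R (ψ a) *ᵥ w = w) → w ∈ N)
    (hsp : ∀ w : I → K, ∃ n ∈ N, ∀ i, P i → w i = n i) (hdisj : ∀ n ∈ N, (∀ i, P i → n i = 0) → n = 0)
    {x0 : I → K} (hx0 : ∀ i, P i → x0 i = 0) {j0 : I} (hj0 : x0 j0 ≠ 0) {ε : ℝ} (hε : 0 < ε)
    (hjump : ∀ y ∈ Pl K l, ∀ i, (R y *ᵥ x0 - x0) i ≠ 0 → bf l (cv (c j0)) + ε ≤ bf l (cv (c i)))
    (hsum : 0 ≤ ∑ i : {i // ¬ P i}, bf l (cv (c i))) :
    Unst (fun i : {i // ¬ P i} → I => ∑ t, c (i t)) (powR _ R) (PX {i // ¬ P i} (cob R ψ)) := by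
  have hli : LinearIndependent K fun i : {i // ¬ P i} => (Pi.single i.1 1 : I → K) := by
    have h1 := (Pi.basisFun K I).linearIndependent.comp (Subtype.val : {i // ¬ P i} → I) Subtype.val_injective
    have h2 : (Pi.basisFun K I) ∘ (Subtype.val : {i // ¬ P i} → I) = fun i => Pi.single i.1 1 :=
      funext fun i => Pi.basisFun_apply K I i.1
    rwa [h2] at h1
  refine unst_PX (PX_ne (Submodule.span K (Set.range fun i : {i // ¬ P i} => (Pi.single i.1 1 : I → K)))
    (finrank_span_eq_card hli) fun w hw h0 => ?_) g l fun b m i hd => ?_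
  · refine hdisj w (hfix w fun a => ?_) fun i hi => ?_
    · have h1 := h0 a
      rwa [cob_apply, sub_eq_zero] at h1
    · clear h0
      induction hw using Submodule.span_induction with
      | mem x hx =>
        obtain ⟨j, rfl⟩ := hx
        exact Pi.single_eq_of_ne (fun e : i = j.1 => j.2 (e ▸ hi)) _
      | zero => rfl
      | add x y _ _ hx hy => rw [Pi.add_apply, hx, hy, add_zero]
      | smul a x _ hx => rw [Pi.smul_apply, hx, smul_zero]
  have hj0' : ¬ P j0 := fun h => hj0 (hx0 j0 h)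
  let b0 : {i // ¬ P i} → I → K := fun i => if i.1 = j0 then x0 else Pi.single i.1 1
  let n : {i // ¬ P i} → ℝ := fun i => bf l (cv (c i)) + if i.1 = j0 then ε else 0
  let f : {i // ¬ P i} → (I → K) →ₗ[K] K := fun t => LinearMap.proj (i t) ∘ₗ toLin' (R g⁻¹) ∘ₗ cob R ψ (m t)
  have hf : ∀ t w, f t (R g *ᵥ w) = (R (g⁻¹ * ψ (m t) * g) *ᵥ w - w) (i t) := by
    intro t w
    show (R g⁻¹ *ᵥ cob R ψ (m t) (R g *ᵥ w)) (i t) = _
    rw [cob_apply, mulVec_sub, mulVec_inv, mulVec_mul, mulVec_mul]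
  have h1 := sum_le_of_det f b (fun s => R g *ᵥ b0 s) N (fun t w hw => by
    rw [← hN g w hw, hf, hN _ w hw, sub_self]; rfl) (fun w => ?_) n (fun t => bf l (cv (c (i t)))) (fun t s hts => ?_) hd
  · refine lt_of_lt_of_le ?_ h1
    rw [Finset.sum_add_distrib, Finset.sum_eq_single (⟨j0, hj0'⟩ : {i // ¬ P i}) (f := fun i => if i.1 = j0 then ε else 0)
      (fun j _ hj => if_neg fun e => hj (Subtype.ext e)) (fun h => absurd (Finset.mem_univ _) h), if_pos rfl]
    linarith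
  · obtain ⟨n0, hn0, h2⟩ := hsp (R g⁻¹ *ᵥ w)
    set v := R g⁻¹ *ᵥ w - n0 with hv
    have h3 : v ∈ Submodule.span K (Set.range b0) := by
      have h4 : x0 ∈ Submodule.span K (Set.range b0) := Submodule.subset_span ⟨⟨j0, hj0'⟩, if_pos rfl⟩
      have h5 : v - (v j0 / x0 j0) • x0 ∈ Submodule.span K (Set.range b0) := by
        rw [pi_eq_sum_univ' (v - (v j0 / x0 j0) • x0)]
        refine Submodule.sum_mem _ fun j _ => ?_
        by_cases hj : P j
        · rw [Pi.sub_apply, Pi.smul_apply, hx0 j hj, hv, Pi.sub_apply, h2 j hj, sub_self, smul_zero, sub_zero, zero_smul]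
          exact zero_mem _
        by_cases hj' : j = j0
        · rw [hj', Pi.sub_apply, Pi.smul_apply, smul_eq_mul, div_mul_cancel₀ _ hj0, sub_self, zero_smul]
          exact zero_mem _
        · exact Submodule.smul_mem _ _ (Submodule.subset_span ⟨⟨j, hj⟩, if_neg hj'⟩)
      have h6 := add_mem h5 (Submodule.smul_mem _ (v j0 / x0 j0) h4)
      rwa [sub_add_cancel] at h6
    have h4 : w = R g *ᵥ v + n0 := by rw [hv, mulVec_sub, mulVec_inv', hN g n0 hn0, sub_add_cancel]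
    rw [h4]
    refine Submodule.add_mem_sup ?_ hn0
    have h5 := Submodule.mem_map_of_mem (f := toLin' (R g)) h3
    rw [Submodule.map_span, ← Set.range_comp] at h5
    exact h5
  · rw [hf] at hts
    by_cases hs : s.1 = j0
    · have e1 : b0 s = x0 := if_pos hs
      have e2 : n s = bf l (cv (c j0)) + ε := by
        show bf l (cv (c s)) + (if s.1 = j0 then ε else 0) = _
        rw [if_pos hs, hs]
      rw [e1] at hts
      rw [e2]
      exact hjump _ (hP _) _ hts
    · have e1 : b0 s = Pi.single s.1 1 := if_neg hs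
      have e2 : n s = bf l (cv (c s)) := by
        show bf l (cv (c s)) + (if s.1 = j0 then ε else 0) = _
        rw [if_neg hs, add_zero]
      rw [e1] at hts
      rw [e2]
      by_cases h6 : i t = s.1
      · rw [h6]
      · rw [Pi.sub_apply, Pi.single_eq_of_ne h6, sub_zero, mulVec_single_one] at hts
        exact h.tri (hP _) _ _ hts

end

/-- toral vectors -/
def tv (l : Fin 7 → K) : chevE7.Idx → K := Sum.elim l fun _ => 0

theorem tv_inl (l : Fin 7 → K) (i : Fin chevE7.rank) : tv l (Sum.inl i) = l i := rfl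

theorem tv_inr (l : Fin 7 → K) (r : Fin chevE7.nroots) : tv l (Sum.inr r) = 0 := rfl

/-- the value of a root -/
def rval (r : ℕ) (x : chevE7.Idx → K) : K := ∑ i : Fin chevE7.rank, (chevE7.cartan i r : K) * x (Sum.inl i)

theorem adM_xs_tv {r : ℕ} (hr : r < 126) (t : K) (l : Fin 7 → K) :
    adM K (xs K r t) *ᵥ tv l = tv l - (t * rval r (tv l)) • Pi.single (Sum.inr ⟨r, hr⟩) 1 := by
  rw [adM_xs hr, add_mulVec, add_mulVec, one_mulVec, smul_mulVec, smul_mulVec]
  have h1 : QM K r *ᵥ tv l = 0 := by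
    funext i
    rw [mulVec, dotProduct, Fintype.sum_sum_type]
    rcases i with i | u <;> simp [QM_ll, QM_rl, tv_inr]
  have h2 : EM K r *ᵥ tv l = - rval r (tv l) • Pi.single (Sum.inr ⟨r, hr⟩) 1 := by
    funext i
    rw [mulVec, dotProduct, Fintype.sum_sum_type]
    rcases i with i | u
    · simp [EM_ll, tv_inr]
    · simp only [EM_rl, tv_inr, mul_zero, Finset.sum_const_zero, add_zero, Pi.smul_apply, smul_eq_mul]
      by_cases h : u.val = r
      · have h3 : u = ⟨r, hr⟩ := Fin.ext h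
        simp only [if_pos h]
        rw [h3, Pi.single_eq_same, mul_one, rval, ← Finset.sum_neg_distrib]
        exact Finset.sum_congr rfl fun j _ => neg_mul _ _
      · simp only [if_neg h, zero_mul, Finset.sum_const_zero]
        rw [Pi.single_eq_of_ne fun e => h (congrArg Fin.val (Sum.inr_injective e)), mul_zero]
  rw [h1, h2, smul_zero, add_zero, smul_smul, mul_neg, neg_smul, sub_eq_add_neg]

theorem adM_Phi_tv (a : Fin chevE7.rank → Kˣ) (l : Fin 7 → K) : adM K (Phi K a) *ᵥ tv l = tv l := by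
  funext i
  rw [ad_Phi, mulVec_diagonal]
  rcases i with i | r
  · exact one_mul _
  · exact mul_zero _

theorem jump_tv {m : Fin 7 → ℤ} {l : Fin 7 → K} (hl : ∀ r < 126, pc r m = 0 → rval r (tv l) = 0) {y : Gh K}
    (hy : y ∈ Pl K (cv m)) : ∀ i, (adM K y *ᵥ tv l - tv l) i ≠ 0 → 1 ≤ bf (cv m) (cv (ac i)) := by
  refine Pl_induction (P := fun y => ∀ i, (adM K y *ᵥ tv l - tv l) i ≠ 0 → 1 ≤ bf (cv m) (cv (ac i))) ?_ ?_ ?_ ?_ hy
  · intro i hi
    rw [map_one, one_mulVec, sub_self] at hi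
    exact absurd rfl hi
  · intro a b ha _ iha ihb i hi
    have e : adM K (a * b) *ᵥ tv l - tv l = adM K a *ᵥ (adM K b *ᵥ tv l - tv l) + (adM K a *ᵥ tv l - tv l) := by
      rw [mulVec_mul, mulVec_sub]; abel
    rw [e, Pi.add_apply] at hi
    by_cases h1 : (adM K a *ᵥ tv l - tv l) i = 0
    · rw [h1, add_zero] at hi
      obtain ⟨j, h2, h3⟩ := exists_col hi
      exact (ihb j h3).trans (wrep_L.tri ha i j h2)
    · exact iha i h1
  · intro r hr h0 t i hi
    rw [adM_xs_tv hr, sub_sub_cancel_left, Pi.neg_apply, neg_ne_zero, Pi.smul_apply, smul_eq_mul] at hi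
    have h1 : i = Sum.inr ⟨r, hr⟩ := by
      by_contra hne
      rw [Pi.single_eq_of_ne hne, mul_zero] at hi
      exact hi rfl
    have h2 : pc r m ≠ 0 := fun h => by
      rw [hl r hr h, mul_zero, zero_mul] at hi
      exact hi rfl
    rw [bf_cv_rv m hr] at h0
    have h3 : (0 : ℤ) ≤ pc r m := by exact_mod_cast h0
    rw [h1]
    show 1 ≤ bf (cv m) (rv r)
    rw [bf_cv_rv m hr]
    exact_mod_cast (by omega : (1 : ℤ) ≤ pc r m)
  · intro a i hi
    rw [adM_Phi_tv, sub_self] at hi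
    exact absurd rfl hi

theorem sum_ac : ∑ i, cv (ac i) = 0 := by
  rw [Fintype.sum_sum_type]
  have h1 : ∑ r : Fin chevE7.nroots, cv (ac (Sum.inr r)) = ∑ r ∈ Finset.range 126, rv r :=
    Fin.sum_univ_eq_sum_range (fun r => rv r) 126
  have h2 : ∑ r ∈ Finset.range 126, rv r = - ∑ r ∈ Finset.range 126, rv r := by
    rw [← Finset.sum_neg_distrib, ← Finset.sum_range_reflect]
    refine Finset.sum_congr rfl fun r hr => ?_
    rw [← rv_neg (Finset.mem_range.1 hr)]
  have h3 : ∑ r ∈ Finset.range 126, rv r = 0 := by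
    have h4 : (2 : ℝ) • ∑ r ∈ Finset.range 126, rv r = 0 := by
      rw [two_smul]
      nth_rewrite 1 [h2]
      exact neg_add_cancel _
    exact (smul_eq_zero.1 h4).resolve_left two_ne_zero
  rw [h1, h3, add_zero]
  exact Finset.sum_eq_zero fun i _ => cv_zero

/-- the parabolic subgroups of the faces -/
theorem Pl_le_of_supp {β : E} (hβ : Dom β) {m : E} (hm : Dom m) (h : ∀ i, β i = 0 → m i = 0) : Pl K β ≤ Pl K m := by
  refine Pl_mono fun r hr h0 => ?_
  by_cases h63 : 63 ≤ r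
  · exact hm.pos hr h63
  rw [bf_rv _ hr] at h0 ⊢
  have h1 : ∀ i ∈ Finset.univ, β i * (rt chevE7 r i : ℝ) ≤ 0 := fun i _ => mul_nonpos_of_nonneg_of_nonpos (hβ i)
    (by exact_mod_cast (chk_pos r hr).2.2 (not_le.1 h63) i i.2)
  have h2 := (Finset.sum_eq_zero_iff_of_nonpos h1).1 (le_antisymm (Finset.sum_nonpos h1) h0)
  refine (Finset.sum_eq_zero fun i hi => ?_).ge
  rcases mul_eq_zero.1 (h2 i hi) with h3 | h3
  · rw [h i h3, zero_mul]
  · rw [h3, mul_zero]

end Kf

namespace Sit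

variable {p a b : ℕ} {F : Type u} {K : Type v} {k : Type u} [Field F] [Fintype F] [Field K] [Fintype K] [Field k]
  (S : Sit p a b F K k)

theorem k_ψ_mem (x : SpecialLinearGroup (Fin 2) K) : S.ψ x ∈ S.M :=
  ⟨S.ψ0 x, show ad F (S.ψ0 x) ∈ S.H by rw [S.lift]; exact S.max.le ⟨_, rfl⟩, rfl⟩

theorem k_σ_ψ (x : SpecialLinearGroup (Fin 2) K) : S.σ (S.ψ x) = S.ψ x := S.k_σ_M (S.k_ψ_mem x)

/-- `M` normalises `A` modulo the centre -/
theorem k_norm {m : Gh k} (hm : m ∈ S.M) (x : SpecialLinearGroup (Fin 2) K) :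
    ∃ x', ad k (m * S.ψ x * m⁻¹) = ad k (S.ψ x') := by
  obtain ⟨m, hm, rfl⟩ := hm
  obtain ⟨y, hy⟩ := S.max.norm _ hm _ ⟨pq x, rfl⟩
  obtain ⟨x', rfl⟩ := pq_surjective y
  refine ⟨x', ?_⟩
  have h1 : ad F (m * S.ψ0 x * m⁻¹) = ad F (S.ψ0 x') := by
    rw [map_mul, map_mul, map_inv, S.lift, S.lift, hy]
  have h2 : emb S.f m * S.ψ x * (emb S.f m)⁻¹ = emb S.f (m * S.ψ0 x * m⁻¹) := by
    rw [map_mul, map_mul, map_inv]; rfl
  rw [h2, ad_emb, h1, ← ad_emb]
  rfl

theorem k_norm_adM {m : Gh k} (hm : m ∈ S.M) (x : SpecialLinearGroup (Fin 2) K) :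
    ∃ x', adM k m * adM k (S.ψ x) = adM k (S.ψ x') * adM k m := by
  obtain ⟨x', h⟩ := S.k_norm hm x
  refine ⟨x', ?_⟩
  have h1 : adM k (m * S.ψ x * m⁻¹) = adM k (S.ψ x') := by rw [adM_apply, adM_apply, h]
  rw [← h1, ← map_mul, ← map_mul, inv_mul_cancel_right]

theorem k_sv_adM (g : Gh k) (w : chevE7.Idx → k) :
    (fun i => S.s ((adM k g *ᵥ w) i)) = adM k (S.σ g) *ᵥ fun i => S.s (w i) := by
  funext i
  rw [RingHom.map_mulVec, ← adM_emb]
  rfl

/-- **irreducibility** for the parabolic subgroups with a non-central toral element -/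
theorem irr_tor (P : chevE7.Idx → Prop) [DecidablePred P] (hPt : ∀ i, P i → ac i = 0) (N : Submodule k (chevE7.Idx → k))
    (hN : ∀ y, ∀ w ∈ N, adM k y *ᵥ w = w) (hfix : ∀ w, (∀ x, adM k (S.ψ x) *ᵥ w = w) → w ∈ N)
    (hsp : ∀ w : chevE7.Idx → k, ∃ n ∈ N, ∀ i, P i → w i = n i) (hdisj : ∀ n ∈ N, (∀ i, P i → n i = 0) → n = 0)
    {m : Fin 7 → ℤ} {l : Fin 7 → k} (hl : ∀ r < 126, pc r m = 0 → rval r (tv l) = 0) (hl0 : ∀ i, P i → tv l i = 0)
    (hl1 : l ≠ 0) {g : Gh k} (hg : ∀ x, g⁻¹ * S.ψ x * g ∈ Pl k (cv m)) : False := by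
  obtain ⟨j, hj⟩ := Function.ne_iff.1 hl1
  have hU := unst_cob wrep_L S.ψ hg P N hN hfix hsp hdisj hl0 (j0 := Sum.inl j) hj one_pos
    (fun y hy i hi => by
      show bf (cv m) (cv 0) + 1 ≤ _
      rw [cv_zero, map_zero, zero_add]
      exact jump_tv hl hy i hi) (by
      have h1 := congrArg (bf (cv m)) sum_ac
      rw [map_sum, map_zero, ← Fintype.sum_subtype_add_sum_subtype P, Finset.sum_eq_zero (fun i _ => by
        rw [hPt i i.2, cv_zero, map_zero]), zero_add] at h1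
      exact h1.ge)
  refine S.kill_unst (wrep_L.pow _) hU (fun y hy => ?_) ?_
  · choose π hπ using S.k_norm_adM hy
    exact PX_stab (fun w => adM k y *ᵥ w) π fun x w => by
      rw [cob_apply, cob_apply, mulVec_sub, mulVec_mulVec, mulVec_mulVec, hπ]
  · rintro _ ⟨w, x, rfl⟩
    refine ⟨fun s i => S.s (w s i), x, ?_⟩
    rw [map_mnr]
    congr 1
    funext t s
    rw [cob_apply, cob_apply, ← S.k_σ_ψ (x t), ← S.k_sv_adM, S.k_σ_ψ]
    funext i
    exact map_sub _ _ _

/-- **irreducibility** in odd characteristic -/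
theorem irr_odd (hp : p ≠ 2) (hfix : ∀ w, (∀ x, adM k (S.ψ x) *ᵥ w = w) → w = 0) {g : Gh k} {β : E} (h0 : β ≠ 0)
    (hβ : Dom β) (hg : ∀ x, g⁻¹ * S.ψ x * g ∈ Pl k β) : False := by
  obtain ⟨i, hi⟩ := Function.ne_iff.1 h0
  have := S.chark
  have h2 : (2 : k) ≠ 0 := fun h => hp ((Nat.prime_dvd_prime_iff_eq S.prime Nat.prime_two).1
    ((CharP.cast_eq_zero_iff k p 2).1 (by exact_mod_cast h)))
  have hr : ∀ r < 126, rval r (tv fun j : Fin 7 => ((iC i j : ℤ) : k)) = 2 * (rt chevE7 r i : k) := by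
    intro r hr
    have h1 := chk_iC r hr i i.2
    rw [sum7] at h1
    have h3 := congrArg (Int.cast : ℤ → k) h1
    push_cast at h3
    rw [← h3]
    exact Finset.sum_congr rfl fun j _ => mul_comm _ _
  refine S.irr_tor (fun _ => False) (fun _ h => h.elim) ⊥ (fun y w hw => by rw [hw, mulVec_zero]) hfix
    (fun w => ⟨0, zero_mem _, fun _ h => h.elim⟩) (fun n hn _ => hn) (m := Pi.single i 1)
    (l := fun j : Fin 7 => ((iC i j : ℤ) : k)) (fun r hr' h => ?_) (fun _ h => h.elim) (fun h => ?_) (g := g)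
    fun x => Pl_le_of_supp hβ (fun j => ?_) (fun j hj => ?_) (hg x)
  · rw [pc, Finset.sum_eq_single i (fun j _ hj => by rw [Pi.single_eq_of_ne hj, mul_zero])
      (fun h => absurd (Finset.mem_univ _) h), Pi.single_eq_same, mul_one] at h
    rw [hr r hr', h, Int.cast_zero, mul_zero]
  · have h3 := hr _ (simple_lt7 i i.2)
    rw [h, rt_simple i i.2 i i.2, if_pos rfl, Int.cast_one, mul_one] at h3
    apply h2
    rw [← h3]
    exact Finset.sum_eq_zero fun j _ => mul_zero _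
  · show (0 : ℝ) ≤ (((Pi.single i 1 : Fin 7 → ℤ) j : ℤ) : ℝ)
    rw [Pi.single_apply]
    split_ifs <;> simp
  · show (((Pi.single i 1 : Fin 7 → ℤ) j : ℤ) : ℝ) = 0
    rw [Pi.single_eq_of_ne (fun e : j = i => hi (by rw [← e]; exact hj)), Int.cast_zero]

end Sit

end Cfsg.Agent.E7P

private theorem dce_a5c08e4aa6c5 : _root_.True := by
  try have : _root_.True := by simp only [_root_.Cfsg.Agent.E7P.Kf.rval.eq_1]
  try have : _root_.True := by simp only [_root_.Cfsg.Agent.E7P.Kf.cob.eq_1]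
  exact _root_.True.intro
end

-- part: E7P/Iface
section
set_option linter.all false
open scoped Cfsg.Agent.FastGrp

/-!
# S5932: the interface of the tasks (helper32)

See `notes/E7P/plan.md`.
* `Kf.Ge, Kf.Gt` : the filtration of a module by a real coweight; `Kf.lE` : the coweight of a cocharacter;
* `Kf.Cm x y` : commuting elements of the Lie algebra, `Kf.exists_br` : the bracket; `Kf.EPS` : the Springer map;
* `Sit.NoFix, NoFixV, CK, SSC, Stb, PT, NT` : the basic facts;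
* `Sit.g0, Sit.β, Sit.P, Sit.P', Sit.Ru, Sit.Fg, Sit.FV, Sit.Frame, Sit.J1` : the optimal parabolic subgroup of `U`;
* `Sit.Split, Sit.TorW, Sit.Alg` : the three steps to the algebraic overgroup.
-/

set_option autoImplicit false
set_option maxRecDepth 100000

namespace Cfsg.Agent.E7P

open Cfsg Cfsg.Lie Matrix Module
open Cfsg.Agent.H943.E7V.Block (D1 rho)
open Cfsg.Agent.R2.T1 Cfsg.Agent.E7P.Kf
open Cfsg.Agent.R2.PX (del)
open Cfsg.Agent.R2.H9.E6 (pq)
open Cfsg.Agent.H943.SL2Rel (u w h)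

universe u v

namespace Kf

variable {K : Type u} [Field K]

section
variable {I : Type*}

variable (K) in
/-- the vectors of level `≥ d` -/
def Ge (c : I → Fin 7 → ℤ) (β : E) (d : ℝ) : Submodule K (I → K) where
  carrier := {x | ∀ i, x i ≠ 0 → d ≤ bf β (cv (c i))}
  zero_mem' := fun _ h => absurd rfl h
  add_mem' := by
    intro x y hx hy i hi
    by_cases h : x i = 0
    · rw [Pi.add_apply, h, zero_add] at hi
      exact hy i hi
    · exact hx i h
  smul_mem' := fun _ _ hx i hi => hx i (right_ne_zero_of_mul hi)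

variable (K) in
/-- the vectors of level `> d` -/
def Gt (c : I → Fin 7 → ℤ) (β : E) (d : ℝ) : Submodule K (I → K) where
  carrier := {x | ∀ i, x i ≠ 0 → d < bf β (cv (c i))}
  zero_mem' := fun _ h => absurd rfl h
  add_mem' := by
    intro x y hx hy i hi
    by_cases h : x i = 0
    · rw [Pi.add_apply, h, zero_add] at hi
      exact hy i hi
    · exact hx i h
  smul_mem' := fun _ _ hx i hi => hx i (right_ne_zero_of_mul hi)

variable [Fintype I] [DecidableEq I] {c : I → Fin 7 → ℤ} {R : Gh K →* Matrix I I K}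

theorem WRep.Ge_stab (hR : WRep c R) {β : E} {y : Gh K} (hy : y ∈ Pl K β) {d : ℝ} {x : I → K} (hx : x ∈ Ge K c β d) :
    R y *ᵥ x ∈ Ge K c β d := by
  intro i hi
  obtain ⟨j, h1, h2⟩ := exists_col hi
  exact (hx j h2).trans (hR.tri hy i j h1)

theorem WRep.Gt_stab (hR : WRep c R) {β : E} {y : Gh K} (hy : y ∈ Pl K β) {d : ℝ} {x : I → K} (hx : x ∈ Gt K c β d) :
    R y *ᵥ x ∈ Gt K c β d := by
  intro i hi
  obtain ⟨j, h1, h2⟩ := exists_col hi
  exact (hx j h2).trans_le (hR.tri hy i j h1)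

end

/-- the real coweight of the cocharacter `lam l` -/
noncomputable def lE (l : Fin 7 → ℤ) : E := ∑ i, (l i : ℝ) • al i

theorem bf_lE (l c : Fin 7 → ℤ) : bf (lE l) (cv c) = ((∑ i, c i * l i : ℤ) : ℝ) := by
  rw [bf_symm, lE, map_sum]
  push_cast
  refine Finset.sum_congr rfl fun i _ => ?_
  rw [map_smul, bf_al, smul_eq_mul, mul_comm]
  rfl

theorem ch_lam (c l : Fin 7 → ℤ) (z : Kˣ) : ch c (lam l z) = z ^ ∑ i, c i * l i := by
  unfold ch lam
  have h1 : ∀ (s : Finset (Fin 7)) (f : Fin 7 → ℤ), z ^ ∑ i ∈ s, f i = ∏ i ∈ s, z ^ f i := by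
    intro s f
    induction s using Finset.induction_on with
    | empty => rw [Finset.sum_empty, Finset.prod_empty, zpow_zero]
    | insert i s hi ih => rw [Finset.sum_insert hi, Finset.prod_insert hi, _root_.zpow_add, ih]
  rw [h1]
  exact Finset.prod_congr rfl fun i _ => by rw [← _root_.zpow_mul, mul_comm]

/-- commuting elements of the Lie algebra -/
def Cm (x y : chevE7.Idx → K) : Prop := del K x * del K y = del K y * del K x

/-- **the bracket** -/
theorem exists_br (x y : chevE7.Idx → K) : ∃ z, del K z = del K x * del K y - del K y * del K x := by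
  have key : ∀ i j : chevE7.Idx, del K (Pi.single i 1) * del K (Pi.single j 1) -
      del K (Pi.single j 1) * del K (Pi.single i 1) ∈ LinearMap.range (del K) := by
    have hN : ∀ r < 126, NM K r ∈ LinearMap.range (del K) := fun r hr => ⟨_, R2.PX.del_inr ⟨r, hr⟩⟩
    have hH : ∀ (i : Fin chevE7.rank) (r : Fin chevE7.nroots), R2.PX.Hi K i * NM K r - NM K r * R2.PX.Hi K i ∈
        LinearMap.range (del K) := fun i r => by
      rw [R2.PX.Hi_comm r.2 i.2]
      exact Submodule.smul_mem _ _ (hN r r.2)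
    rintro (i | r) (j | s)
    · rw [R2.PX.del_inl, R2.PX.del_inl, R2.PX.Hi, R2.PX.Hi, diagonal_mul_diagonal, diagonal_mul_diagonal]
      simp only [mul_comm, sub_self]
      exact zero_mem _
    · rw [R2.PX.del_inl, R2.PX.del_inr]
      exact hH i s
    · rw [R2.PX.del_inl, R2.PX.del_inr, ← neg_sub]
      exact neg_mem (hH j r)
    · rw [R2.PX.del_inr, R2.PX.del_inr]
      by_cases h : s.val = 125 - r.val
      · rw [h, R2.PX.NM_comm_neg r.2, R2.PX.Hd_eq]
        exact Submodule.sum_mem _ fun i _ => Submodule.smul_mem _ _ ⟨_, R2.PX.del_inl i⟩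
      · rw [R2.PX.NM_comm r.2 s.2 h]
        rcases R2.PX.PC_spec r.2 s.2 with ⟨h1, -⟩ | ⟨h1, -, h3, -, -⟩
        · rw [R2.PX.csM_zero h1]
          exact zero_mem _
        · rw [R2.PX.csM_ne h1]
          exact Submodule.smul_mem _ _ (hN _ (by omega))
  have h1 : del K x * del K y - del K y * del K x ∈ LinearMap.range (del K) := by
    rw [pi_eq_sum_univ' x, pi_eq_sum_univ' y, map_sum, map_sum, Finset.sum_mul_sum, Finset.sum_mul_sum,
      Finset.sum_comm (s := Finset.univ) (t := Finset.univ)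
        (f := fun j i => del K (y j • (Pi.single j 1 : chevE7.Idx → K)) * del K (x i • (Pi.single i 1 : chevE7.Idx → K))),
      ← Finset.sum_sub_distrib]
    refine Submodule.sum_mem _ fun i _ => ?_
    rw [← Finset.sum_sub_distrib]
    refine Submodule.sum_mem _ fun j _ => ?_
    rw [map_smul, map_smul, smul_mul_smul_comm, smul_mul_smul_comm, mul_comm (y j), ← smul_sub]
    exact Submodule.smul_mem _ _ (key i j)
  exact h1

variable (K) in
/-- **the Springer map** (`p ≥ 5`, task BR) -/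
def EPS : Prop := ∀ (β : E) (z : chevE7.Idx → K), z ∈ Gt K ac β 0 → z ≠ 0 → ∃ y ∈ Ul K β, y ≠ 1 ∧
  (∀ x, Cm z x → adM K y *ᵥ x = x) ∧ ∀ g ∈ Pl K β, adM K g *ᵥ z = z → g * y = y * g

/-- the weights of `End V` -/
abbrev ec : D1 × D1 → Fin 7 → ℤ := fun x => wc x.1 + - wc x.2

variable (K) in
/-- the module `End V` -/
noncomputable abbrev eR : Gh K →* Matrix (D1 × D1) (D1 × D1) K := tenR (rho K) (dualR (rho K))

end Kf

namespace Sit

variable {p a b : ℕ} {F : Type u} {K : Type v} {k : Type u} [Field F] [Fintype F] [Field K] [Fintype K] [Field k]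
  (S : Sit p a b F K k)

/-! ### the basic facts -/

/-- `c` centralises `A` -/
def Cent (c : Gh k) : Prop := ∀ x, S.ψ x * c = c * S.ψ x

/-- `g^A = 0` -/
def NoFix : Prop := ∀ y : chevE7.Idx → k, (∀ x, adM k (S.ψ x) *ᵥ y = y) → y = 0

/-- `V^A = 0` -/
def NoFixV : Prop := ∀ y : D1 → k, (∀ x, rho k (S.ψ x) *ᵥ y = y) → y = 0

/-- the centraliser of `A` has no element of order `p` -/
def CK : Prop := ∀ c, S.Cent c → c ^ p = 1 → c = 1

/-- no element of the centraliser of `A` is multiplied by `-1` by the Frobenius map (`p` odd) -/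
def SSC : Prop := ∀ y, S.Cent y → V k (S.σ y) = - V k y → False

/-- no subgroup of a maximal torus which is normalised by `M` and `σ` contains a non-trivial cocharacter -/
def NT : Prop := ∀ (D : Subgroup (Gh k)) (g : Gh k) (l : Fin 7 → ℤ), (∀ x ∈ D, S.σ x ∈ D) →
  (∀ m ∈ S.M, ∀ x ∈ D, m * x * m⁻¹ ∈ D) → (∀ x ∈ D, ∃ c, x = g * Phi k c * g⁻¹) →
  (∀ z, g * Phi k (lam l z) * g⁻¹ ∈ D) → l = 0

section
variable {I : Type} [Fintype I] [DecidableEq I] (R : Gh k →* Matrix I I k)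

/-- subspaces which are stable under `M` and under the Frobenius map -/
def Stb (W : Submodule k (I → k)) : Prop := (∀ m ∈ S.M, ∀ x ∈ W, R m *ᵥ x ∈ W) ∧ ∀ x ∈ W, S.sv x ∈ W

/-- pointwise stabilisers have no element of order `p` -/
def PT : Prop := ∀ W : Submodule k (I → k), S.Stb R W → (∃ x, ∃ y ∈ W, R (S.ψ x) *ᵥ y ≠ y) →
  ∀ c, (∀ y ∈ W, R c *ᵥ y = y) → c ^ p = 1 → c = 1

end

/-! ### the optimal parabolic subgroup of `U` -/

theorem ψ_u_ne {t : K} (ht : t ≠ 0) : S.ψ (u t) ≠ 1 := by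
  intro h0
  have h1 : S.ψ0 (u t) = 1 := emb_injective S.f (by rw [map_one]; exact h0)
  have h2 := S.lift (u t)
  rw [h1, map_one] at h2
  have h3 : pq (u t) = 1 := S.max.inj (by rw [← h2, map_one])
  have h4 : u t ∈ Subgroup.center (SpecialLinearGroup (Fin 2) K) := (QuotientGroup.eq_one_iff _).1 h3
  have h5 : ((w : SpecialLinearGroup (Fin 2) K).1 * (u t).1) 0 0 = ((u t).1 * (w : SpecialLinearGroup (Fin 2) K).1) 0 0 :=
    congrArg (fun m : SpecialLinearGroup (Fin 2) K => m.1 0 0) (Subgroup.mem_center_iff.1 h4 w)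
  simp [u, w, Matrix.mul_apply, Fin.sum_univ_two] at h5
  exact ht h5

theorem ψ_u_pow (t : K) : S.ψ (u t) ^ p = 1 := by
  have := S.charK
  have h1 : ∀ n : ℕ, u t ^ n = u ((n : K) * t) := by
    intro n
    induction n with
    | zero => rw [pow_zero, Nat.cast_zero, zero_mul, H943.SL2Rel.u_zero]
    | succ n ih => rw [pow_succ, ih, ← H943.SL2Rel.u_add, Nat.cast_succ, add_mul, one_mul]
  rw [← map_pow, h1, CharP.cast_eq_zero, zero_mul, H943.SL2Rel.u_zero, map_one]

/-- the group `U` -/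
def U : Subgroup (Gh k) where
  carrier := {y | ∃ t, y = S.ψ (u t)}
  one_mem' := ⟨0, by rw [H943.SL2Rel.u_zero, map_one]⟩
  mul_mem' := by
    rintro _ _ ⟨s, rfl⟩ ⟨t, rfl⟩
    exact ⟨s + t, by rw [H943.SL2Rel.u_add, map_mul]⟩
  inv_mem' := by
    rintro _ ⟨s, rfl⟩
    exact ⟨-s, by rw [H943.SL2Rel.u_neg, map_inv]⟩

theorem isPGroup_U : IsPGroup p S.U := by
  rintro ⟨_, t, rfl⟩
  exact ⟨1, Subtype.ext (by rw [pow_one]; exact S.ψ_u_pow t)⟩

/-- the tuple of `U` -/
def XU : Set (D1 × D1 → k) := {v | ∃ t : K, v = Kf.vec (rho k (S.ψ (u t)) - 1)}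

theorem eR_vec (y x : Gh k) : eR k y *ᵥ Kf.vec (rho k x - 1) = Kf.vec (rho k (y * x * y⁻¹) - 1) := by
  rw [endo_mulVec, mul_sub, mul_one, sub_mul, ← map_mul, ← map_mul, ← map_mul, mul_inv_cancel, map_one]

theorem unst_XU : Unst ec (eR k) S.XU := by
  have := S.closed
  have := S.chark
  obtain ⟨g, hg⟩ := exists_conj_tri S.prime S.alg S.isPGroup_U
  refine ⟨⟨_, ⟨1, rfl⟩, fun h0 => S.ψ_u_ne one_ne_zero (rho_injective ?_)⟩, g, rho1, ?_⟩
  · rw [map_one, ← sub_eq_zero]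
    ext i j
    exact congrFun h0 (i, j)
  · rintro _ ⟨t, rfl⟩ i hi
    rw [eR_vec, inv_inv] at hi
    have h1 := hg _ ⟨t, rfl⟩ i.1 i.2 hi
    rw [cv_add, cv_neg, map_add, map_neg]
    exact sub_pos.2 h1

theorem exists_g0 : ∃ x : Gh k × E, x.2 ≠ 0 ∧ Dom x.2 ∧ Opt bf (St ec (eR k) S.XU) x.1 x.2 ∧
    (∀ y : Gh k, (∀ v ∈ S.XU, eR k y⁻¹ *ᵥ v ∈ S.XU) → x.1⁻¹ * y * x.1 ∈ Pl k x.2) ∧
    ∀ s : k →+* k, (∀ v ∈ S.XU, ∃ v' ∈ S.XU, v = fun i => s (v' i)) → x.1⁻¹ * emb s x.1 ∈ Pl k x.2 := by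
  have := S.closed
  obtain ⟨g, β, h⟩ := wrep_V.endo.kempf S.unst_XU
  exact ⟨(g, β), h⟩

/-- the optimal pair of `U` -/
noncomputable def g0 : Gh k := S.exists_g0.choose.1

/-- the optimal pair of `U` -/
noncomputable def β : E := S.exists_g0.choose.2

theorem β_ne : S.β ≠ 0 := S.exists_g0.choose_spec.1

theorem β_dom : Dom S.β := S.exists_g0.choose_spec.2.1

theorem β_opt : Opt bf (St ec (eR k) S.XU) S.g0 S.β := S.exists_g0.choose_spec.2.2.1

/-- the level of the elements of `U` -/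
noncomputable def nn : ℝ := bf S.β S.β

theorem nn_pos : 0 < S.nn := bf_pd.pos _ S.β_ne

/-- the optimal parabolic subgroup of `U` -/
noncomputable def P : Subgroup (Gh k) := (Pl k S.β).comap (MulAut.conj S.g0⁻¹).toMonoidHom

/-- its unipotent radical -/
noncomputable def Ru : Subgroup (Gh k) := (Ul k S.β).comap (MulAut.conj S.g0⁻¹).toMonoidHom

/-- the optimal parabolic subgroup of the opposite group -/
noncomputable def P' : Subgroup (Gh k) := S.P.comap (MulAut.conj (S.ψ w)⁻¹).toMonoidHom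

theorem mem_P {y : Gh k} : y ∈ S.P ↔ S.g0⁻¹ * y * S.g0 ∈ Pl k S.β := by
  show S.g0⁻¹ * y * S.g0⁻¹⁻¹ ∈ Pl k S.β ↔ _
  rw [inv_inv]

theorem mem_Ru {y : Gh k} : y ∈ S.Ru ↔ S.g0⁻¹ * y * S.g0 ∈ Ul k S.β := by
  show S.g0⁻¹ * y * S.g0⁻¹⁻¹ ∈ Ul k S.β ↔ _
  rw [inv_inv]

theorem mem_P' {y : Gh k} : y ∈ S.P' ↔ (S.ψ w)⁻¹ * y * S.ψ w ∈ S.P := by
  show (S.ψ w)⁻¹ * y * (S.ψ w)⁻¹⁻¹ ∈ S.P ↔ _
  rw [inv_inv]

/-- the normaliser of `U` lies in `P` -/
theorem mem_P_of_norm {y : Gh k} (hy : ∀ x ∈ S.U, y⁻¹ * x * y ∈ S.U) : y ∈ S.P := by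
  refine S.mem_P.2 (S.exists_g0.choose_spec.2.2.2.1 y ?_)
  rintro _ ⟨t, rfl⟩
  obtain ⟨s, hs⟩ := hy _ ⟨t, rfl⟩
  exact ⟨s, by rw [eR_vec, inv_inv, hs]⟩

theorem g0_σ : S.g0⁻¹ * S.σ S.g0 ∈ Pl k S.β := by
  refine S.exists_g0.choose_spec.2.2.2.2 S.s ?_
  rintro _ ⟨t, rfl⟩
  refine ⟨_, ⟨t, rfl⟩, funext fun i => ?_⟩
  show (rho k (S.ψ (u t)) - 1) i.1 i.2 = S.s ((rho k (S.ψ (u t)) - 1) i.1 i.2)
  have h1 := congrFun (congrFun (rho_emb S.s (S.ψ (u t))) i.1) i.2
  rw [show emb S.s (S.ψ (u t)) = S.ψ (u t) from S.k_σ_ψ _, map_apply] at h1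
  rw [Matrix.sub_apply, map_sub, ← h1, one_apply, apply_ite S.s, map_one, map_zero]

/-- the elements of `U` have level `≥ nn` -/
theorem u_level (t : K) (i j : D1) (hij : (rho k (S.g0⁻¹ * S.ψ (u t) * S.g0) - 1) i j ≠ 0) :
    bf S.β (wv j) + S.nn ≤ bf S.β (wv i) := by
  have h1 := S.β_opt.1.2 (cv (ec (i, j))) ⟨(i, j), rfl, _, ⟨t, rfl⟩, by rw [eR_vec, inv_inv]; exact hij⟩
  rw [cv_add, cv_neg, map_add, map_neg] at h1
  have h2 : S.nn ≤ bf S.β (wv i) + - bf S.β (wv j) := h1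
  linarith

theorem U_le_Ru : S.U ≤ S.Ru := by
  rintro _ ⟨t, rfl⟩
  refine S.mem_Ru.2 ⟨S.mem_P.1 (S.mem_P_of_norm fun x hx => ?_), fun i j hij => ?_⟩
  · exact mul_mem (mul_mem (inv_mem (show S.ψ (u t) ∈ S.U from ⟨t, rfl⟩)) hx) ⟨t, rfl⟩
  · have h1 := S.u_level t i j hij
    have h2 := S.nn_pos
    linarith

/-- the filtration of the Lie algebra -/
noncomputable def Fg (d : ℝ) : Submodule k (chevE7.Idx → k) := (Ge k ac S.β d).comap (toLin' (adM k S.g0⁻¹))

/-- the filtration of the 56-dimensional module -/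
noncomputable def FV (d : ℝ) : Submodule k (D1 → k) := (Ge k wc S.β d).comap (toLin' (rho k S.g0⁻¹))

/-- a maximal torus in `P ⊓ P'` which contains the torus of `A` -/
structure Frame where
  g : Gh k
  l : List (Fin 7)
  hg : S.g0⁻¹ * g ∈ Pl k S.β
  hw : (g * nL k l)⁻¹ * S.ψ w * g ∈ Pl k S.β
  ht : ∀ c : Kˣ, ∃ t, S.ψ (h c) = g * Phi k t * g⁻¹

/-- `U` moves every vector of negative level by exactly `nn` (`p ≥ 5`, task BR) -/
def J1 : Prop := ∀ (y : chevE7.Idx → k) (d : ℝ), d ≤ S.nn → (∀ t, adM k (S.ψ (u t)) *ᵥ y - y ∈ S.Fg d) →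
  y ∈ S.Fg (d - S.nn)

/-! ### the steps to the algebraic overgroup -/

/-- a triple which spans a simple submodule `L(2 p ^ j)` of the Lie algebra -/
structure Tri (j : ℕ) (e x f : chevE7.Idx → k) : Prop where
  ne : e ≠ 0
  ue : ∀ t, adM k (S.ψ (u t)) *ᵥ e = e
  ux : ∀ t, adM k (S.ψ (u t)) *ᵥ x = x - (2 * S.ι t ^ p ^ j) • e
  uf : ∀ t, adM k (S.ψ (u t)) *ᵥ f = f + S.ι t ^ p ^ j • x - (S.ι t ^ p ^ j) ^ 2 • e
  we : adM k (S.ψ w) *ᵥ e = - f
  wx : adM k (S.ψ w) *ᵥ x = - x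
  he : ∀ c : Kˣ, adM k (S.ψ (h c)) *ᵥ e = (S.ι c ^ p ^ j) ^ 2 • e

/-- a split triple of level `≥ nn` -/
def Split : Prop := ∃ j e x f, j < a ∧ S.Tri j e x f ∧ e ∈ S.Fg S.nn

/-- a cocharacter in `P ⊓ P'` which acts by scalars on the weight spaces of an almost faithful stable subspace -/
structure TorW {I : Type} [Fintype I] [DecidableEq I] (R : Gh k →* Matrix I I k) where
  W : Submodule k (I → k)
  stb : S.Stb R W
  expo : ∃ N : ℕ, (N : k) ≠ 0 ∧ ∀ c, (∀ y ∈ W, R c *ᵥ y = y) → c ^ N = 1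
  g : Gh k
  l : Fin 7 → ℤ
  ne : l ≠ 0
  mem : ∀ z, g * Phi k (lam l z) * g⁻¹ ∈ S.P ⊓ S.P'
  scal : ∀ θ : Kˣ → k, ∃ n : ℤ, ∀ y ∈ W, (∀ c, R (S.ψ (h c)) *ᵥ y = θ c • y) →
    ∀ z : kˣ, R (g * Phi k (lam l z) * g⁻¹) *ᵥ y = ((z ^ n : kˣ) : k) • y

/-- **the algebraic overgroup** `A₁ⁿ` -/
structure Alg where
  n : ℕ
  npos : 0 < n
  ab : a = n * b
  Ξ : Fin n → (SpecialLinearGroup (Fin 2) k →* Gh k)
  comm : ∀ i j, i ≠ j → ∀ x y, Ξ i x * Ξ j y = Ξ j y * Ξ i x
  g : Gh k
  l : Fin n → Fin 7 → ℤ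
  tor : ∀ i z, Ξ i (h z) = g * Phi k (lam (l i) z) * g⁻¹
  e : Fin n → chevE7.Idx → k
  D : Fin n → ℕ → Matrix D1 D1 k
  N : ℕ
  poly : ∀ i t, rho k (Ξ i (u t)) = ∑ m ∈ Finset.range (N + 2), t ^ m • D i m
  D1 : ∀ i, D i 1 = del k (e i)
  ne : ∀ i, e i ≠ 0
  π : Equiv.Perm (Fin n)
  trans : ∀ i j, ∃ m : ℕ, (π ^ m) i = j
  frob : ∀ i x, S.σ (Ξ i x) = Ξ (π i) (SpecialLinearGroup.map S.s x)
  τ : Fin n → (K →+* k)
  res : ∀ x, S.ψ x = (List.ofFn fun i => Ξ i (SpecialLinearGroup.map (τ i) x)).prod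
  norm : ∀ m ∈ S.M, ∃ ρ : Equiv.Perm (Fin n), ∀ i, ∃ γ : SpecialLinearGroup (Fin 2) k,
    ∀ x, m * Ξ i x * m⁻¹ = Ξ (ρ i) (γ * x * γ⁻¹)

end Sit

end Cfsg.Agent.E7P

private theorem dce_327e2d7b578b : _root_.True := by
  try have : _root_.True := by simp only [_root_.Cfsg.Agent.H943.SL2Rel.u.eq_1]
  try have : _root_.True := by simp only [_root_.Cfsg.Agent.H943.SL2Rel.w.eq_1]
  try have : _root_.True := by simp only [_root_.Cfsg.Agent.E7P.Kf.lE.eq_1]
  exact _root_.True.intro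
end

-- part: E7P/Br/Lev
section
prune_inst 0x100244001e2000000188592830000000000040200430c0014410004014650602943a601d810081340900c402800000000100020402000000a0004000000010008000004b1480008600090002080410000000000000000000000000000041000000000000
set_option linter.all false
open scoped Cfsg.Agent.FastGrp

/-!
# S5932, task BR: levels, the bracket, leading terms (helper8)

* `Lv`, `lv` : the graded pieces of a module and the projections; `MGe`, `MGt` : levels of matrices;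
* `exists_levi` : the Levi part of an element of `Pl β`; `lead` : **LEAD**;
* `br` : the bracket of the Lie algebra; levels of `del` and `br`; `St_del`.
-/

set_option autoImplicit false
set_option maxRecDepth 100000

namespace Cfsg.Agent.E7P.Br

open Cfsg Cfsg.Lie Matrix Module
open Cfsg.Agent.H943.E7V.Block (D1 rho)
open Cfsg.Agent.R2.T1 Cfsg.Agent.E7P.Kf
open Cfsg.Agent.R2.PX (del)
open Cfsg.Agent.ChevalleyStructure.RootVec (rt)

universe u

variable {K : Type u} [Field K]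

/-! ### graded pieces -/

section Gr
variable {I : Type*}

variable (K) in
/-- the vectors of level `d` -/
def Lv (c : I → Fin 7 → ℤ) (β : E) (d : ℝ) : Submodule K (I → K) where
  carrier := {x | ∀ i, x i ≠ 0 → bf β (cv (c i)) = d}
  zero_mem' := fun _ h => absurd rfl h
  add_mem' := by
    intro x y hx hy i hi
    by_cases h : x i = 0
    · rw [Pi.add_apply, h, zero_add] at hi
      exact hy i hi
    · exact hx i h
  smul_mem' := fun _ _ hx i hi => hx i (right_ne_zero_of_mul hi)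

open Classical in
/-- the projection to the weights with `P` -/
noncomputable def pj (c : I → Fin 7 → ℤ) (P : E → Prop) : (I → K) →ₗ[K] (I → K) where
  toFun x i := if P (cv (c i)) then x i else 0
  map_add' x y := by
    funext i
    rw [Pi.add_apply, Pi.add_apply]
    split_ifs
    · rfl
    · rw [add_zero]
  map_smul' a x := by
    funext i
    rw [Pi.smul_apply, Pi.smul_apply, RingHom.id_apply]
    split_ifs
    · rfl
    · rw [smul_zero]

variable {c : I → Fin 7 → ℤ} {β : E} {d d' : ℝ} {x : I → K}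

theorem pj_pos {P : E → Prop} {i : I} (h : P (cv (c i))) (x : I → K) : pj c P x i = x i := if_pos h

theorem pj_neg {P : E → Prop} {i : I} (h : ¬ P (cv (c i))) (x : I → K) : pj c P x i = 0 := if_neg h

/-- the component of level `d` -/
noncomputable def lv (c : I → Fin 7 → ℤ) (β : E) (d : ℝ) : (I → K) →ₗ[K] (I → K) := pj c fun s => bf β s = d

theorem lv_pos {i : I} (h : bf β (cv (c i)) = d) (x : I → K) : lv c β d x i = x i := pj_pos h x

theorem lv_neg {i : I} (h : bf β (cv (c i)) ≠ d) (x : I → K) : lv c β d x i = 0 := pj_neg h x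

theorem mem_Lv : x ∈ Lv K c β d ↔ ∀ i, x i ≠ 0 → bf β (cv (c i)) = d := Iff.rfl

theorem lv_ne {i : I} (h : lv c β d x i ≠ 0) : bf β (cv (c i)) = d ∧ x i ≠ 0 := by
  have h1 : bf β (cv (c i)) = d := by
    by_contra h1
    exact h (lv_neg h1 x)
  exact ⟨h1, by rwa [lv_pos h1] at h⟩

theorem lv_mem (x : I → K) : lv c β d x ∈ Lv K c β d := fun _ hi => (lv_ne hi).1

theorem Lv_le_Ge : Lv K c β d ≤ Ge K c β d := fun _ hx i hi => (hx i hi).ge

theorem Gt_le_Ge : Gt K c β d ≤ Ge K c β d := fun _ hx i hi => (hx i hi).le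

theorem Ge_mono (h : d ≤ d') : Ge K c β d' ≤ Ge K c β d := fun _ hx i hi => h.trans (hx i hi)

theorem Gt_mono (h : d ≤ d') : Gt K c β d' ≤ Gt K c β d := fun _ hx i hi => h.trans_lt (hx i hi)

theorem Ge_le_Gt (h : d < d') : Ge K c β d' ≤ Gt K c β d := fun _ hx i hi => h.trans_le (hx i hi)

theorem lv_of_Lv (hx : x ∈ Lv K c β d) : lv c β d x = x := by
  funext i
  by_cases h : x i = 0
  · by_contra h1
    rw [h] at h1
    exact (lv_ne h1).2 h
  · exact lv_pos (hx i h) x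

theorem lv_of_Gt (hx : x ∈ Gt K c β d) : lv c β d x = 0 := by
  funext i
  by_contra h
  exact (hx i (lv_ne h).2).ne' (lv_ne h).1

theorem lv_of_ne (hx : x ∈ Lv K c β d) (h : d ≠ d') : lv c β d' x = 0 := by
  funext i
  by_contra h1
  exact h ((hx i (lv_ne h1).2).symm.trans (lv_ne h1).1)

theorem sub_lv_mem (hx : x ∈ Ge K c β d) : x - lv c β d x ∈ Gt K c β d := by
  intro i hi
  by_cases h : bf β (cv (c i)) = d
  · rw [Pi.sub_apply, lv_pos h, sub_self] at hi
    exact absurd rfl hi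
  · rw [Pi.sub_apply, lv_neg h, sub_zero] at hi
    exact (hx i hi).lt_of_ne' h

theorem mem_Gt_of_lv (hx : x ∈ Ge K c β d) (h : lv c β d x = 0) : x ∈ Gt K c β d := by
  have h1 := sub_lv_mem hx
  rwa [h, sub_zero] at h1

theorem eq_zero_of_Lv_Gt (hx : x ∈ Lv K c β d) (h : x ∈ Gt K c β d) : x = 0 := by rw [← lv_of_Lv hx, lv_of_Gt h]

theorem lv_eq_of_sub {y : I → K} (h : x - y ∈ Gt K c β d) : lv c β d x = lv c β d y := by
  rw [← sub_eq_zero, ← map_sub, lv_of_Gt h]

theorem mem_Lv_neg : x ∈ Lv K c (-β) (-d) ↔ x ∈ Lv K c β d := by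
  refine forall_congr' fun i => imp_congr_right fun _ => ?_
  rw [map_neg, LinearMap.neg_apply, neg_inj]

theorem Lv_of_Ge (h : x ∈ Ge K c β d) (h' : x ∈ Ge K c (-β) (-d)) : x ∈ Lv K c β d := fun i hi => by
  have h1 := h' i hi
  rw [map_neg, LinearMap.neg_apply] at h1
  exact le_antisymm (neg_le_neg_iff.1 h1) (h i hi)

/-- the lowest level -/
theorem exists_low [Finite I] (c : I → Fin 7 → ℤ) (β : E) (hx : x ≠ 0) :
    ∃ i, x i ≠ 0 ∧ x ∈ Ge K c β (bf β (cv (c i))) := by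
  obtain ⟨i0, h0⟩ := Function.ne_iff.1 hx
  have : Nonempty {i // x i ≠ 0} := ⟨⟨i0, h0⟩⟩
  obtain ⟨i, hi⟩ := Finite.exists_min fun i : {i // x i ≠ 0} => bf β (cv (c i.1))
  exact ⟨i.1, i.2, fun j hj => hi ⟨j, hj⟩⟩

theorem eq_zero_of_step [Finite I] (h : ∀ d, x ∈ Ge K c β d → x ∈ Gt K c β d) : x = 0 := by
  by_contra h0
  obtain ⟨i, hi, h1⟩ := exists_low c β h0
  exact lt_irrefl _ (h _ h1 i hi)

theorem mem_Ge_of_step [Finite I] (h : ∀ e < d, x ∈ Ge K c β e → x ∈ Gt K c β e) : x ∈ Ge K c β d := by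
  by_cases h0 : x = 0
  · rw [h0]
    exact zero_mem _
  obtain ⟨i, hi, h1⟩ := exists_low c β h0
  by_cases h2 : bf β (cv (c i)) < d
  · exact absurd (h _ h2 h1 i hi) (lt_irrefl _)
  · exact Ge_mono (not_lt.1 h2) h1

/-- descent along the levels -/
theorem lev_desc [Finite I] {α : Type*} (c : I → Fin 7 → ℤ) (β : E) (f : α → I → K) (a0 : α)
    (h : ∀ a d, f a ∈ Ge K c β d → lv c β d (f a) ≠ 0 → ∃ a', f a' ∈ Gt K c β d) : ∃ a, f a = 0 := by
  classical
  have := Fintype.ofFinite I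
  let N : α → Finset I := fun a => Finset.univ.filter fun i => ∃ j, f a j ≠ 0 ∧ bf β (cv (c j)) ≤ bf β (cv (c i))
  have : Nonempty α := ⟨a0⟩
  let a := Function.argmin fun a => (N a).card
  refine ⟨a, ?_⟩
  by_contra h0
  obtain ⟨i, hi, h1⟩ := exists_low c β h0
  obtain ⟨a', ha'⟩ := h a _ h1 fun e => hi ((lv_pos rfl (f a)).symm.trans (congrFun e i))
  have h2 : N a' ⊂ N a := by
    refine (Finset.ssubset_iff_of_subset fun k hk => ?_).2 ⟨i, ?_, fun hk => ?_⟩
    · obtain ⟨j, h3, h4⟩ := (Finset.mem_filter.1 hk).2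
      exact Finset.mem_filter.2 ⟨Finset.mem_univ _, i, hi, (ha' j h3).le.trans h4⟩
    · exact Finset.mem_filter.2 ⟨Finset.mem_univ _, i, hi, le_rfl⟩
    · obtain ⟨j, h3, h4⟩ := (Finset.mem_filter.1 hk).2
      exact absurd (ha' j h3) (not_lt.2 h4)
  exact Function.not_lt_argmin (fun a => (N a).card) a' (Finset.card_lt_card h2)

/-! ### levels of matrices -/

variable (K) in
/-- the matrices which raise the level by at least `d` -/
def MGe (c : I → Fin 7 → ℤ) (β : E) (d : ℝ) : Submodule K (Matrix I I K) where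
  carrier := {X | ∀ i j, X i j ≠ 0 → bf β (cv (c j)) + d ≤ bf β (cv (c i))}
  zero_mem' := fun _ _ h => absurd rfl h
  add_mem' := by
    intro X Y hX hY i j h
    by_cases h1 : X i j = 0
    · rw [Matrix.add_apply, h1, zero_add] at h
      exact hY i j h
    · exact hX i j h1
  smul_mem' := fun _ _ hX i j h => hX i j (right_ne_zero_of_mul h)

variable (K) in
/-- the matrices which raise the level by more than `d` -/
def MGt (c : I → Fin 7 → ℤ) (β : E) (d : ℝ) : Submodule K (Matrix I I K) where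
  carrier := {X | ∀ i j, X i j ≠ 0 → bf β (cv (c j)) + d < bf β (cv (c i))}
  zero_mem' := fun _ _ h => absurd rfl h
  add_mem' := by
    intro X Y hX hY i j h
    by_cases h1 : X i j = 0
    · rw [Matrix.add_apply, h1, zero_add] at h
      exact hY i j h
    · exact hX i j h1
  smul_mem' := fun _ _ hX i j h => hX i j (right_ne_zero_of_mul h)

variable {X Y : Matrix I I K}

theorem MGt_le_MGe : MGt K c β d ≤ MGe K c β d := fun _ h i j hij => (h i j hij).le

theorem MGe_mono (h : d ≤ d') : MGe K c β d' ≤ MGe K c β d := fun _ hX i j hij => by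
  have := hX i j hij
  linarith

theorem MGt_mono (h : d ≤ d') : MGt K c β d' ≤ MGt K c β d := fun _ hX i j hij => by
  have := hX i j hij
  linarith

theorem MGe_le_MGt (h : d < d') : MGe K c β d' ≤ MGt K c β d := fun _ hX i j hij => by
  have := hX i j hij
  linarith

theorem bf_end (β : E) (i j : I) : bf β (cv (c i + - c j)) = bf β (cv (c i)) - bf β (cv (c j)) := by
  rw [cv_add, cv_neg, map_add, map_neg, sub_eq_add_neg]

theorem vec_Ge : Kf.vec X ∈ Ge K (fun x : I × I => c x.1 + - c x.2) β d ↔ X ∈ MGe K c β d := by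
  refine ⟨fun h i j hij => ?_, fun h x hx => ?_⟩
  · have h1 := h (i, j) hij
    rw [bf_end] at h1
    exact le_sub_iff_add_le'.1 h1
  · rw [bf_end]
    exact le_sub_iff_add_le'.2 (h _ _ hx)

theorem vec_Gt : Kf.vec X ∈ Gt K (fun x : I × I => c x.1 + - c x.2) β d ↔ X ∈ MGt K c β d := by
  refine ⟨fun h i j hij => ?_, fun h x hx => ?_⟩
  · have h1 := h (i, j) hij
    rw [bf_end] at h1
    exact lt_sub_iff_add_lt'.1 h1
  · rw [bf_end]
    exact lt_sub_iff_add_lt'.2 (h _ _ hx)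

theorem M_eq_zero_of_step [Finite I] (h : ∀ d, X ∈ MGe K c β d → X ∈ MGt K c β d) : X = 0 := by
  have h1 : Kf.vec X = 0 := eq_zero_of_step fun d hd => vec_Gt.2 (h d (vec_Ge.1 hd))
  ext i j
  exact congrFun h1 (i, j)

/-- a uniform gap -/
theorem exists_gap [Finite I] (c : I → Fin 7 → ℤ) (β : E) (d : ℝ) : ∃ d', d < d' ∧ Gt K c β d ≤ Ge K c β d' := by
  by_cases h : ∃ i, d < bf β (cv (c i))
  · obtain ⟨i0, h0⟩ := h
    have : Nonempty {i // d < bf β (cv (c i))} := ⟨⟨i0, h0⟩⟩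
    obtain ⟨i, hi⟩ := Finite.exists_min fun i : {i // d < bf β (cv (c i))} => bf β (cv (c i.1))
    exact ⟨_, i.2, fun x hx j hj => hi ⟨j, hx j hj⟩⟩
  · exact ⟨d + 1, lt_add_one d, fun x hx j hj => absurd ⟨j, hx j hj⟩ h⟩

theorem exists_gapM [Finite I] (c : I → Fin 7 → ℤ) (β : E) (d : ℝ) : ∃ d', d < d' ∧ MGt K c β d ≤ MGe K c β d' := by
  obtain ⟨d', h1, h2⟩ := exists_gap (K := K) (fun x : I × I => c x.1 + - c x.2) β d
  exact ⟨d', h1, fun X hX => vec_Ge.1 (h2 (vec_Gt.2 hX))⟩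

variable [Fintype I]

theorem MGe_mul (hX : X ∈ MGe K c β d) (hY : Y ∈ MGe K c β d') : X * Y ∈ MGe K c β (d + d') := fun i j h => by
  obtain ⟨k, h1, h2⟩ := exists_mid' h
  have := hX i k h1
  have := hY k j h2
  linarith

theorem MGt_mul (hX : X ∈ MGt K c β d) (hY : Y ∈ MGe K c β d') : X * Y ∈ MGt K c β (d + d') := fun i j h => by
  obtain ⟨k, h1, h2⟩ := exists_mid' h
  have := hX i k h1
  have := hY k j h2
  linarith

theorem mul_MGt (hX : X ∈ MGe K c β d) (hY : Y ∈ MGt K c β d') : X * Y ∈ MGt K c β (d + d') := fun i j h => by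
  obtain ⟨k, h1, h2⟩ := exists_mid' h
  have := hX i k h1
  have := hY k j h2
  linarith

theorem MGe_mulVec (hX : X ∈ MGe K c β d) (hx : x ∈ Ge K c β d') : X *ᵥ x ∈ Ge K c β (d' + d) := fun i h => by
  obtain ⟨k, h1, h2⟩ := exists_col h
  have := hX i k h1
  have := hx k h2
  linarith

theorem MGt_mulVec (hX : X ∈ MGt K c β d) (hx : x ∈ Ge K c β d') : X *ᵥ x ∈ Gt K c β (d' + d) := fun i h => by
  obtain ⟨k, h1, h2⟩ := exists_col h
  have := hX i k h1
  have := hx k h2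
  linarith

theorem mulVec_Gt (hX : X ∈ MGe K c β d) (hx : x ∈ Gt K c β d') : X *ᵥ x ∈ Gt K c β (d' + d) := fun i h => by
  obtain ⟨k, h1, h2⟩ := exists_col h
  have := hX i k h1
  have := hx k h2
  linarith

variable [DecidableEq I] {R : Gh K →* Matrix I I K}

omit [Fintype I] in
theorem one_MGe : (1 : Matrix I I K) ∈ MGe K c β 0 := fun i j h => by
  have h1 : i = j := by
    by_contra h1
    exact h (one_apply_ne h1)
  rw [h1, add_zero]

theorem MGe_of_mulVec (h : ∀ d', ∀ x ∈ Lv K c β d', X *ᵥ x ∈ Ge K c β (d' + d)) : X ∈ MGe K c β d := fun i j hij =>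
  h _ (Pi.single j 1) (fun k hk => by
    have h1 : k = j := by
      by_contra h1
      exact hk (Pi.single_eq_of_ne h1 _)
    rw [h1]) i (by rwa [mulVec_single_one, col_apply])

theorem MGt_of_mulVec (h : ∀ d', ∀ x ∈ Lv K c β d', X *ᵥ x ∈ Gt K c β (d' + d)) : X ∈ MGt K c β d := fun i j hij =>
  h _ (Pi.single j 1) (fun k hk => by
    have h1 : k = j := by
      by_contra h1
      exact hk (Pi.single_eq_of_ne h1 _)
    rw [h1]) i (by rwa [mulVec_single_one, col_apply])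

theorem Pl_MGe (hR : WRep c R) {y : Gh K} (hy : y ∈ Pl K β) : R y ∈ MGe K c β 0 := fun i j hij => by
  rw [add_zero]
  exact hR.tri hy i j hij

theorem conj_MGe (hR : WRep c R) {y z : Gh K} (hy : y ∈ Pl K β) (hz : z ∈ Pl K β) (hX : X ∈ MGe K c β d) :
    R y * X * R z ∈ MGe K c β d := by
  have h1 := MGe_mul (MGe_mul (Pl_MGe hR hy) hX) (Pl_MGe hR hz)
  rwa [zero_add, add_zero] at h1

/-- the Levi subgroup preserves the levels -/
theorem levi_Lv (hR : WRep c R) {y : Gh K} (hy : y ∈ Pl K β) (hy' : y ∈ Pl K (-β)) (hx : x ∈ Lv K c β d) :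
    R y *ᵥ x ∈ Lv K c β d :=
  Lv_of_Ge (hR.Ge_stab hy (Lv_le_Ge hx)) (hR.Ge_stab hy' (Lv_le_Ge (mem_Lv_neg.2 hx)))

/-- root elements of positive level act trivially on the graded module -/
theorem xs_sub_one [Infinite K] (hR : WRep c R) {r : ℕ} (hr : r < 126) (h0 : 0 < bf β (rv r)) (t : K) :
    R (xs K r t) - 1 ∈ MGt K c β 0 := by
  obtain ⟨i0, hi0⟩ : ∃ i0, rc r i0 ≠ 0 := by
    by_contra hc
    push Not at hc
    exact rv_ne hr ((congrArg cv (show rc r = 0 from funext hc)).trans cv_zero)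
  obtain ⟨z, hz⟩ := exists_zpow_ne (K := K) hi0
  let a : Fin chevE7.rank → Kˣ := Pi.mulSingle i0 z
  have hχ : ch (rc r) a = z ^ rc r i0 := ch_single _ _ _
  have h1 : ∀ s : K, R (xs K r ((ch (rc r) a : Kˣ) * s)) - R (xs K r s) ∈ MGt K c β 0 := by
    intro s i j hij
    have e : xs K r ((ch (rc r) a : Kˣ) * s) = Phi K a * xs K r s * Phi K a⁻¹ := by
      rw [map_inv]
      exact (Five.Phi_xs a hr s).symm
    rw [e, map_mul, map_mul, hR.tor, hR.tor, Matrix.sub_apply, mul_diagonal, diagonal_mul] at hij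
    have h2 : R (xs K r s) i j ≠ 0 := fun h => hij (by rw [h, mul_zero, zero_mul, sub_zero])
    obtain ⟨m, hm⟩ := hR.root r hr s i j h2
    have h3 : m ≠ 0 := by
      rintro rfl
      rw [zero_smul, add_zero] at hm
      rw [hm, ch_inv, mul_right_comm, Units.mul_inv, one_mul, sub_self] at hij
      exact hij rfl
    rw [hm, cv_add, cv_nsmul, map_add, map_smul, smul_eq_mul, add_zero]
    exact lt_add_of_pos_right _ (mul_pos (Nat.cast_pos.2 (Nat.pos_of_ne_zero h3)) h0)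
  have h2 : (1 : K) - (ch (rc r) a : Kˣ) ≠ 0 := fun h => hz (by
    rw [← hχ]
    exact Units.ext (sub_eq_zero.1 h).symm)
  obtain ⟨s, rfl⟩ : ∃ s, t = (ch (rc r) a : Kˣ) * (-s) + s := ⟨t / (1 - (ch (rc r) a : Kˣ)), by field_simp; ring⟩
  have h3 := MGt_mul (h1 (-s)) (Pl_MGe hR (xs_mem_Pl hr h0.le s))
  rwa [add_zero, sub_mul, ← map_mul, ← map_mul, xs_mul, xs_mul, neg_add_cancel, xs_zero, map_one] at h3

end Gr

/-- **the Levi part** -/
theorem exists_levi [Infinite K] {β : E} {y : Gh K} (hy : y ∈ Pl K β) : ∃ l ∈ Pl K β, l ∈ Pl K (-β) ∧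
    ∀ (I : Type) [Fintype I] [DecidableEq I] (c : I → Fin 7 → ℤ) (R : Gh K →* Matrix I I K), WRep c R →
      R y - R l ∈ MGt K c β 0 := by
  refine Pl_induction (P := fun y => ∃ l ∈ Pl K β, l ∈ Pl K (-β) ∧
    ∀ (I : Type) [Fintype I] [DecidableEq I] (c : I → Fin 7 → ℤ) (R : Gh K →* Matrix I I K), WRep c R →
      R y - R l ∈ MGt K c β 0) ?_ ?_ ?_ ?_ hy
  · exact ⟨1, one_mem _, one_mem _, fun _ _ _ _ _ _ => by rw [sub_self]; exact zero_mem _⟩
  · rintro a b - hb ⟨l, hl, hl', h1⟩ ⟨m, hm, hm', h2⟩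
    refine ⟨l * m, mul_mem hl hm, mul_mem hl' hm', fun I _ _ c R hR => ?_⟩
    have h3 := MGt_mul (h1 I c R hR) (Pl_MGe hR hb)
    have h4 := mul_MGt (Pl_MGe hR hl) (h2 I c R hR)
    rw [add_zero] at h3 h4
    have e : R (a * b) - R (l * m) = (R a - R l) * R b + R l * (R b - R m) := by
      rw [map_mul, map_mul, sub_mul, mul_sub]
      abel
    rw [e]
    exact add_mem h3 h4
  · intro r hr h0 t
    rcases h0.eq_or_lt with h1 | h1
    · exact ⟨_, xs_mem_Pl hr h0 t, xs_mem_Pl hr (by rw [map_neg, LinearMap.neg_apply, ← h1, neg_zero]) t,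
        fun _ _ _ _ _ _ => by rw [sub_self]; exact zero_mem _⟩
    · exact ⟨1, one_mem _, one_mem _, fun I _ _ c R hR => by rw [map_one]; exact xs_sub_one hR hr h1 t⟩
  · exact fun a => ⟨_, Phi_mem_Pl _ a, Phi_mem_Pl _ a, fun _ _ _ _ _ _ => by rw [sub_self]; exact zero_mem _⟩

theorem Ul_MGt {β : E} {y : Gh K} (hy : y ∈ Ul K β) : rho K y - 1 ∈ MGt K wc β 0 := fun i j hij => by
  rw [add_zero]
  exact hy.2 i j hij

theorem mem_Ul {β : E} {y : Gh K} (hy : y ∈ Pl K β) (h : rho K y - 1 ∈ MGt K wc β 0) : y ∈ Ul K β :=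
  ⟨hy, fun i j hij => by
    have h1 := h i j hij
    rwa [add_zero] at h1⟩

/-- `Ul β` meets the opposite parabolic subgroup trivially -/
theorem eq_one_of_opp {β : E} {y : Gh K} (hy : y ∈ Ul K β) (hy' : y ∈ Pl K (-β)) : y = 1 := by
  apply rho_injective
  rw [map_one, ← sub_eq_zero]
  ext i j
  by_contra h
  have h1 := hy.2 i j h
  have h2 : i ≠ j := by
    rintro rfl
    exact lt_irrefl _ h1
  rw [Matrix.sub_apply, one_apply_ne h2, sub_zero] at h
  have h3 := wrep_V.tri hy' i j h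
  rw [map_neg, LinearMap.neg_apply, LinearMap.neg_apply] at h3
  exact absurd h1 (not_lt.2 (neg_le_neg_iff.1 h3))

/-- the unipotent radical acts trivially on every graded module -/
theorem Ul_sub_one [Infinite K] {I : Type} [Fintype I] [DecidableEq I] {c : I → Fin 7 → ℤ} {R : Gh K →* Matrix I I K}
    (hR : WRep c R) {β : E} {y : Gh K} (hy : y ∈ Ul K β) : R y - 1 ∈ MGt K c β 0 := by
  obtain ⟨l, hl, hl', h⟩ := exists_levi hy.1
  have h1 : l = 1 := eq_one_of_opp (mem_Ul hl (by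
    have h2 := sub_mem (Ul_MGt hy) (h _ _ _ wrep_V)
    rwa [sub_sub_sub_cancel_left] at h2)) hl'
  have h2 := h I c R hR
  rwa [h1, map_one] at h2

/-! ### leading terms -/

theorem mem_face {S : Set E} {β y : E} {n : ℝ} (hS : ∀ s ∈ S, n ≤ bf β s) (hy : y ∈ convexHull ℝ S) (h : bf β y = n) :
    y ∈ convexHull ℝ {s | s ∈ S ∧ bf β s = n} := by
  have h1 : convexHull ℝ S ⊆ {y | n ≤ bf β y ∧ (bf β y = n → y ∈ convexHull ℝ {s | s ∈ S ∧ bf β s = n})} := by
    refine convexHull_min (fun s hs => ⟨hS s hs, fun e => subset_convexHull ℝ _ ⟨hs, e⟩⟩) ?_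
    rintro x ⟨hx, hx'⟩ z ⟨hz, hz'⟩ a b ha hb hab
    have e : bf β (a • x + b • z) = a * bf β x + b * bf β z := by rw [map_add, map_smul, map_smul]; rfl
    have h2 := mul_le_mul_of_nonneg_left hx ha
    have h3 := mul_le_mul_of_nonneg_left hz hb
    have h4 : a * n + b * n = n := by rw [← add_mul, hab, one_mul]
    refine ⟨by rw [e]; linarith, fun h5 => ?_⟩
    rw [e] at h5
    rcases ha.eq_or_lt with rfl | ha'
    · rw [zero_add] at hab
      subst hab
      rw [zero_smul, zero_add, one_smul]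
      exact hz' (by linarith)
    rcases hb.eq_or_lt with rfl | hb'
    · rw [add_zero] at hab
      subst hab
      rw [zero_smul, add_zero, one_smul]
      exact hx' (by linarith)
    exact convex_convexHull ℝ _ (hx' (mul_left_cancel₀ ha'.ne' (by linarith)))
      (hz' (mul_left_cancel₀ hb'.ne' (by linarith))) ha hb hab
  exact (h1 hy).2 h

section Lead
variable {I : Type} [Fintype I] [DecidableEq I] {c : I → Fin 7 → ℤ} {R : Gh K →* Matrix I I K} {X Y : Set (I → K)}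

theorem St_sub_of_span (h : X ⊆ Submodule.span K Y) (g : Gh K) : _root_.Cfsg.Agent.E7P.Kf.St c R X g ⊆ _root_.Cfsg.Agent.E7P.Kf.St c R Y g := by
  rintro _ ⟨i, rfl, v, hv, hi⟩
  by_contra hc
  have h1 : Submodule.span K Y ≤ LinearMap.ker ((LinearMap.proj i : (I → K) →ₗ[K] K) ∘ₗ toLin' (R g⁻¹)) :=
    Submodule.span_le.2 fun y hy => by
      by_contra h2
      exact hc ⟨i, rfl, y, hy, h2⟩
  exact hi (h1 (h hv))

theorem St_eq_of_span (h : X ⊆ Submodule.span K Y) (h' : Y ⊆ Submodule.span K X) : _root_.Cfsg.Agent.E7P.Kf.St c R X = _root_.Cfsg.Agent.E7P.Kf.St c R Y :=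
  funext fun g => (St_sub_of_span h g).antisymm (St_sub_of_span h' g)

theorem Opt_Ge {g : Gh K} {β : E} (ho : Opt bf (_root_.Cfsg.Agent.E7P.Kf.St c R X) g β) {v : I → K} (hv : v ∈ X) :
    R g⁻¹ *ᵥ v ∈ Ge K c β (bf β β) := fun i hi => ho.1.2 _ ⟨i, rfl, v, hv, hi⟩

theorem exists_ne_of_opt {g : Gh K} {β : E} (ho : Opt bf (_root_.Cfsg.Agent.E7P.Kf.St c R X) g β) : ∃ v ∈ X, v ≠ 0 := by
  obtain ⟨_, i, -, v, hv, hi⟩ := convexHull_nonempty_iff.1 ⟨β, ho.1.1⟩
  exact ⟨v, hv, fun e => hi (by rw [e, mulVec_zero]; rfl)⟩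

/-- **LEAD**: the leading terms have the same optimal cocharacter -/
theorem lead [Infinite K] (hR : WRep c R) {g : Gh K} {β : E} (ho : Opt bf (_root_.Cfsg.Agent.E7P.Kf.St c R X) g β) (hβ : Dom β) :
    Opt bf (_root_.Cfsg.Agent.E7P.Kf.St c R ((fun v => lv c β (bf β β) (R g⁻¹ *ᵥ v)) '' X)) 1 β := by
  set Z := (fun v => lv c β (bf β β) (R g⁻¹ *ᵥ v)) '' X with hZ
  have h1 : IsCl bf (_root_.Cfsg.Agent.E7P.Kf.St c R Z 1) β := by
    refine ⟨convexHull_mono ?_ (mem_face ho.1.2 ho.1.1 rfl), ?_⟩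
    · rintro _ ⟨⟨i, rfl, v, hv, hi⟩, h2⟩
      refine ⟨i, rfl, _, ⟨v, hv, rfl⟩, ?_⟩
      rw [inv_one, map_one, one_mulVec]
      exact fun h3 => hi ((lv_pos h2 _).symm.trans h3)
    · rintro _ ⟨i, rfl, _, ⟨v, hv, rfl⟩, hi⟩
      rw [inv_one, map_one, one_mulVec] at hi
      exact (lv_ne hi).1.ge
  have hZ0 : ∃ v ∈ Z, v ≠ 0 := by
    obtain ⟨_, i, -, v, hv, hi⟩ := convexHull_nonempty_iff.1 ⟨β, h1.1⟩
    exact ⟨v, hv, fun e => hi (by rw [e, mulVec_zero]; rfl)⟩
  obtain ⟨g₁, β₁, o₁, hd₁⟩ := hR.exists_opt hZ0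
  refine ⟨h1, fun g' β' h' => (o₁.2 g' β' h').trans ?_⟩
  obtain ⟨b, b', l, hb, hb', e⟩ := bruhat g₁
  have h2 : ∀ s ∈ _root_.Cfsg.Agent.E7P.Kf.St c R Z b, bf β₁ β₁ ≤ bf (wL l β₁) s := by
    intro s hs
    obtain ⟨s', hs', rfl⟩ := (hR.mon_nL l).St_sub b hs
    rw [wL_iso]
    refine hR.St_le (inv_mem (hb' β₁ hd₁)) g₁ o₁.1.2 s' ?_
    rwa [e, mul_inv_cancel_right]
  obtain ⟨m, hm, -, h3⟩ := exists_levi (inv_mem (hb β hβ))
  have o₂ : Opt bf (_root_.Cfsg.Agent.E7P.Kf.St c R X) (g * m⁻¹) β := ho.move bf_pd (St_finite _) (St_nonempty (exists_ne_of_opt ho) _)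
    (hR.St_le (inv_mem hm) g ho.1.2)
  have h4 : ∀ s ∈ {s | s ∈ _root_.Cfsg.Agent.E7P.Kf.St c R X (g * m⁻¹) ∧ bf β s = bf β β}, bf β₁ β₁ ≤ bf (wL l β₁) s := by
    rintro _ ⟨⟨i, rfl, v, hv, hi⟩, h5⟩
    refine h2 _ ⟨i, rfl, _, ⟨v, hv, rfl⟩, fun h6 => hi ?_⟩
    have h7 := hR.Gt_stab hm (sub_lv_mem (Opt_Ge ho hv))
    have h8 := MGt_mulVec (h3 I c R hR) (Lv_le_Ge (lv_mem (c := c) (β := β) (d := bf β β) (R g⁻¹ *ᵥ v)))
    rw [add_zero] at h8
    have h9 := sub_mem h7 h8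
    have e2 : R (g * m⁻¹)⁻¹ *ᵥ v = R b⁻¹ *ᵥ lv c β (bf β β) (R g⁻¹ *ᵥ v) + (R m *ᵥ (R g⁻¹ *ᵥ v - lv c β (bf β β) (R g⁻¹ *ᵥ v)) -
        (R b⁻¹ - R m) *ᵥ lv c β (bf β β) (R g⁻¹ *ᵥ v)) := by
      rw [_root_.mul_inv_rev, inv_inv, mulVec_mul, mulVec_sub, sub_mulVec]
      abel
    rw [e2, Pi.add_apply, h6, zero_add]
    by_contra h10
    exact (h9 i h10).ne' h5
  have h5 := le_of_hull h4 (mem_face o₂.1.2 o₂.1.1 rfl)
  rw [← wL_iso l β₁ β₁] at h5 ⊢
  exact bf_pd.le_of_le h5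

end Lead

/-! ### the Lie algebra -/

theorem del_wt {z : chevE7.Idx → K} {i j : D1} (h : del K z i j ≠ 0) : ∃ a, z a ≠ 0 ∧ wv i = wv j + cv (ac a) := by
  rw [R2.PX.del_apply, Matrix.add_apply, Matrix.sum_apply, Matrix.sum_apply] at h
  by_cases h1 : ∑ a : Fin chevE7.rank, (z (Sum.inl a) • R2.PX.Hi K a) i j = 0
  · rw [h1, zero_add] at h
    obtain ⟨s, -, hs⟩ := Finset.exists_ne_zero_of_sum_ne_zero h
    exact ⟨Sum.inr s, left_ne_zero_of_mul hs, NM_ne s.2 (right_ne_zero_of_mul hs)⟩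
  · obtain ⟨a, -, ha⟩ := Finset.exists_ne_zero_of_sum_ne_zero h1
    have h2 : i = j := by
      by_contra h2
      exact right_ne_zero_of_mul ha (diagonal_apply_ne _ h2)
    exact ⟨Sum.inl a, left_ne_zero_of_mul ha, by rw [h2, ac_inl, cv_zero, add_zero]⟩

theorem del_supp {z : chevE7.Idx → K} {a : chevE7.Idx} (h : z a ≠ 0) :
    ∃ i j, del K z i j ≠ 0 ∧ wv i = wv j + cv (ac a) := by
  have h1 : del K (pj ac (fun s => s = cv (ac a)) z) ≠ 0 := fun e => h (by
    rw [← pj_pos (c := ac) (P := fun s => s = cv (ac a)) rfl z, Mu.del_injective (e.trans (map_zero _).symm)]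
    rfl)
  obtain ⟨i, hi⟩ := Function.ne_iff.1 h1
  obtain ⟨j, hj⟩ := Function.ne_iff.1 hi
  obtain ⟨b, hb, e⟩ := del_wt hj
  have h2 : cv (ac b) = cv (ac a) := by
    by_contra h2
    exact hb (pj_neg (P := fun s => s = cv (ac a)) h2 z)
  refine ⟨i, j, fun h3 => hj ?_, h2 ▸ e⟩
  have h4 : del K (z - pj ac (fun s => s = cv (ac a)) z) i j = 0 := by
    by_contra h4
    obtain ⟨b', hb', e'⟩ := del_wt h4
    have h5 : cv (ac b') = cv (ac a) := (add_left_cancel (e'.symm.trans e)).trans h2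
    exact hb' (by rw [Pi.sub_apply, pj_pos (P := fun s => s = cv (ac a)) h5, sub_self])
  rw [map_sub, Matrix.sub_apply, h3, zero_sub, neg_eq_zero] at h4
  exact h4

section
variable {β : E} {d d' : ℝ} {x y z : chevE7.Idx → K}

theorem del_MGe : del K z ∈ MGe K wc β d ↔ z ∈ Ge K ac β d := by
  refine ⟨fun h a ha => ?_, fun h i j hij => ?_⟩
  · obtain ⟨i, j, h1, e⟩ := del_supp ha
    have h2 : bf β (wv j) + d ≤ bf β (wv i) := h i j h1
    rw [e, map_add] at h2
    linarith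
  · obtain ⟨a, ha, e⟩ := del_wt hij
    show bf β (wv j) + d ≤ bf β (wv i)
    have h2 := h a ha
    rw [e, map_add]
    linarith

theorem del_MGt : del K z ∈ MGt K wc β d ↔ z ∈ Gt K ac β d := by
  refine ⟨fun h a ha => ?_, fun h i j hij => ?_⟩
  · obtain ⟨i, j, h1, e⟩ := del_supp ha
    have h2 : bf β (wv j) + d < bf β (wv i) := h i j h1
    rw [e, map_add] at h2
    linarith
  · obtain ⟨a, ha, e⟩ := del_wt hij
    show bf β (wv j) + d < bf β (wv i)
    have h2 := h a ha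
    rw [e, map_add]
    linarith

theorem vec_del_Lv (h : z ∈ Lv K ac β d) : Kf.vec (del K z) ∈ Lv K ec β d := fun x hx => by
  obtain ⟨a, ha, e⟩ := del_wt hx
  rw [bf_end]
  show bf β (wv x.1) - bf β (wv x.2) = d
  rw [e, map_add, h a ha, add_sub_cancel_left]

theorem del_adM (h2 : (2 : K) ≠ 0) (g : Gh K) (z : chevE7.Idx → K) :
    del K (adM K g *ᵥ z) = rho K g * del K z * rho K g⁻¹ := by
  rw [R2.PX.del_equi h2, mul_assoc, ← map_mul, mul_inv_cancel, map_one, mul_one]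

/-- the weights of a subset of the Lie algebra, seen in `End V` -/
theorem St_del (h2 : (2 : K) ≠ 0) (X : Set (chevE7.Idx → K)) :
    _root_.Cfsg.Agent.E7P.Kf.St ec (eR K) ((fun z => Kf.vec (del K z)) '' X) = _root_.Cfsg.Agent.E7P.Kf.St ac (adM K) X := by
  funext g
  ext s
  constructor
  · rintro ⟨i, rfl, _, ⟨z, hz, rfl⟩, hi⟩
    rw [endo_mulVec, ← del_adM h2] at hi
    obtain ⟨a, ha, e⟩ := del_wt hi
    refine ⟨a, ?_, z, hz, ha⟩
    rw [cv_add, cv_neg]
    show wv i.1 + - wv i.2 = _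
    rw [e, add_neg_cancel_comm]
  · rintro ⟨a, rfl, z, hz, ha⟩
    obtain ⟨i, j, h1, e⟩ := del_supp ha
    refine ⟨(i, j), ?_, _, ⟨z, hz, rfl⟩, by rw [endo_mulVec, ← del_adM h2]; exact h1⟩
    rw [cv_add, cv_neg]
    show _ = wv i + - wv j
    rw [e, add_neg_cancel_comm]

end

theorem del_br0 (x y : chevE7.Idx → K) : del K (exists_br x y).choose = del K x * del K y - del K y * del K x :=
  (exists_br x y).choose_spec

variable (K) in
/-- **the bracket** -/
noncomputable def br : (chevE7.Idx → K) →ₗ[K] (chevE7.Idx → K) →ₗ[K] (chevE7.Idx → K) :=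
  LinearMap.mk₂ K (fun x y => (exists_br x y).choose)
    (fun x x' y => Mu.del_injective (by
      rw [del_br0, map_add, map_add, del_br0, del_br0, add_mul, mul_add]
      abel))
    (fun c x y => Mu.del_injective (by
      rw [del_br0, map_smul, map_smul, del_br0, smul_mul_assoc, mul_smul_comm, smul_sub]))
    (fun x y y' => Mu.del_injective (by
      rw [del_br0, map_add, map_add, del_br0, del_br0, add_mul, mul_add]
      abel))
    (fun c x y => Mu.del_injective (by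
      rw [del_br0, map_smul, map_smul, del_br0, smul_mul_assoc, mul_smul_comm, smul_sub]))

theorem del_br (x y : chevE7.Idx → K) : del K (br K x y) = del K x * del K y - del K y * del K x := del_br0 x y

section
variable {β : E} {d d' : ℝ} {x y z : chevE7.Idx → K}

theorem br_eq_zero : br K x y = 0 ↔ Cm x y := by
  refine ⟨fun h => ?_, fun h => Mu.del_injective ?_⟩
  · have h1 := del_br x y
    rw [h, map_zero] at h1
    exact sub_eq_zero.1 h1.symm
  · rw [del_br, map_zero]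
    exact sub_eq_zero.2 h

theorem br_anti (x y : chevE7.Idx → K) : br K x y = - br K y x :=
  Mu.del_injective (by rw [map_neg, del_br, del_br, neg_sub])

theorem br_self (x : chevE7.Idx → K) : br K x x = 0 := br_eq_zero.2 rfl

theorem br_jacobi (x y z : chevE7.Idx → K) : br K x (br K y z) = br K (br K x y) z + br K y (br K x z) :=
  Mu.del_injective (by
    simp only [map_add, del_br]
    noncomm_ring)

theorem adM_br (h2 : (2 : K) ≠ 0) (g : Gh K) (x y : chevE7.Idx → K) :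
    adM K g *ᵥ br K x y = br K (adM K g *ᵥ x) (adM K g *ᵥ y) := Mu.del_injective (by
  have h1 : ∀ A : Matrix D1 D1 K, rho K g⁻¹ * (rho K g * A) = A := fun A => by
    rw [← mul_assoc, ← map_mul, inv_mul_cancel, map_one, one_mul]
  rw [del_br, del_adM h2, del_adM h2, del_adM h2, del_br, mul_sub, sub_mul]
  simp only [mul_assoc, h1])

theorem br_Ge (hx : x ∈ Ge K ac β d) (hy : y ∈ Ge K ac β d') : br K x y ∈ Ge K ac β (d + d') := by
  rw [← del_MGe] at hx hy ⊢
  rw [del_br]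
  exact sub_mem (MGe_mul hx hy) (add_comm d d' ▸ MGe_mul hy hx)

theorem br_Gt (hx : x ∈ Gt K ac β d) (hy : y ∈ Ge K ac β d') : br K x y ∈ Gt K ac β (d + d') := by
  rw [← del_MGe] at hy
  rw [← del_MGt] at hx ⊢
  rw [del_br]
  exact sub_mem (MGt_mul hx hy) (add_comm d d' ▸ mul_MGt hy hx)

theorem br_Gt' (hx : x ∈ Ge K ac β d) (hy : y ∈ Gt K ac β d') : br K x y ∈ Gt K ac β (d + d') := by
  rw [br_anti, add_comm]
  exact neg_mem (br_Gt hy hx)

theorem br_Lv (hx : x ∈ Lv K ac β d) (hy : y ∈ Lv K ac β d') : br K x y ∈ Lv K ac β (d + d') :=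
  Lv_of_Ge (br_Ge (Lv_le_Ge hx) (Lv_le_Ge hy))
    (by rw [neg_add]; exact br_Ge (Lv_le_Ge (mem_Lv_neg.2 hx)) (Lv_le_Ge (mem_Lv_neg.2 hy)))

theorem lv_br (hx : x ∈ Ge K ac β d) (hy : y ∈ Ge K ac β d') :
    lv ac β (d + d') (br K x y) = br K (lv ac β d x) (lv ac β d' y) := by
  rw [← lv_of_Lv (br_Lv (lv_mem x) (lv_mem y))]
  refine lv_eq_of_sub ?_
  have e : br K x y - br K (lv ac β d x) (lv ac β d' y) =
      br K (x - lv ac β d x) y + br K (lv ac β d x) (y - lv ac β d' y) := by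
    rw [map_sub, map_sub, LinearMap.sub_apply]
    abel
  rw [e]
  exact add_mem (br_Gt (sub_lv_mem hx) hy) (br_Gt' (Lv_le_Ge (lv_mem x)) (sub_lv_mem hy))

/-- the leading term of the adjoint action -/
theorem adM_lead (h2 : (2 : K) ≠ 0) {g : Gh K} (hg : g ∈ Pl K β) (hd : 0 < d) (hz : z ∈ Ge K ac β d)
    (h : rho K g - 1 - del K z ∈ MGt K wc β d) (hy : y ∈ Ge K ac β d') :
    adM K g *ᵥ y - y - br K z y ∈ Gt K ac β (d' + d) := by
  rw [← del_MGe] at hz hy
  have h1 : rho K g - 1 ∈ MGe K wc β d := by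
    have h3 := add_mem (MGt_le_MGe h) hz
    rwa [sub_add_cancel] at h3
  have e : del K (adM K g *ᵥ y - y - br K z y) = ((rho K g - 1 - del K z) * del K y - del K y * (rho K g - 1 - del K z) -
      (del K z * del K y - del K y * del K z) * (rho K g - 1)) * rho K g⁻¹ := by
    have h3 : rho K g * rho K g⁻¹ = 1 := by rw [← map_mul, mul_inv_cancel, map_one]
    rw [map_sub, map_sub, del_adM h2, del_br]
    calc _ = rho K g * del K y * rho K g⁻¹ - del K y * (rho K g * rho K g⁻¹) -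
          (del K z * del K y - del K y * del K z) * (rho K g * rho K g⁻¹) := by rw [h3, mul_one, mul_one]
      _ = _ := by noncomm_ring
  rw [← del_MGt, e]
  have h4 := MGe_mul (sub_mem (MGe_mul hz hy) (add_comm d d' ▸ MGe_mul hy hz)) h1
  have h5 := MGt_mul (sub_mem (sub_mem (add_comm d d' ▸ MGt_mul h hy) (mul_MGt hy h))
    (MGe_le_MGt (by linarith) h4)) (Pl_MGe wrep_V (inv_mem hg))
  rwa [add_zero] at h5

/-- the labels of an optimal cocharacter of a subset of the Lie algebra -/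
theorem label_le {X : Set (chevE7.Idx → K)} {g : Gh K} (ho : Opt bf (_root_.Cfsg.Agent.E7P.Kf.St ac (adM K) X) g β) (hβ : Dom β) (i : Fin 7) :
    β i ≤ bf β β := by
  by_contra hc
  have hlt := not_le.1 hc
  have h0 : β ≠ 0 := by
    rintro rfl
    simp at hlt
  have hn := bf_pd.pos β h0
  have h1 : ∀ s ∈ {s | s ∈ _root_.Cfsg.Agent.E7P.Kf.St ac (adM K) X g ∧ bf β s = bf β β}, 0 ≤ bf (-Pi.single i 1) s := by
    rintro _ ⟨⟨a, rfl, -⟩, h2⟩
    rcases a with a | r
    · rw [ac_inl, cv_zero, map_zero]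
    · have hr : r.val < 126 := r.2
      have h3 : bf β (rv r) = bf β β := h2
      show 0 ≤ bf (-Pi.single i 1) (rv r)
      have h63 : 63 ≤ r.val := by
        by_contra h63
        have := hβ.neg (not_le.1 h63)
        linarith only [hn, h3, this]
      have h4 := (chk_pos r hr).2.1 h63
      have h5 : rt chevE7 r i = 0 := by
        by_contra h5
        have h6 : (1 : ℝ) ≤ (rt chevE7 r i : ℝ) := by
          have := h4 i i.2
          exact_mod_cast (show (1 : ℤ) ≤ rt chevE7 r i by omega)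
        rw [bf_rv _ hr] at h3
        have h7 := Finset.single_le_sum (f := fun j : Fin 7 => β j * (rt chevE7 r j : ℝ))
          (fun j _ => mul_nonneg (hβ j) (by exact_mod_cast h4 j j.2)) (Finset.mem_univ i)
        have h8 := mul_le_mul_of_nonneg_left h6 (hβ i)
        linarith only [hc, h3, h7, h8]
      rw [bf_rv _ hr, Finset.sum_eq_single i, h5, Int.cast_zero, mul_zero]
      · intro j _ hj
        rw [Pi.neg_apply, Pi.single_eq_of_ne hj, neg_zero, zero_mul]
      · intro h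
        exact absurd (Finset.mem_univ i) h
  have h2 := le_of_hull h1 (mem_face ho.1.2 ho.1.1 rfl)
  have h3 : ∀ i < 7, ∀ j < 7, 1 ≤ Kf.iC i j := by decide
  rw [map_neg, LinearMap.neg_apply, bf_def, Finset.sum_eq_single i, Pi.single_eq_same, one_mul] at h2
  · have h4 := Finset.single_le_sum (f := fun j : Fin 7 => ((Kf.iC i j : ℤ) : ℝ) / 2 * β j)
      (fun j _ => mul_nonneg (div_nonneg (by exact_mod_cast (zero_le_one.trans (h3 i i.2 j j.2))) zero_le_two) (hβ j))
      (Finset.mem_univ i)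
    have h5 : (1 : ℝ) ≤ ((Kf.iC i i : ℤ) : ℝ) := by exact_mod_cast h3 i i.2 i i.2
    nlinarith
  · intro j _ hj
    rw [Pi.single_eq_of_ne hj, zero_mul]
  · intro h
    exact absurd (Finset.mem_univ i) h

end

end Cfsg.Agent.E7P.Br
end

-- part: E7P/Br/Pi
section
set_option linter.all false
open scoped Cfsg.Agent.FastGrp

/-!
# S5932, task BR: the projection `End V → g` and the Springer map (helper8)

* `trace_del` : the trace form is `12 kf`; `pi` : the projection (`12 ≠ 0`);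
* `leadU`, `exists_leadU` : leading terms of the elements of `Ul β`;
* `exists_eps`, `eps_inj`, `eps_fix`, `eps : EPS K`; `j1_gen`.
-/

set_option autoImplicit false
set_option maxRecDepth 100000

namespace Cfsg.Agent.E7P.Br

open Cfsg Cfsg.Lie Matrix Module
open Cfsg.Agent.H943.E7V.Block (D1 rho)
open Cfsg.Agent.R2.T1 Cfsg.Agent.E7P.Kf
open Cfsg.Agent.R2.PX (del)
open Cfsg.Agent.ChevalleyStructure.Columns (car)

universe u

variable {K : Type u} [Field K]

/-! ### the trace form -/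

theorem chk_HH : ∀ i < 7, ∀ j < 7, (R2.PX.W56.map fun s => chevE8.cartan i s * chevE8.cartan j s).sum =
    12 * car chevE7 i (chevE7.simple j) := by
  rewrite [Cfsg.Agent.ChevFast.E8.cartan]; decide +kernel

theorem chk_H : ∀ i < 7, (R2.PX.W56.map fun s => chevE8.cartan i s).sum = 0 := by
  rewrite [Cfsg.Agent.ChevFast.E8.cartan]; decide +kernel

theorem trace_basis (a b : chevE7.Idx) :
    trace (del K (Pi.single a 1) * del K (Pi.single b 1)) = 12 * KM K a b := by
  rcases a with i | r <;> rcases b with j | s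
  · rw [R2.PX.del_inl, R2.PX.del_inl, KM_ll]
    show trace (diagonal _ * diagonal _) = _
    rw [diagonal_mul_diagonal, trace_diagonal]
    have h1 := congrArg (fun x : ℤ => (x : K)) ((R2.PX.sumD1 fun s => chevE8.cartan i s * chevE8.cartan j s).trans
      (chk_HH i i.2 j j.2))
    simp only [Int.cast_sum, Int.cast_mul, Int.cast_ofNat] at h1
    exact h1
  · rw [R2.PX.del_inl, R2.PX.del_inr, KM_lr, mul_zero, trace_mul_comm]
    exact R2.PX.trace_NM_diag s.2 _
  · rw [R2.PX.del_inl, R2.PX.del_inr, KM_rl, mul_zero]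
    exact R2.PX.trace_NM_diag r.2 _
  · rw [R2.PX.del_inr, R2.PX.del_inr, KM_rr]
    split_ifs with h
    · rw [h, mul_one]
      exact R2.PX.trace_NM_neg r.2
    · rw [mul_zero]
      exact R2.PX.trace_NM s.2 r.2 h

theorem del_sum (y : chevE7.Idx → K) : del K y = ∑ a, y a • del K (Pi.single a 1) := by
  conv_lhs => rw [pi_eq_sum_univ' y]
  rw [map_sum]
  exact Finset.sum_congr rfl fun a _ => map_smul _ _ _

theorem trace_mul_del (X : Matrix D1 D1 K) (y : chevE7.Idx → K) :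
    trace (X * del K y) = ∑ a, y a * trace (X * del K (Pi.single a 1)) := by
  rw [del_sum y, Finset.mul_sum, trace_sum]
  exact Finset.sum_congr rfl fun a _ => by rw [mul_smul_comm, trace_smul, smul_eq_mul]

/-- **the trace form** -/
theorem trace_del (x y : chevE7.Idx → K) : trace (del K x * del K y) = 12 * kf K x y := by
  rw [trace_mul_comm, trace_mul_del, kf_apply, dotProduct, Finset.mul_sum]
  refine Finset.sum_congr rfl fun a _ => ?_
  rw [trace_mul_comm, trace_mul_del, mul_left_comm, mulVec, dotProduct, Finset.mul_sum _ _ (12 : K)]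
  congr 1
  exact Finset.sum_congr rfl fun b _ => by rw [trace_basis]; ring

theorem trace_del_zero (y : chevE7.Idx → K) : trace (del K y) = 0 := by
  rw [← one_mul (del K y), trace_mul_del]
  refine Finset.sum_eq_zero fun a _ => ?_
  rw [one_mul]
  rcases a with i | r
  · rw [R2.PX.del_inl]
    show _ * trace (diagonal _) = _
    rw [trace_diagonal]
    have h1 := congrArg (fun x : ℤ => (x : K)) ((R2.PX.sumD1 fun s => chevE8.cartan i s).trans (chk_H i i.2))
    simp only [Int.cast_sum, Int.cast_zero] at h1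
    rw [h1, mul_zero]
  · have h1 := R2.PX.trace_NM_diag (F := K) r.2 fun _ => 1
    rw [diagonal_one, mul_one] at h1
    rw [R2.PX.del_inr, h1, mul_zero]

theorem two_ne (h12 : (12 : K) ≠ 0) : (2 : K) ≠ 0 := fun h => h12 (by linear_combination 6 * h)

theorem twelve_ne {p : ℕ} [CharP K p] (hp : p.Prime) (h5 : 5 ≤ p) : (12 : K) ≠ 0 := by
  intro h
  have h1 : p ∣ 2 ^ 2 * 3 := (CharP.cast_eq_zero_iff K p 12).1 (by exact_mod_cast h)
  rcases (Nat.Prime.dvd_mul hp).1 h1 with h2 | h2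
  · have := Nat.le_of_dvd two_pos (hp.dvd_of_dvd_pow h2)
    omega
  · have := Nat.le_of_dvd (by norm_num) h2
    omega

theorem kf_adM (g : Gh K) (x y : chevE7.Idx → K) : kf K (adM K g *ᵥ x) (adM K g *ᵥ y) = kf K x y := by
  rw [← L_mulVec, ← L_mulVec, kf_L]

/-- the form is invariant -/
theorem kf_br (h12 : (12 : K) ≠ 0) (x y z : chevE7.Idx → K) : kf K (br K x y) z = kf K x (br K y z) := by
  apply mul_left_cancel₀ h12
  rw [← trace_del, ← trace_del, del_br, del_br, sub_mul, mul_sub, trace_sub, trace_sub, mul_assoc,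
    trace_mul_cycle (del K y), mul_assoc (del K z), trace_mul_comm (del K z), mul_assoc, trace_mul_comm (del K y),
    trace_mul_comm (del K x) (del K z * del K y), mul_assoc, trace_mul_comm (del K x) (del K z * del K y), mul_assoc]

/-! ### the projection -/

variable (K) in
/-- **the projection** `End V → g` -/
noncomputable def pi : Matrix D1 D1 K →ₗ[K] (chevE7.Idx → K) where
  toFun X := (12 : K)⁻¹ • ((KM K)⁻¹ *ᵥ fun a => trace (X * del K (Pi.single a 1)))
  map_add' X Y := by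
    rw [← smul_add, ← mulVec_add]
    congr 2
    funext a
    rw [add_mul, trace_add]
    rfl
  map_smul' c X := by
    rw [RingHom.id_apply, smul_comm c, ← mulVec_smul _ c]
    congr 2
    funext a
    rw [smul_mul_assoc, trace_smul]
    rfl

section
variable (h12 : (12 : K) ≠ 0)
include h12

theorem pi_spec (X : Matrix D1 D1 K) (y : chevE7.Idx → K) : 12 * kf K y (pi K X) = trace (X * del K y) := by
  have h1 : IsUnit (KM K).det := by
    rw [← isUnit_iff_isUnit_det, ← mulVec_injective_iff_isUnit]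
    intro v w h
    refine sub_eq_zero.1 (kf_nondeg (two_ne h12) fun x => ?_)
    rw [kf_apply, mulVec_sub, h, sub_self, dotProduct_zero]
  rw [kf_apply]
  show 12 * y ⬝ᵥ KM K *ᵥ ((12 : K)⁻¹ • ((KM K)⁻¹ *ᵥ fun a => trace (X * del K (Pi.single a 1)))) = _
  rw [mulVec_smul, mulVec_mulVec, mul_nonsing_inv _ h1, one_mulVec, dotProduct_smul, smul_eq_mul,
    mul_inv_cancel_left₀ h12, trace_mul_del]
  rfl

theorem pi_ext {X : Matrix D1 D1 K} {z : chevE7.Idx → K} (h : ∀ y, trace (X * del K y) = 12 * kf K y z) : pi K X = z :=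
  sub_eq_zero.1 (kf_nondeg (two_ne h12) fun y => by
    apply mul_left_cancel₀ h12
    rw [map_sub, mul_sub, pi_spec h12, h, sub_self, mul_zero])

theorem pi_del (z : chevE7.Idx → K) : pi K (del K z) = z := pi_ext h12 fun y => by rw [trace_del, kf_comm]

theorem pi_one : pi K 1 = 0 := pi_ext h12 fun y => by rw [one_mul, trace_del_zero, map_zero, mul_zero]

theorem pi_sub_one (X : Matrix D1 D1 K) : pi K (X - 1) = pi K X := by rw [map_sub, pi_one h12, sub_zero]

theorem pi_conj (g : Gh K) (X : Matrix D1 D1 K) : pi K (rho K g * X * rho K g⁻¹) = adM K g *ᵥ pi K X :=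
  pi_ext h12 fun y => by
    rw [← kf_adM g⁻¹, mulVec_inv, pi_spec h12, del_adM (two_ne h12), inv_inv, mul_assoc (rho K g), mul_assoc (rho K g),
      trace_mul_comm (rho K g), mul_assoc, mul_assoc, mul_assoc]

theorem pi_comm (y : chevE7.Idx → K) (X : Matrix D1 D1 K) : pi K (del K y * X - X * del K y) = br K y (pi K X) :=
  pi_ext h12 fun x => by
    rw [← kf_br h12, pi_spec h12, del_br, sub_mul, mul_sub, trace_sub, trace_sub, mul_assoc, trace_mul_comm (del K y),
      mul_assoc, mul_assoc]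

theorem pi_wt {X : Matrix D1 D1 K} {a : chevE7.Idx} (h : pi K X a ≠ 0) :
    ∃ i j, X i j ≠ 0 ∧ wv i = wv j + cv (ac a) := by
  have key : ∀ b : chevE7.Idx, (KM K *ᵥ pi K X) b ≠ 0 → ∃ i j, X i j ≠ 0 ∧ wv j = wv i + cv (ac b) := by
    intro b hb
    have h1 := pi_spec h12 X (Pi.single b 1)
    rw [kf_apply, single_one_dotProduct] at h1
    have h2 : ∑ i, (X * del K (Pi.single b 1)) i i ≠ 0 := fun e => mul_ne_zero h12 hb (h1.trans e)
    obtain ⟨i, -, hi⟩ := Finset.exists_ne_zero_of_sum_ne_zero h2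
    obtain ⟨j, h3, h4⟩ := exists_mid' hi
    obtain ⟨c, hc, e⟩ := del_wt h4
    have h5 : c = b := by
      by_contra h5
      exact hc (Pi.single_eq_of_ne h5 _)
    exact ⟨i, j, h3, h5 ▸ e⟩
  rcases a with i | r
  · by_contra hc
    refine h (congrFun (cartan_inj (two_ne h12) (y := fun j => pi K X (Sum.inl j)) fun m => ?_) i)
    rw [← KM_mulVec_inl]
    by_contra h1
    obtain ⟨i', j', h2, e⟩ := key _ h1
    rw [ac_inl, cv_zero, add_zero] at e
    exact hc ⟨i', j', h2, by rw [ac_inl, cv_zero, add_zero, e]⟩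
  · have hr : r.val < 126 := r.2
    have h1 : ng (ng r) = r := Fin.ext (by rw [ng_val, ng_val]; omega)
    obtain ⟨i, j, h2, e⟩ := key (Sum.inr (ng r)) (by rwa [KM_mulVec_inr, h1])
    refine ⟨i, j, h2, ?_⟩
    have h3 : cv (ac (Sum.inr (ng r))) = - cv (ac (Sum.inr r)) := rv_neg hr
    rw [e, h3, neg_add_cancel_right]

variable {β : E} {d : ℝ} {X : Matrix D1 D1 K}

theorem pi_Ge (h : X ∈ MGe K wc β d) : pi K X ∈ Ge K ac β d := fun a ha => by
  obtain ⟨i, j, h1, e⟩ := pi_wt h12 ha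
  have h2 : bf β (wv j) + d ≤ bf β (wv i) := h i j h1
  rw [e, map_add] at h2
  linarith

theorem pi_Gt (h : X ∈ MGt K wc β d) : pi K X ∈ Gt K ac β d := fun a ha => by
  obtain ⟨i, j, h1, e⟩ := pi_wt h12 ha
  have h2 : bf β (wv j) + d < bf β (wv i) := h i j h1
  rw [e, map_add] at h2
  linarith

end

theorem del_map {K' : Type u} [Field K'] (f : K →+* K') (z : chevE7.Idx → K) :
    (del K z).map f = del K' fun i => f (z i) := by
  ext a b
  rw [map_apply, R2.PX.del_apply, R2.PX.del_apply, Matrix.add_apply, Matrix.add_apply, Matrix.sum_apply, Matrix.sum_apply,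
    Matrix.sum_apply, Matrix.sum_apply, map_add, map_sum, map_sum]
  congr 1
  · refine Finset.sum_congr rfl fun i _ => ?_
    rw [Matrix.smul_apply, Matrix.smul_apply, smul_eq_mul, smul_eq_mul, map_mul]
    congr 1
    show f (diagonal _ a b) = diagonal _ a b
    rw [diagonal_apply, diagonal_apply, apply_ite f, map_intCast, map_zero]
  · refine Finset.sum_congr rfl fun s _ => ?_
    rw [Matrix.smul_apply, Matrix.smul_apply, smul_eq_mul, smul_eq_mul, map_mul]
    congr 1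
    exact map_intCast f _

/-! ### leading terms of unipotent elements -/

/-- a strictly triangular matrix which commutes with the root vectors is zero -/
theorem eq_zero_of_comm {β : E} {X : Matrix D1 D1 K} (hX : X ∈ MGt K wc β 0) (h : ∀ r < 126, X * NM K r = NM K r * X) :
    X = 0 := by
  have h1 : ∀ g : Gh K, X * rho K g = rho K g * X := fun g => mem_of_gens (S :=
    { carrier := {g | X * rho K g = rho K g * X}
      one_mem' := by
        show X * rho K 1 = rho K 1 * X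
        rw [map_one, mul_one, one_mul]
      mul_mem' := fun {a b} (ha : X * rho K a = rho K a * X) (hb : X * rho K b = rho K b * X) => by
        show X * rho K (a * b) = rho K (a * b) * X
        rw [map_mul, ← mul_assoc, ha, mul_assoc, hb, mul_assoc]
      inv_mem' := fun {a} (ha : X * rho K a = rho K a * X) => by
        show X * rho K a⁻¹ = rho K a⁻¹ * X
        have h2 : rho K a * rho K a⁻¹ = 1 := by rw [← map_mul, mul_inv_cancel, map_one]
        have h3 : rho K a⁻¹ * rho K a = 1 := by rw [← map_mul, inv_mul_cancel, map_one]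
        calc X * rho K a⁻¹ = rho K a⁻¹ * (rho K a * X) * rho K a⁻¹ := by rw [← mul_assoc, h3, one_mul]
          _ = _ := by rw [← ha, mul_assoc, mul_assoc, h2, mul_one] }) (fun r hr t => by
      show X * rho K (xs K r t) = rho K (xs K r t) * X
      rw [rho_xs' hr, mul_add, add_mul, mul_one, one_mul, mul_smul_comm, smul_mul_assoc, h r hr]) g
  have h2 := irrV (F := K) (LinearMap.ker (toLin' X)) (fun g w hw => by
    rw [LinearMap.mem_ker, toLin'_apply] at hw ⊢
    show X *ᵥ (rho K g *ᵥ w) = 0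
    rw [mulVec_mulVec, h1, ← mulVec_mulVec, hw, mulVec_zero]) (fun hb => by
    have : Nonempty D1 := ⟨topv⟩
    obtain ⟨j, hj⟩ := Finite.exists_max fun j : D1 => bf β (wv j)
    have h3 : (Pi.single j 1 : D1 → K) ∈ LinearMap.ker (toLin' X) := by
      rw [LinearMap.mem_ker, toLin'_apply, mulVec_single_one]
      funext i
      by_contra h4
      have h5 : bf β (wv j) + 0 < bf β (wv i) := hX i j h4
      have := hj i
      linarith
    rw [hb, Submodule.mem_bot] at h3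
    have h4 := congrFun h3 j
    rw [Pi.single_eq_same] at h4
    exact one_ne_zero h4)
  exact toLin'.injective ((LinearMap.ker_eq_top.1 h2).trans (map_zero _).symm)

/-- **LEADU** for `p ≥ 5` -/
theorem leadU (h12 : (12 : K) ≠ 0) {β : E} {d : ℝ} (hd : 0 < d) {y : Gh K} (hy : y ∈ Pl K β)
    (h : rho K y - 1 ∈ MGe K wc β d) : rho K y - 1 - del K (pi K (rho K y)) ∈ MGt K wc β d := by
  obtain ⟨N, hN⟩ : ∃ N, N = rho K y - 1 := ⟨_, rfl⟩
  obtain ⟨X, hX⟩ : ∃ X, X = N - del K (pi K (rho K y)) := ⟨_, rfl⟩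
  rw [← hN] at h ⊢
  rw [← hX]
  have hz : pi K (rho K y) ∈ Ge K ac β d := by
    rw [← pi_sub_one h12, ← hN]
    exact pi_Ge h12 h
  have hXd : X ∈ MGe K wc β d := hX ▸ sub_mem h (del_MGe.2 hz)
  have hπ : pi K X = 0 := by rw [hX, map_sub, pi_del h12, hN, pi_sub_one h12, sub_self]
  have h1 : ∀ e, ∀ x ∈ Ge K ac β e, X * del K x - del K x * X ∈ MGt K wc β (d + e) := by
    intro e x hx
    obtain ⟨w, hw⟩ : ∃ w, w = adM K y *ᵥ x - x := ⟨_, rfl⟩
    have e1 : del K w * rho K y = N * del K x - del K x * N := by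
      rw [hw, map_sub, sub_mul, ← R2.PX.del_equi (two_ne h12), hN]
      noncomm_ring
    have h2 : N * del K x - del K x * N ∈ MGe K wc β (d + e) :=
      sub_mem (MGe_mul h (del_MGe.2 hx)) (add_comm e d ▸ MGe_mul (del_MGe.2 hx) h)
    have h3 : del K w ∈ MGe K wc β (d + e) := by
      have h4 := MGe_mul h2 (Pl_MGe wrep_V (inv_mem hy))
      rwa [← e1, mul_assoc, ← map_mul, mul_inv_cancel, map_one, mul_one, add_zero] at h4
    have h4 : del K w * N ∈ MGt K wc β (d + e) := MGe_le_MGt (by linarith) (MGe_mul h3 h)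
    have e2 : X * del K x - del K x * X = del K (w - br K (pi K (rho K y)) x) + del K w * N := by
      have e3 : del K w * N = N * del K x - del K x * N - del K w := by rw [← e1, hN, mul_sub, mul_one]
      rw [e3, map_sub, del_br, hX]
      noncomm_ring
    have h5 : w - br K (pi K (rho K y)) x ∈ Gt K ac β (d + e) := by
      have h6 := congrArg (pi K) e2
      rw [← neg_sub, map_neg, pi_comm h12, hπ, map_zero, neg_zero, map_add, pi_del h12] at h6
      rw [eq_neg_of_add_eq_zero_left h6.symm]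
      exact neg_mem (pi_Gt h12 h4)
    rw [e2]
    exact add_mem (del_MGt.2 h5) h4
  obtain ⟨Y, hY⟩ : ∃ Y : Matrix D1 D1 K, Kf.vec Y = lv ec β d (Kf.vec X) :=
    ⟨Matrix.of fun i j => lv ec β d (Kf.vec X) (i, j), rfl⟩
  have h2 : X - Y ∈ MGt K wc β d := by
    refine vec_Gt.1 ?_
    have h3 := sub_lv_mem (vec_Ge.2 hXd)
    rwa [← hY] at h3
  have h3 : Y ∈ MGe K wc β d := vec_Ge.1 (hY ▸ Lv_le_Ge (lv_mem _))
  have h4 : Y ∈ MGe K wc (-β) (-d) := vec_Ge.1 (hY ▸ Lv_le_Ge (mem_Lv_neg.2 (lv_mem _)))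
  have h5 : Y = 0 := eq_zero_of_comm (MGe_le_MGt hd h3) fun r hr => by
    have h6 : (Pi.single (Sum.inr ⟨r, hr⟩) 1 : chevE7.Idx → K) ∈ Lv K ac β (bf β (rv r)) := fun a ha => by
      have h7 : a = Sum.inr ⟨r, hr⟩ := by
        by_contra h7
        exact ha (Pi.single_eq_of_ne h7 _)
      rw [h7]
      rfl
    have h7 := h1 _ _ (Lv_le_Ge h6)
    have h8 := del_MGe.2 (Lv_le_Ge h6)
    have h9 := del_MGe.2 (Lv_le_Ge (mem_Lv_neg.2 h6))
    rw [R2.PX.del_inr] at h7 h8 h9
    have h10 := sub_mem h7 (sub_mem (MGt_mul h2 h8) (add_comm (bf β (rv r)) d ▸ mul_MGt h8 h2))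
    have h11 := sub_mem (MGe_mul h4 h9) (add_comm (-bf β (rv r)) (-d) ▸ MGe_mul h9 h4)
    have e : X * NM K r - NM K r * X - ((X - Y) * NM K r - NM K r * (X - Y)) = Y * NM K r - NM K r * Y := by noncomm_ring
    rw [← sub_eq_zero]
    ext i j
    by_contra h12'
    have h13 := (e ▸ h10 : Y * NM K r - NM K r * Y ∈ MGt K wc β (d + bf β (rv r))) i j h12'
    have h14 := h11 i j h12'
    rw [map_neg, LinearMap.neg_apply, LinearMap.neg_apply] at h14
    linarith
  rwa [h5, sub_zero] at h2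

/-- every leading term occurs (all characteristics) -/
theorem exists_leadU {β : E} {d : ℝ} (hd : 0 < d) {z : chevE7.Idx → K} (hz : z ∈ Ge K ac β d) :
    ∃ y ∈ Ul K β, rho K y - 1 - del K z ∈ MGt K wc β d := by
  have h1 : z ∈ Ge K ac β d ∧ ∃ y ∈ Ul K β, rho K y - 1 - del K z ∈ MGt K wc β d := by
    rw [pi_eq_sum_univ' z]
    refine Finset.sum_induction _ (fun z => z ∈ Ge K ac β d ∧ ∃ y ∈ Ul K β, rho K y - 1 - del K z ∈ MGt K wc β d) ?_ ?_ ?_
    · rintro a b ⟨ha, x, hx, hx'⟩ ⟨hb, y, hy, hy'⟩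
      refine ⟨add_mem ha hb, x * y, mul_mem hx hy, ?_⟩
      have h2 := add_mem (MGt_le_MGe hx') (del_MGe.2 ha)
      have h3 := add_mem (MGt_le_MGe hy') (del_MGe.2 hb)
      rw [sub_add_cancel] at h2 h3
      have e : rho K (x * y) - 1 - del K (a + b) =
          (rho K x - 1) * (rho K y - 1) + (rho K x - 1 - del K a) + (rho K y - 1 - del K b) := by
        rw [map_mul, map_add]
        noncomm_ring
      rw [e]
      exact add_mem (add_mem (MGe_le_MGt (by linarith) (MGe_mul h2 h3)) hx') hy'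
    · exact ⟨zero_mem _, 1, one_mem _, by rw [map_one, map_zero, sub_self, sub_zero]; exact zero_mem _⟩
    · intro a _
      by_cases h0 : z a = 0
      · rw [h0, zero_smul]
        exact ⟨zero_mem _, 1, one_mem _, by rw [map_one, map_zero, sub_self, sub_zero]; exact zero_mem _⟩
      have h2 := hz a h0
      refine ⟨Submodule.smul_mem _ _ fun b hb => ?_, ?_⟩
      · have h3 : b = a := by
          by_contra h3
          exact hb (Pi.single_eq_of_ne h3 _)
        rwa [h3]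
      rcases a with i | r
      · rw [ac_inl, cv_zero, map_zero] at h2
        exact absurd hd (not_lt.2 h2)
      · refine ⟨xs K r (z (Sum.inr r)), xs_mem_Ul r.2 (hd.trans_le h2) _, ?_⟩
        rw [rho_xs' r.2, map_smul, R2.PX.del_inr, add_sub_cancel_left, sub_self]
        exact zero_mem _
  exact h1.2

/-! ### the Springer map -/

section
variable (h12 : (12 : K) ≠ 0) {β : E}
include h12

theorem pi_Ul {y : Gh K} (hy : y ∈ Ul K β) : pi K (rho K y) ∈ Gt K ac β 0 := by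
  rw [← pi_sub_one h12]
  exact pi_Gt h12 (Ul_MGt hy)

theorem exists_eps {z : chevE7.Idx → K} (hz : z ∈ Gt K ac β 0) : ∃ y ∈ Ul K β, pi K (rho K y) = z := by
  obtain ⟨y, hy⟩ := lev_desc ac β (fun y : ↥(Ul K β) => z - pi K (rho K y)) 1 fun y d h1 h2 => by
    have hd : 0 < d := by
      by_contra hd
      exact h2 (lv_of_Gt (Gt_mono (not_lt.1 hd) (sub_mem hz (pi_Ul h12 y.2))))
    obtain ⟨x, hx, h3⟩ := exists_leadU hd h1
    refine ⟨⟨y * x, mul_mem y.2 hx⟩, ?_⟩
    have h4 := mul_MGt (Pl_MGe wrep_V y.2.1) h3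
    have h5 := MGt_mul (Ul_MGt y.2) (del_MGe.2 h1)
    rw [zero_add] at h4 h5
    have e : rho K (y * x) = rho K y + del K (z - pi K (rho K y)) +
        (rho K y * (rho K x - 1 - del K (z - pi K (rho K y))) + (rho K y - 1) * del K (z - pi K (rho K y))) := by
      rw [map_mul]
      noncomm_ring
    show z - pi K (rho K (y * x)) ∈ _
    rw [e, map_add, map_add, pi_del h12, add_sub_cancel, sub_add_cancel_left]
    exact neg_mem (pi_Gt h12 (add_mem h4 h5))
  exact ⟨y, y.2, (sub_eq_zero.1 hy).symm⟩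

theorem eps_inj {y y' : Gh K} (hy : y ∈ Ul K β) (hy' : y' ∈ Ul K β) (h : pi K (rho K y) = pi K (rho K y')) : y = y' := by
  have hu : y⁻¹ * y' ∈ Ul K β := mul_mem (inv_mem hy) hy'
  have h1 : rho K (y⁻¹ * y') - 1 = 0 := M_eq_zero_of_step (c := wc) (β := β) fun d hd => by
    by_cases h0 : 0 < d
    · have h2 := leadU h12 h0 hu.1 hd
      have h3 := MGt_mul (Ul_MGt hy) hd
      rw [zero_add] at h3
      have e : rho K y' - rho K y = (rho K (y⁻¹ * y') - 1) + (rho K y - 1) * (rho K (y⁻¹ * y') - 1) := by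
        have e1 : rho K y' = rho K y * rho K (y⁻¹ * y') := by rw [← map_mul, mul_inv_cancel_left]
        rw [e1]
        noncomm_ring
      have h4 := congrArg (pi K) e
      rw [map_sub, h, sub_self, map_add, pi_sub_one h12] at h4
      have h5 : pi K (rho K (y⁻¹ * y')) ∈ Gt K ac β d := by
        rw [eq_neg_of_add_eq_zero_left h4.symm]
        exact neg_mem (pi_Gt h12 h3)
      have h6 := add_mem h2 (del_MGt.2 h5)
      rwa [sub_add_cancel] at h6
    · exact MGt_mono (not_lt.1 h0) (Ul_MGt hu)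
  exact inv_mul_eq_one.1 (rho_injective ((sub_eq_zero.1 h1).trans (map_one _).symm))

theorem eps_fix {y : Gh K} (hy : y ∈ Ul K β) {x : chevE7.Idx → K} (h : Cm (pi K (rho K y)) x) : adM K y *ᵥ x = x := by
  have h1 : pi K (del K (x - adM K y *ᵥ x) * rho K y) = 0 := by
    rw [map_sub, sub_mul, ← R2.PX.del_equi (two_ne h12), pi_comm h12, br_anti, br_eq_zero.2 h, neg_zero]
  refine (sub_eq_zero.1 (eq_zero_of_step (c := ac) (β := β) fun d hd => ?_)).symm
  have h2 := mul_MGt (del_MGe.2 hd) (Ul_MGt hy)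
  rw [add_zero] at h2
  have h3 := pi_Gt h12 h2
  rw [mul_sub, mul_one, map_sub, h1, pi_del h12, zero_sub] at h3
  exact neg_mem_iff.1 h3

/-- **EPS** -/
theorem eps : EPS K := by
  intro β z hz h0
  obtain ⟨y, hy, e⟩ := exists_eps h12 hz
  refine ⟨y, hy, fun h1 => h0 (by rw [← e, h1, map_one, pi_one h12]), fun x hx => eps_fix h12 hy (e ▸ hx), fun g hg h1 => ?_⟩
  refine mul_inv_eq_iff_eq_mul.1 (eps_inj h12 (Ul_conj hg hy) hy ?_)
  rw [map_mul (rho K), map_mul (rho K), pi_conj h12, e, h1]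

end

/-- the centraliser of an optimal set has no negative levels -/
theorem j1_gen [Infinite K] (hE : EPS K) {X : Set (chevE7.Idx → K)} {β : E} (ho : Opt bf (St ac (adM K) X) 1 β)
    (hβ : Dom β) {y : chevE7.Idx → K} (hy : y ∈ Gt K ac (-β) 0) (h : ∀ x ∈ X, Cm y x) : y = 0 := by
  by_contra h0
  obtain ⟨g, hg, h1, h2, -⟩ := hE (-β) y hy h0
  have h3 := wrep_L.opt_mem (exists_ne_of_opt ho) ho hβ (g' := g⁻¹) (by
    rintro _ ⟨i, rfl, v, hv, hi⟩
    rw [inv_inv, h2 v (h v hv)] at hi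
    exact ho.1.2 _ ⟨i, rfl, v, hv, by rwa [inv_one, map_one, one_mulVec]⟩)
  rw [inv_one, one_mul, inv_mem_iff] at h3
  exact h1 (eq_one_of_opp hg (by rwa [neg_neg]))

end Cfsg.Agent.E7P.Br
end

-- part: E7P/Br/Api
section
prune_inst 0x21003c4021e2020000008092c300186088000400000b8c0014a105020947d8200942a640fa100c03408280844800000811100000420000000a080000013c05811000420023400008460098002080410000008040000000000000000000041000200400000
set_option linter.all false
open scoped Cfsg.Agent.FastGrp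

/-!
# S5932, task BR: the leading terms of `U` (helper8)

* `Dm_split`, `Dm_filt` : the operators `D_m` on a filtered module;
* `Sit.br_F`, `br_Ft`, `br_gr` : filtrations in the frame of `g0` (`S.Fg d = S.br_F ac (adM k) d`);
* `Sit.br_E m = π (D_m on V)`, `Sit.br_e j` : the leading terms; `br_opt`; `Sit.j1 : S.J1`, `br_j1D`.
-/

set_option autoImplicit false
set_option maxRecDepth 100000

namespace Cfsg.Agent.E7P

open Cfsg Cfsg.Lie Matrix Module
open Cfsg.Agent.H943.E7V.Block (D1 rho)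
open Cfsg.Agent.R2.T1 Cfsg.Agent.E7P.Kf Cfsg.Agent.E7P.Br
open Cfsg.Agent.R2.PX (del)
open Cfsg.Agent.H943.SL2Rel (u w h)
open Cfsg.Agent.R2.H28.SL2 (Dm)
open Cfsg.Agent.ChevalleyStructure.RootVec (rt)

universe u v

namespace Br

/-! ### the operators `D_m` -/

theorem dg_top_sub {p m j : ℕ} (hp : 1 < p) (h1 : p ^ j ≤ m) (h2 : m < p ^ (j + 1)) (i : ℕ) :
    m / p ^ i % p = (m - p ^ j) / p ^ i % p + if i = j then 1 else 0 := by
  obtain ⟨n, rfl⟩ := Nat.exists_eq_add_of_le h1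
  rw [Nat.add_sub_cancel_left]
  have hp0 : 0 < p := by omega
  rcases lt_trichotomy i j with h | rfl | h
  · obtain ⟨d, rfl⟩ := Nat.exists_eq_add_of_lt h
    rw [if_neg h.ne, add_zero, show p ^ (i + d + 1) + n = n + p ^ d * p * p ^ i by ring,
      Nat.add_mul_div_right _ _ (Nat.pow_pos hp0), Nat.add_mul_mod_self_right]
  · have h3 : (p ^ i + n) / p ^ i < p := Nat.div_lt_of_lt_mul (by rwa [pow_succ] at h2)
    rw [if_pos rfl, Nat.mod_eq_of_lt h3]
    rw [Nat.add_div_left _ (Nat.pow_pos hp0)] at h3 ⊢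
    rw [Nat.mod_eq_of_lt (by omega)]
  · have h3 : p ^ (j + 1) ≤ p ^ i := Nat.pow_le_pow_right hp0 h
    rw [if_neg h.ne', Nat.div_eq_of_lt (by omega), Nat.div_eq_of_lt (by omega), add_zero]

section
variable {k : Type*} [Field k] {F : Type*} [Field F] [Fintype F] (ι : F →+* k) {V : Type*} [AddCommGroup V] [Module k V]
  (ρ : Representation k (SpecialLinearGroup (Fin 2) F) V) (p : ℕ) [Fact p.Prime] [CharP k p] [CharP F p] {a : ℕ}

theorem Dm_split (hF : Fintype.card F = p ^ a) {m : ℕ} (h1 : 1 ≤ m) (h2 : m ≤ Fintype.card F - 1) :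
    ∃ j < a, m = p ^ j ∨ ∃ n, 1 ≤ n ∧ n < m ∧ (∀ i, m / p ^ i % p = n / p ^ i % p + if i = j then 1 else 0) ∧
      ∃ c : k, ∀ x, Dm ι ρ m x = c • Dm ι ρ (p ^ j) (Dm ι ρ n x) := by
  classical
  have hp : 1 < p := (Fact.out : p.Prime).one_lt
  have h3 : p ^ Nat.log p m ≤ m := Nat.pow_log_le_self p (by omega)
  have h4 : m < p ^ (Nat.log p m + 1) := Nat.lt_pow_succ_log_self hp m
  have h5 : 0 < p ^ Nat.log p m := Nat.pow_pos (by omega)
  have h6 : 0 < p ^ a := Nat.pow_pos (by omega)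
  refine ⟨Nat.log p m, (Nat.pow_lt_pow_iff_right hp).1 (by omega), ?_⟩
  rcases h3.eq_or_lt with h7 | h7
  · exact Or.inl h7.symm
  refine Or.inr ⟨m - p ^ Nat.log p m, by omega, by omega, dg_top_sub hp h3 h4, (m.choose (p ^ Nat.log p m) : k)⁻¹, fun x => ?_⟩
  have h8 : (m.choose (p ^ Nat.log p m) : k) ≠ 0 := (R2.H28.SL2.choose_ne_iff p).2 fun i => by
    have h9 := R2.H28.SL2.dg_single hp hp (c := 1) (Nat.log p m) i
    rw [one_mul] at h9
    rw [h9, dg_top_sub hp h3 h4 i]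
    omega
  rw [R2.H28.SL2.Dm_mul' ι ρ p hF h5 (by omega) (by omega), Nat.add_sub_cancel' h3, inv_smul_smul₀ h8]

/-- `D_m` raises a filtration by the weighted digit sum -/
theorem Dm_filt (hF : Fintype.card F = p ^ a) (Fl : ℝ → Submodule k V) (wt : ℕ → ℝ)
    (h : ∀ j < a, ∀ d, ∀ x ∈ Fl d, Dm ι ρ (p ^ j) x ∈ Fl (d + wt j)) {m : ℕ} (h1 : 1 ≤ m) (h2 : m ≤ Fintype.card F - 1)
    {d : ℝ} {x : V} (hx : x ∈ Fl d) : Dm ι ρ m x ∈ Fl (d + ∑ j ∈ Finset.range a, (m / p ^ j % p : ℕ) * wt j) := by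
  have hp : 1 < p := (Fact.out : p.Prime).one_lt
  induction m using Nat.strong_induction_on with
  | _ m ih =>
    obtain ⟨j, hj, rfl | ⟨n, h3, h4, h5, c, h6⟩⟩ := Dm_split ι ρ p hF h1 h2
    · have h3 : ∀ i, p ^ j / p ^ i % p = if i = j then 1 else 0 := fun i => by
        have h9 := R2.H28.SL2.dg_single hp hp (c := 1) j i
        rwa [one_mul] at h9
      rw [Finset.sum_eq_single j, h3, if_pos rfl, Nat.cast_one, one_mul]
      · exact h j hj d x hx
      · intro i _ hi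
        rw [h3, if_neg hi, Nat.cast_zero, zero_mul]
      · intro hj'
        exact absurd (Finset.mem_range.2 hj) hj'
    · have h7 : ∑ i ∈ Finset.range a, ((m / p ^ i % p : ℕ) : ℝ) * wt i =
          ∑ i ∈ Finset.range a, ((n / p ^ i % p : ℕ) : ℝ) * wt i + wt j := by
        have h8 : ∀ i ∈ Finset.range a, ((m / p ^ i % p : ℕ) : ℝ) * wt i =
            ((n / p ^ i % p : ℕ) : ℝ) * wt i + if i = j then wt i else 0 := fun i _ => by
          rw [h5 i]
          split_ifs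
          · rw [Nat.cast_add, Nat.cast_one, add_mul, one_mul]
          · rw [add_zero, add_zero]
        rw [Finset.sum_congr rfl h8, Finset.sum_add_distrib, Finset.sum_ite_eq', if_pos (Finset.mem_range.2 hj)]
      rw [h6, h7, ← add_assoc]
      exact Submodule.smul_mem _ _ (h j hj _ _ (ih n h4 h3 (by omega)))

theorem Dm_sub {m : ℕ} (h1 : 1 ≤ m) (x : V) :
    Dm ι ρ m x = -∑ t : F, ι t ^ (Fintype.card F - 1 - m) • (ρ (u t) x - x) := by
  classical
  have hq := R2.H28.SL2.one_lt (F := F)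
  have h2 : ∑ t : F, ι t ^ (Fintype.card F - 1 - m) • x = 0 := by
    rw [← Finset.sum_smul, R2.H28.SL2.psum ι (by omega), if_neg (by omega), zero_smul]
  simp only [smul_sub, Finset.sum_sub_distrib]
  rw [h2, sub_zero, R2.H28.SL2.Dm_apply]

omit [Field F] [CharP F p] in
theorem sum_pow {W : Type*} [AddCommMonoid W] (hF : Fintype.card F = p ^ a) (f : ℕ → W)
    (hf : ∀ m, 1 ≤ m → m ≤ Fintype.card F - 1 → (∀ j < a, m ≠ p ^ j) → f m = 0) :
    ∑ m ∈ Finset.Icc 1 (Fintype.card F - 1), f m = ∑ j ∈ Finset.range a, f (p ^ j) := by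
  have hp : 1 < p := (Fact.out : p.Prime).one_lt
  refine (Finset.sum_of_injOn (fun j => p ^ j) (fun i _ j _ e => Nat.pow_right_injective hp e) (fun j hj => ?_)
    (fun m hm hm' => ?_) fun _ _ => rfl).symm
  · have h1 : p ^ j < p ^ a := Nat.pow_lt_pow_right hp (Finset.mem_range.1 hj)
    have h2 : 0 < p ^ j := Nat.pow_pos (by omega)
    exact Finset.mem_Icc.2 ⟨h2, show p ^ j ≤ _ by omega⟩
  · exact hf m (Finset.mem_Icc.1 hm).1 (Finset.mem_Icc.1 hm).2 fun j hj e =>
      hm' ⟨j, Finset.mem_coe.2 (Finset.mem_range.2 hj), e.symm⟩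

end

end Br

namespace Sit

variable {p a b : ℕ} {F : Type u} {K : Type v} {k : Type u} [Field F] [Fintype F] [Field K] [Fintype K] [Field k]
  (S : Sit p a b F K k)

include S in
theorem br_inf : Infinite k := by
  have := S.closed
  infer_instance

include S in
theorem br_h12 (h5 : 5 ≤ p) : (12 : k) ≠ 0 := by
  have := S.chark
  exact twelve_ne S.prime h5

include S in
/-- **EPS** -/
theorem eps (h5 : 5 ≤ p) : EPS k := Br.eps (S.br_h12 h5)

include S in
theorem br_pow {j : ℕ} (hj : j < a) : 1 ≤ p ^ j ∧ p ^ j ≤ Fintype.card K - 1 := by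
  have h1 : p ^ j < p ^ a := Nat.pow_lt_pow_right S.prime.one_lt hj
  have h2 := S.cardK
  exact ⟨Nat.pow_pos S.prime.pos, by omega⟩

theorem br_RL (x : SpecialLinearGroup (Fin 2) K) (y : chevE7.Idx → k) : S.RL x y = adM k (S.ψ x) *ᵥ y := L_mulVec _ _

theorem br_R (x : SpecialLinearGroup (Fin 2) K) (y : D1 → k) : S.R x y = rho k (S.ψ x) *ᵥ y := rfl

/-! ### filtrations -/

section
variable {I : Type} [Fintype I] [DecidableEq I] (c : I → Fin 7 → ℤ) (R : Gh k →* Matrix I I k)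

/-- level `≥ d` -/
noncomputable def br_F (d : ℝ) : Submodule k (I → k) := (Ge k c S.β d).comap (toLin' (R S.g0⁻¹))

/-- level `> d` -/
noncomputable def br_Ft (d : ℝ) : Submodule k (I → k) := (Gt k c S.β d).comap (toLin' (R S.g0⁻¹))

/-- the component of level `d`, in the frame of `g0` -/
noncomputable def br_gr (d : ℝ) : (I → k) →ₗ[k] (I → k) := lv c S.β d ∘ₗ toLin' (R S.g0⁻¹)

variable {c R} {d d' : ℝ} {x y : I → k}

theorem br_mem_F : x ∈ S.br_F c R d ↔ R S.g0⁻¹ *ᵥ x ∈ Ge k c S.β d := Iff.rfl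

theorem br_mem_Ft : x ∈ S.br_Ft c R d ↔ R S.g0⁻¹ *ᵥ x ∈ Gt k c S.β d := Iff.rfl

theorem br_gr_apply (d : ℝ) (x : I → k) : S.br_gr c R d x = lv c S.β d (R S.g0⁻¹ *ᵥ x) := rfl

theorem br_gr_mem (d : ℝ) (x : I → k) : S.br_gr c R d x ∈ Lv k c S.β d := lv_mem _

theorem br_Ft_le_F : S.br_Ft c R d ≤ S.br_F c R d := fun _ hx => Gt_le_Ge hx

theorem br_F_le_Ft (h : d < d') : S.br_F c R d' ≤ S.br_Ft c R d := fun _ hx => Ge_le_Gt h hx

theorem br_gr_of_Ft (hx : x ∈ S.br_Ft c R d) : S.br_gr c R d x = 0 := lv_of_Gt hx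

theorem br_Ft_of_gr (hx : x ∈ S.br_F c R d) (h : S.br_gr c R d x = 0) : x ∈ S.br_Ft c R d := mem_Gt_of_lv hx h

theorem br_gr_eq (h : x - y ∈ S.br_Ft c R d) : S.br_gr c R d x = S.br_gr c R d y := by
  rw [← sub_eq_zero, ← map_sub, S.br_gr_of_Ft h]

theorem br_F_of_step (h : ∀ e < d, x ∈ S.br_F c R e → x ∈ S.br_Ft c R e) : x ∈ S.br_F c R d := mem_Ge_of_step h

/-- an operator which raises the levels by more than `d` raises them by a fixed `d' > d` -/
theorem br_gap (c : I → Fin 7 → ℤ) (R : Gh k →* Matrix I I k) (d : ℝ) : ∃ d', d < d' ∧ ∀ T : (I → k) →ₗ[k] (I → k),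
    (∀ e, ∀ x ∈ S.br_F c R e, T x ∈ S.br_Ft c R (e + d)) → ∀ e, ∀ x ∈ S.br_F c R e, T x ∈ S.br_F c R (e + d') := by
  obtain ⟨d', h1, h2⟩ := exists_gapM (K := k) c S.β d
  refine ⟨d', h1, fun T hT e x hx => ?_⟩
  have h3 : ∀ y, (R S.g0⁻¹ * LinearMap.toMatrix' T * R S.g0) *ᵥ y = R S.g0⁻¹ *ᵥ T (R S.g0 *ᵥ y) := fun y => by
    rw [← mulVec_mulVec, ← mulVec_mulVec, LinearMap.toMatrix'_mulVec]
  have h4 := MGe_mulVec (h2 (MGt_of_mulVec (X := R S.g0⁻¹ * LinearMap.toMatrix' T * R S.g0) fun e y hy => by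
    rw [h3]
    exact hT e _ (by rw [br_mem_F, mulVec_inv]; exact Lv_le_Ge hy))) hx
  rwa [h3, toLin'_apply, mulVec_inv'] at h4

end

theorem br_Fg (d : ℝ) : S.Fg d = S.br_F ac (adM k) d := rfl

theorem br_FV (d : ℝ) : S.FV d = S.br_F wc (rho k) d := rfl

/-- level `> d` in the Lie algebra -/
noncomputable abbrev Fgt (d : ℝ) : Submodule k (chevE7.Idx → k) := S.br_Ft ac (adM k) d

/-- the component of level `d` in the Lie algebra -/
noncomputable abbrev grg (d : ℝ) : (chevE7.Idx → k) →ₗ[k] (chevE7.Idx → k) := S.br_gr ac (adM k) d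

section
variable {d d' : ℝ} {x y : chevE7.Idx → k} {v : D1 → k}

theorem br_br_F (h2 : (2 : k) ≠ 0) (hx : x ∈ S.Fg d) (hy : y ∈ S.Fg d') : br k x y ∈ S.Fg (d + d') := by
  rw [br_Fg, br_mem_F, adM_br h2]
  exact br_Ge hx hy

theorem br_grg_br (h2 : (2 : k) ≠ 0) (hx : x ∈ S.Fg d) (hy : y ∈ S.Fg d') :
    S.grg (d + d') (br k x y) = br k (S.grg d x) (S.grg d' y) := by
  rw [br_gr_apply, adM_br h2]
  exact lv_br hx hy

end

/-! ### the elements of `U` -/

/-- `u t` in the frame of `g0` -/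
noncomputable def br_u (t : K) : Gh k := S.g0⁻¹ * S.ψ (u t) * S.g0

theorem br_u_mem (t : K) : S.br_u t ∈ Ul k S.β := S.mem_Ru.1 (S.U_le_Ru ⟨t, rfl⟩)

theorem br_u_MGe (t : K) : rho k (S.br_u t) - 1 ∈ MGe k wc S.β S.nn := S.u_level t

theorem br_u_mulVec {I : Type} [Fintype I] [DecidableEq I] (R : Gh k →* Matrix I I k) (t : K) (x : I → k) :
    R (S.br_u t) *ᵥ (R S.g0⁻¹ *ᵥ x) = R S.g0⁻¹ *ᵥ (R (S.ψ (u t)) *ᵥ x) := by
  rw [← mulVec_mul, ← mulVec_mul, br_u, mul_inv_cancel_right]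

/-- `U` raises the levels of `V` by `nn` (all `p`) -/
theorem br_u_V (t : K) {d : ℝ} {v : D1 → k} (hv : v ∈ S.FV d) : rho k (S.ψ (u t)) *ᵥ v - v ∈ S.FV (d + S.nn) := by
  have h1 := MGe_mulVec (S.br_u_MGe t) hv
  rwa [toLin'_apply, sub_mulVec, one_mulVec, br_u_mulVec, ← mulVec_sub] at h1

/-- `D_m` on `V`, as a matrix -/
noncomputable def br_DV (m : ℕ) : Matrix D1 D1 k := -∑ t : K, S.ι t ^ (Fintype.card K - 1 - m) • rho k (S.ψ (u t))

theorem br_DV_mulVec (m : ℕ) (v : D1 → k) : S.br_DV m *ᵥ v = Dm S.ι S.R m v := by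
  classical
  rw [R2.H28.SL2.Dm_apply, br_DV, neg_mulVec, sum_mulVec]
  exact congrArg _ (Finset.sum_congr rfl fun t _ => smul_mulVec _ _ _)

theorem br_D_V {m : ℕ} (h1 : 1 ≤ m) {d : ℝ} {v : D1 → k} (hv : v ∈ S.FV d) : Dm S.ι S.R m v ∈ S.FV (d + S.nn) := by
  rw [Dm_sub S.ι S.R h1]
  exact neg_mem (sum_mem fun t _ => Submodule.smul_mem _ _ (S.br_u_V t hv))

theorem br_D_V_two {m : ℕ} (h1 : 1 ≤ m) (h2 : m ≤ Fintype.card K - 1) (h3 : ∀ j < a, m ≠ p ^ j) {d : ℝ} {v : D1 → k}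
    (hv : v ∈ S.FV d) : Dm S.ι S.R m v ∈ S.FV (d + 2 * S.nn) := by
  have := S.chark
  have := S.charK
  have : Fact p.Prime := ⟨S.prime⟩
  obtain ⟨j, hj, h4 | ⟨n, h4, -, -, c, h5⟩⟩ := Dm_split S.ι S.R p S.cardK h1 h2
  · exact absurd h4 (h3 j hj)
  · rw [h5, two_mul, ← add_assoc]
    exact Submodule.smul_mem _ _ (S.br_D_V (S.br_pow hj).1 (S.br_D_V h4 hv))

theorem br_rho_u (t : K) : rho k (S.ψ (u t)) = 1 + ∑ m ∈ Finset.Icc 1 (Fintype.card K - 1), S.ι t ^ m • S.br_DV m := by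
  classical
  have := S.chark
  have := S.charK
  have : Fact p.Prime := ⟨S.prime⟩
  refine toLin'.injective (LinearMap.ext fun v => ?_)
  rw [toLin'_apply, toLin'_apply, ← br_R, R2.H28.SL2.u_eq S.ι S.R p, add_mulVec, one_mulVec, sum_mulVec]
  exact congrArg _ (Finset.sum_congr rfl fun m _ => by rw [smul_mulVec, br_DV_mulVec])

theorem br_MGe_of {X : Matrix D1 D1 k} {d : ℝ} (h : ∀ e, ∀ v ∈ S.FV e, X *ᵥ v ∈ S.FV (e + d)) :
    rho k S.g0⁻¹ * X * rho k S.g0⁻¹⁻¹ ∈ MGe k wc S.β d := MGe_of_mulVec fun e v hv => by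
  rw [inv_inv, ← mulVec_mulVec, ← mulVec_mulVec]
  exact h e _ (by rw [br_FV, br_mem_F, mulVec_inv]; exact Lv_le_Ge hv)

/-- the projection of `u t` -/
noncomputable def br_z (t : K) : chevE7.Idx → k := pi k (rho k (S.ψ (u t)))

/-- the projection of `D_m` -/
noncomputable def br_E (m : ℕ) : chevE7.Idx → k := pi k (S.br_DV m)

/-- the leading term of `u t` -/
noncomputable def br_et (t : K) : chevE7.Idx → k := S.grg S.nn (S.br_z t)

/-- the leading term of `D_{p ^ j}` -/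
noncomputable def br_e (j : ℕ) : chevE7.Idx → k := S.grg S.nn (S.br_E (p ^ j))

theorem br_et_mem (t : K) : S.br_et t ∈ Lv k ac S.β S.nn := lv_mem _

theorem br_E_eq (m : ℕ) : S.br_E m = -∑ t : K, S.ι t ^ (Fintype.card K - 1 - m) • S.br_z t := by
  rw [br_E, br_DV, map_neg, map_sum]
  exact congrArg _ (Finset.sum_congr rfl fun t _ => map_smul _ _ _)

section
variable (h5 : 5 ≤ p)
include h5

theorem br_pi_F {X : Matrix D1 D1 k} {d : ℝ} (h : ∀ e, ∀ v ∈ S.FV e, X *ᵥ v ∈ S.FV (e + d)) : pi k X ∈ S.Fg d := by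
  rw [br_Fg, br_mem_F, ← pi_conj (S.br_h12 h5)]
  exact pi_Ge (S.br_h12 h5) (S.br_MGe_of h)

theorem br_z_eq (t : K) : S.br_z t = ∑ m ∈ Finset.Icc 1 (Fintype.card K - 1), S.ι t ^ m • S.br_E m := by
  rw [br_z, br_rho_u, map_add, pi_one (S.br_h12 h5), zero_add, map_sum]
  exact Finset.sum_congr rfl fun m _ => map_smul _ _ _

theorem br_z_conj (t : K) : adM k S.g0⁻¹ *ᵥ S.br_z t = pi k (rho k (S.br_u t)) := by
  rw [br_z, ← pi_conj (S.br_h12 h5), ← map_mul, ← map_mul, inv_inv, br_u]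

theorem br_z_mem (t : K) : S.br_z t ∈ S.Fg S.nn := by
  rw [br_Fg, br_mem_F, S.br_z_conj h5, ← pi_sub_one (S.br_h12 h5)]
  exact pi_Ge (S.br_h12 h5) (S.br_u_MGe t)

theorem br_E_mem (m : ℕ) : S.br_E m ∈ S.Fg S.nn := by
  rw [br_E_eq]
  exact neg_mem (sum_mem fun t _ => Submodule.smul_mem _ _ (S.br_z_mem h5 t))

theorem br_E_two {m : ℕ} (h1 : 1 ≤ m) (h2 : m ≤ Fintype.card K - 1) (h3 : ∀ j < a, m ≠ p ^ j) :
    S.br_E m ∈ S.Fg (2 * S.nn) :=
  S.br_pi_F h5 fun e v hv => by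
    rw [br_DV_mulVec]
    exact S.br_D_V_two h1 h2 h3 hv

/-- `E_m` is fixed by `U` -/
theorem br_E_fix (m : ℕ) (t : K) : adM k (S.ψ (u t)) *ᵥ S.br_E m = S.br_E m := by
  rw [br_E_eq, mulVec_neg, mulVec_sum]
  refine congrArg _ (Finset.sum_congr rfl fun s _ => ?_)
  rw [mulVec_smul, br_z, ← pi_conj (S.br_h12 h5), ← map_mul, ← map_mul, ← map_inv, ← map_mul, ← map_mul,
    ← H943.SL2Rel.u_neg, ← H943.SL2Rel.u_add, ← H943.SL2Rel.u_add, add_neg_cancel_comm]

/-- `E_m` has weight `2 m` -/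
theorem br_E_wt {m : ℕ} (hm : m ≤ Fintype.card K - 1) (c : Kˣ) :
    adM k (S.ψ (h c)) *ᵥ S.br_E m = (S.ι c ^ m) ^ 2 • S.br_E m := by
  classical
  rw [br_E, ← pi_conj (S.br_h12 h5), ← map_smul]
  refine congrArg _ (toLin'.injective (LinearMap.ext fun v => ?_))
  rw [toLin'_apply, toLin'_apply, ← mulVec_mulVec, ← mulVec_mulVec, br_DV_mulVec, ← br_R, R2.H28.SL2.h_Dm S.ι S.R hm,
    br_R, mulVec_inv', smul_mulVec, br_DV_mulVec, ← pow_mul, mul_comm]

/-- the leading term of `u t` is additive in `t` -/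
theorem br_et_eq (t : K) : S.br_et t = ∑ j ∈ Finset.range a, S.ι t ^ p ^ j • S.br_e j := by
  have := S.chark
  have := S.charK
  have : Fact p.Prime := ⟨S.prime⟩
  rw [br_et, S.br_z_eq h5, map_sum, sum_pow p S.cardK]
  · exact Finset.sum_congr rfl fun j _ => map_smul _ _ _
  · intro m h1 h2 h3
    have h4 := S.nn_pos
    rw [map_smul, S.br_gr_of_Ft (S.br_F_le_Ft (by linarith) (S.br_E_two h5 h1 h2 h3)), smul_zero]

omit h5 in
theorem br_e_eq (j : ℕ) : S.br_e j = -∑ t : K, S.ι t ^ (Fintype.card K - 1 - p ^ j) • S.br_et t := by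
  rw [br_e, br_E_eq, map_neg, map_sum]
  exact congrArg _ (Finset.sum_congr rfl fun t _ => map_smul _ _ _)

theorem br_u_lead (t : K) : rho k (S.br_u t) - 1 - del k (adM k S.g0⁻¹ *ᵥ S.br_z t) ∈ MGt k wc S.β S.nn := by
  rw [S.br_z_conj h5]
  exact leadU (S.br_h12 h5) S.nn_pos (S.br_u_mem t).1 (S.br_u_MGe t)

theorem br_u_lead' (t : K) : rho k (S.br_u t) - 1 - del k (S.br_et t) ∈ MGt k wc S.β S.nn := by
  have h1 := add_mem (S.br_u_lead h5 t) (del_MGt.2 (sub_lv_mem (S.br_z_mem h5 t)))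
  rwa [map_sub, toLin'_apply, sub_add_sub_cancel] at h1

/-- the leading terms have the optimal pair `(1, β)` -/
theorem br_opt : Opt bf (St ac (adM k) (Set.range S.br_et)) 1 S.β := by
  have := S.br_inf
  have h1 := lead wrep_V.endo S.β_opt S.β_dom
  have h2 : ∀ t, lv ec S.β (bf S.β S.β) (eR k S.g0⁻¹ *ᵥ Kf.vec (rho k (S.ψ (u t)) - 1)) = Kf.vec (del k (S.br_et t)) := by
    intro t
    rw [eR_vec, inv_inv, ← lv_of_Lv (vec_del_Lv (S.br_et_mem t))]
    exact lv_eq_of_sub (vec_Gt.2 (S.br_u_lead' h5 t))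
  have h3 : (fun v => lv ec S.β (bf S.β S.β) (eR k S.g0⁻¹ *ᵥ v)) '' S.XU =
      (fun z => Kf.vec (del k z)) '' Set.range S.br_et := by
    ext v
    constructor
    · rintro ⟨_, ⟨t, rfl⟩, rfl⟩
      exact ⟨_, ⟨t, rfl⟩, (h2 t).symm⟩
    · rintro ⟨_, ⟨t, rfl⟩, rfl⟩
      exact ⟨_, ⟨t, rfl⟩, h2 t⟩
  rw [← St_del (two_ne (S.br_h12 h5)), ← h3]
  exact h1

theorem br_opt_e : Opt bf (St ac (adM k) {z | ∃ j < a, z = S.br_e j}) 1 S.β := by
  rw [← St_eq_of_span (X := Set.range S.br_et)]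
  · exact S.br_opt h5
  · rintro _ ⟨t, rfl⟩
    rw [S.br_et_eq h5]
    exact sum_mem fun j hj => Submodule.smul_mem _ _ (Submodule.subset_span ⟨j, Finset.mem_range.1 hj, rfl⟩)
  · rintro _ ⟨j, -, rfl⟩
    rw [S.br_e_eq]
    exact neg_mem (sum_mem fun t _ => Submodule.smul_mem _ _ (Submodule.subset_span ⟨t, rfl⟩))

/-- `I0` is not empty -/
theorem br_exists_e : ∃ j < a, S.br_e j ≠ 0 := by
  obtain ⟨_, ⟨j, hj, rfl⟩, h⟩ := exists_ne_of_opt (S.br_opt_e h5)
  exact ⟨j, hj, h⟩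

/-- the centraliser of the leading terms has no negative levels -/
theorem br_cent {y : chevE7.Idx → k} (hy : y ∈ Gt k ac (-S.β) 0) (h : ∀ j < a, S.br_e j ≠ 0 → br k (S.br_e j) y = 0) :
    y = 0 := by
  have := S.br_inf
  refine j1_gen (S.eps h5) (S.br_opt_e h5) S.β_dom hy ?_
  rintro _ ⟨j, hj, rfl⟩
  rw [← br_eq_zero]
  by_cases h0 : S.br_e j = 0
  · rw [h0, map_zero]
  · rw [br_anti, h j hj h0, neg_zero]

theorem br_cent_Lv {y : chevE7.Idx → k} {d : ℝ} (hd : d < 0) (hy : y ∈ Lv k ac S.β d)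
    (h : ∀ j < a, S.br_e j ≠ 0 → br k (S.br_e j) y = 0) : y = 0 :=
  S.br_cent h5 (Ge_le_Gt (neg_pos.2 hd) (Lv_le_Ge (mem_Lv_neg.2 hy))) h

theorem br_label (i : Fin 7) : S.β i ≤ S.nn := label_le (S.br_opt h5) S.β_dom i

/-! ### the action on the Lie algebra -/

variable {d : ℝ} {y : chevE7.Idx → k} {v : D1 → k}

theorem br_u_g (t : K) (hy : y ∈ S.Fg d) : adM k (S.ψ (u t)) *ᵥ y - y - br k (S.br_z t) y ∈ S.Fgt (d + S.nn) := by
  have h2 := two_ne (S.br_h12 h5)
  have h1 := adM_lead h2 (S.br_u_mem t).1 S.nn_pos (S.br_z_mem h5 t) (S.br_u_lead h5 t) hy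
  rwa [toLin'_apply, toLin'_apply, br_u_mulVec, ← adM_br h2, ← mulVec_sub, ← mulVec_sub] at h1

theorem br_u_g' (t : K) (hy : y ∈ S.Fg d) : adM k (S.ψ (u t)) *ᵥ y - y ∈ S.Fg (d + S.nn) := by
  have h1 := add_mem (S.br_Ft_le_F (S.br_u_g h5 t hy))
    (add_comm S.nn d ▸ S.br_br_F (two_ne (S.br_h12 h5)) (S.br_z_mem h5 t) hy)
  rwa [sub_add_cancel] at h1

theorem br_D_g {m : ℕ} (h1 : 1 ≤ m) (hy : y ∈ S.Fg d) : Dm S.ι S.RL m y - br k (S.br_E m) y ∈ S.Fgt (d + S.nn) := by
  rw [Dm_sub S.ι S.RL h1, br_E_eq, map_neg, map_sum, LinearMap.neg_apply, LinearMap.sum_apply, ← neg_sub',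
    ← Finset.sum_sub_distrib]
  refine neg_mem (sum_mem fun t _ => ?_)
  rw [map_smul, LinearMap.smul_apply, ← smul_sub, br_RL]
  exact Submodule.smul_mem _ _ (S.br_u_g h5 t hy)

theorem br_D_g' {m : ℕ} (h1 : 1 ≤ m) (hy : y ∈ S.Fg d) : Dm S.ι S.RL m y ∈ S.Fg (d + S.nn) := by
  rw [Dm_sub S.ι S.RL h1]
  exact neg_mem (sum_mem fun t _ => Submodule.smul_mem _ _ (by rw [br_RL]; exact S.br_u_g' h5 t hy))

/-- the leading term of `D_{p ^ j}` -/
theorem br_D_gr (j : ℕ) (hy : y ∈ S.Fg d) : S.grg (d + S.nn) (Dm S.ι S.RL (p ^ j) y) = br k (S.br_e j) (S.grg d y) := by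
  rw [S.br_gr_eq (S.br_D_g h5 (Nat.pow_pos S.prime.pos) hy), add_comm,
    S.br_grg_br (two_ne (S.br_h12 h5)) (S.br_E_mem h5 _) hy, br_e]

open Classical in
/-- the digits outside `I0` count more -/
theorem br_D_plus : ∃ n', S.nn < n' ∧ ∀ m, 1 ≤ m → m ≤ Fintype.card K - 1 → ∀ d, ∀ y ∈ S.Fg d,
    Dm S.ι S.RL m y ∈ S.Fg (d + ∑ j ∈ Finset.range a, (m / p ^ j % p : ℕ) * if S.br_e j = 0 then n' else S.nn) := by
  have := S.chark
  have := S.charK
  have : Fact p.Prime := ⟨S.prime⟩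
  obtain ⟨n', h1, h2⟩ := S.br_gap ac (adM k) S.nn
  refine ⟨n', h1, fun m h3 h4 d y hy => Dm_filt S.ι S.RL p S.cardK S.Fg (fun j => if S.br_e j = 0 then n' else S.nn)
    (fun j hj d x hx => ?_) h3 h4 hy⟩
  show _ ∈ S.Fg (d + if S.br_e j = 0 then n' else S.nn)
  split_ifs with h0
  · exact h2 _ (fun e y hy => S.br_Ft_of_gr (S.br_D_g' h5 (S.br_pow hj).1 hy) (by
      rw [S.br_D_gr h5 j hy, h0, map_zero, LinearMap.zero_apply])) d x hx
  · exact S.br_D_g' h5 (S.br_pow hj).1 hx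

theorem br_j1_step (hd : d < 0) (hy : y ∈ S.Fg d)
    (h : ∀ j < a, S.br_e j ≠ 0 → Dm S.ι S.RL (p ^ j) y ∈ S.Fgt (d + S.nn)) : y ∈ S.Fgt d :=
  S.br_Ft_of_gr hy (S.br_cent_Lv h5 hd (S.br_gr_mem d y) fun j hj h0 => by
    rw [← S.br_D_gr h5 j hy, S.br_gr_of_Ft (h j hj h0)])

/-- **J1** for the operators `D_{p ^ j}`, `j ∈ I0` -/
theorem br_j1D (hd : d ≤ S.nn) (h : ∀ j < a, S.br_e j ≠ 0 → Dm S.ι S.RL (p ^ j) y ∈ S.Fg d) : y ∈ S.Fg (d - S.nn) :=
  S.br_F_of_step fun e he hy => S.br_j1_step h5 (by linarith) hy fun j hj h0 => S.br_F_le_Ft (by linarith) (h j hj h0)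

/-- **J1** -/
theorem j1 : S.J1 := fun y d hd h => S.br_j1D h5 hd fun j hj _ => by
  rw [Dm_sub S.ι S.RL (S.br_pow hj).1]
  exact neg_mem (sum_mem fun t _ => Submodule.smul_mem _ _ (by rw [br_RL]; exact h t))

/-! ### the action on `V` -/

end

end Sit

end Cfsg.Agent.E7P

private theorem dce_ba8d3344860a : _root_.True := by
  try have : _root_.True := by simp only [_root_.Cfsg.Agent.E7P.Sit.br_E.eq_1]
  try have : _root_.True := by simp only [_root_.Cfsg.Agent.E7P.Sit.br_DV.eq_1]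
  try have : _root_.True := by simp only [_root_.Cfsg.Agent.E7P.Sit.br_z.eq_1]
  try have : _root_.True := by simp only [_root_.Cfsg.Agent.E7P.Sit.br_u.eq_1]
  try have : _root_.True := by simp only [_root_.Cfsg.Agent.E7P.Sit.br_et.eq_1]
  try have : _root_.True := by simp only [_root_.Cfsg.Agent.E7P.Sit.br_e.eq_1]
  exact _root_.True.intro
end

-- part: E7P/Sp/If
section
set_option linter.all false

/-!
# S5932, tasks SPLIT and NONSPLIT: the interface (helper37)

* `Sp.Wl p a j` : the label with the digit `1` at `j` and `p - 2` at `j - 1`;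
* `Sit.NONSPLIT` : the character condition.
-/

set_option autoImplicit false

namespace Cfsg.Agent.E7P

open Cfsg.Agent.R2.H28.SL2 (IsMult)

universe u v

/-- the labels with non-trivial first cohomology -/
def Sp.Wl (p a j : ℕ) : ℕ := p ^ j + (p - 2) * p ^ ((j + a - 1) % a)

namespace Sit

variable {p a b : ℕ} {F : Type u} {K : Type v} {k : Type u} [Field F] [Fintype F] [Field K] [Fintype K] [Field k]
  (S : Sit p a b F K k)

/-- **NONSPLIT** : the forced factors and the pressure inequality are not compatible with the characters -/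
def NONSPLIT : Prop := ∀ [DecidableEq k] [DecidableEq K] [Fact p.Prime] [CharP k p] [CharP K p] (n : ℕ → ℕ),
  IsMult S.ι p a S.RL n → (∀ j < a, 1 ≤ n (2 * p ^ j) ∧ 2 ≤ n (Sp.Wl p a j)) →
    n 0 + a ≤ ∑ j ∈ Finset.range a, n (Sp.Wl p a j) → False

end Sit

end Cfsg.Agent.E7P
end
end
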